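/-
Twenty-bit vectors and linear maps given by their columns.
-/
import Mathlib

set_option autoImplicit false

namespace CfsgU6Mod

/-- The image of a vector under the map with the given columns. -/
def app : List ℕ → ℕ → ℕ
  | [], _ => 0
  | c :: cs, v => (bif Nat.beq (v &&& 1) 1 then c else 0) ^^^ app cs (v >>> 1)

/-- The composite, second map first. -/
def comp (A B : List ℕ) : List ℕ := B.map (app A)

/-- A code of a map of the twenty-space. -/
def okC (M : List ℕ) : Bool := Nat.beq M.length 20 && M.all fun c => Nat.blt c (2 ^ 20)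

/-- The identity. -/
def idC : List ℕ := (List.range 20).map fun i => 1 <<< i

theorem bit01 (u : ℕ) : u &&& 1 = 0 ∨ u &&& 1 = 1 := by
  have := Nat.and_le_right (n := u) (m := 1); omega

theorem app_add : ∀ (L : List ℕ) (u v : ℕ), app L (u ^^^ v) = app L u ^^^ app L v
  | [], _, _ => by simp [app]
  | c :: L, u, v => by
    simp only [app, Nat.shiftRight_xor_distrib, app_add L, Nat.and_xor_distrib_right]
    rcases bit01 u with hu | hu <;> rcases bit01 v with hv | hv <;> rw [hu, hv]
    · simp [show Nat.beq 0 1 = false from rfl]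
    · simp only [show Nat.beq (0 ^^^ 1) 1 = true from rfl, show Nat.beq 0 1 = false from rfl,
        show Nat.beq 1 1 = true from rfl, cond_true, cond_false]
      simp only [Nat.zero_xor]
      ac_rfl
    · simp only [show Nat.beq (1 ^^^ 0) 1 = true from rfl, show Nat.beq 0 1 = false from rfl,
        show Nat.beq 1 1 = true from rfl, cond_true, cond_false]
      simp only [Nat.zero_xor]
      ac_rfl
    · simp only [show Nat.beq (1 ^^^ 1) 1 = false from rfl, show Nat.beq 1 1 = true from rfl, cond_true,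
        cond_false, Nat.zero_xor]
      rw [show c ^^^ app L (u >>> 1) ^^^ (c ^^^ app L (v >>> 1)) =
        (c ^^^ c) ^^^ (app L (u >>> 1) ^^^ app L (v >>> 1)) by ac_rfl, Nat.xor_self, Nat.zero_xor]

theorem app_zero : ∀ L : List ℕ, app L 0 = 0
  | [] => rfl
  | c :: L => by simp [app, app_zero L, show Nat.beq 0 1 = false from rfl]

theorem app_lt : ∀ (L : List ℕ) (n : ℕ), (∀ c ∈ L, c < 2 ^ n) → ∀ v, app L v < 2 ^ n
  | [], _, _, _ => Nat.two_pow_pos _
  | c :: L, n, h, v => by
    refine Nat.xor_lt_two_pow ?_ (app_lt L n (fun d hd => h d (List.mem_cons_of_mem _ hd)) _)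
    cases Nat.beq (v &&& 1) 1
    · exact Nat.two_pow_pos _
    · exact h c (List.mem_cons_self)

theorem okC_lt {M : List ℕ} (h : okC M = true) (v : ℕ) : app M v < 2 ^ 20 := by
  simp only [okC, Bool.and_eq_true, List.all_eq_true, Nat.blt_eq] at h
  exact app_lt M 20 h.2 v

theorem app_cons_bit (c : ℕ) (L : List ℕ) (i : ℕ) : app (c :: L) (1 <<< (i + 1)) = app L (1 <<< i) := by
  have h1 : (1 <<< (i + 1)) &&& 1 = 0 := by
    rw [Nat.and_one_is_mod, Nat.one_shiftLeft, pow_succ]; omega
  have h2 : (1 <<< (i + 1)) >>> 1 = 1 <<< i := by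
    rw [Nat.shiftRight_eq_div_pow, Nat.one_shiftLeft, Nat.one_shiftLeft, pow_succ]; omega
  rw [app, h1, h2]
  simp [show Nat.beq 0 1 = false from rfl]

theorem app_bit : ∀ (L : List ℕ) (i : ℕ), app L (1 <<< i) = L.getD i 0
  | [], i => by simp [app]
  | c :: L, 0 => by simp [app, show Nat.beq 1 1 = true from rfl, app_zero]
  | c :: L, i + 1 => by rw [app_cons_bit, app_bit L i]; simp

/-- Additive functions agreeing on the bits agree everywhere. -/
theorem ext_bits {M : Type*} (op : M → M → M) (f g : ℕ → M) :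
    ∀ n, (∀ u < 2 ^ n, ∀ v < 2 ^ n, f (u ^^^ v) = op (f u) (f v)) → (∀ u < 2 ^ n, ∀ v < 2 ^ n, g (u ^^^ v) = op (g u) (g v)) →
      f 0 = g 0 → (∀ i < n, f (1 <<< i) = g (1 <<< i)) → ∀ v < 2 ^ n, f v = g v
  | 0, _, _, h0, _, v, hv => by rw [show v = 0 by simpa using hv]; exact h0
  | n + 1, hf, hg, h0, hb, v, hv => by
    have hn : 2 ^ n < 2 ^ (n + 1) := by rw [pow_succ]; have := Nat.two_pow_pos n; omega
    have ih := ext_bits op f g n (fun a ha b hb' => hf a (ha.trans hn) b (hb'.trans hn))
      (fun a ha b hb' => hg a (ha.trans hn) b (hb'.trans hn)) h0 (fun i hi => hb i (by omega))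
    rcases Nat.lt_or_ge v (2 ^ n) with h | h
    · exact ih v h
    · have hx : v = (1 <<< n) ^^^ (v ^^^ (1 <<< n)) := by
        rw [Nat.xor_comm v, ← Nat.xor_assoc, Nat.xor_self, Nat.zero_xor]
      have hlow : v ^^^ (1 <<< n) < 2 ^ n := by
        rw [Nat.one_shiftLeft]
        refine Nat.lt_pow_two_of_testBit _ fun i hi => ?_
        rw [Nat.testBit_xor, Nat.testBit_two_pow]
        rcases Nat.lt_or_ge i (n + 1) with hi' | hi'
        · obtain rfl : i = n := by omega
          rw [Nat.testBit_eq_decide_div_mod_eq]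
          have : v / 2 ^ i % 2 = 1 := by
            have hp := Nat.two_pow_pos i
            have h1 : v / 2 ^ i = 1 := Nat.div_eq_of_lt_le (by omega) (by rw [pow_succ] at hv; omega)
            rw [h1]
          simp [this]
        · rw [Nat.testBit_lt_two_pow (lt_of_lt_of_le hv (Nat.pow_le_pow_right (by norm_num) hi'))]
          simp [show n ≠ i by omega]
      have hp : (1 <<< n) < 2 ^ (n + 1) := by rw [Nat.one_shiftLeft]; exact hn
      rw [hx, hf _ hp _ (hlow.trans hn), hg _ hp _ (hlow.trans hn), hb n (by omega), ih _ hlow]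

theorem app_idC : ∀ v < 2 ^ 20, app idC v = v := by
  refine ext_bits (· ^^^ ·) _ id 20 (fun _ _ _ _ => app_add _ _ _) (fun _ _ _ _ => rfl) (app_zero _) ?_
  intro i hi
  rw [app_bit]
  interval_cases i <;> rfl

theorem app_comp {A B : List ℕ} (hB : okC B = true) : ∀ v < 2 ^ 20, app (comp A B) v = app A (app B v) := by
  refine ext_bits (· ^^^ ·) _ _ 20 (fun _ _ _ _ => app_add _ _ _) (fun u _ v _ => ?_) ?_ ?_
  · rw [app_add, app_add]
  · rw [app_zero, app_zero, app_zero]
  · intro i hi
    simp only [okC, Bool.and_eq_true, Nat.beq_eq] at hB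
    have hlen : i < B.length := by omega
    rw [app_bit, app_bit, comp, List.getD_eq_getElem _ _ (by rw [List.length_map]; exact hlen),
      List.getElem_map, List.getD_eq_getElem _ _ hlen]

theorem okC_comp {A B : List ℕ} (hA : okC A = true) (hB : okC B = true) : okC (comp A B) = true := by
  simp only [okC, Bool.and_eq_true, Nat.beq_eq, List.all_eq_true, Nat.blt_eq] at hB ⊢
  refine ⟨by rw [comp, List.length_map]; exact hB.1, fun c hc => ?_⟩
  obtain ⟨b, -, rfl⟩ := List.mem_map.1 hc
  exact okC_lt hA b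

/-- Equality of codes. -/
def beqC : List ℕ → List ℕ → Bool
  | [], [] => true
  | a :: A, b :: B => Nat.beq a b && beqC A B
  | _, _ => false

theorem beqC_eq : ∀ {A B : List ℕ}, beqC A B = true → A = B
  | [], [], _ => rfl
  | [], _ :: _, h => by simp [beqC] at h
  | _ :: _, [], h => by simp [beqC] at h
  | a :: A, b :: B, h => by
    simp only [beqC, Bool.and_eq_true] at h
    rw [Nat.eq_of_beq_eq_true h.1, beqC_eq h.2]

theorem okC_idC : okC idC = true := by decide +kernel

/-- Membership in a list of numbers. -/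
def memN (x : ℕ) : List ℕ → Bool
  | [] => false
  | a :: L => Nat.beq a x || memN x L

theorem memN_iff {x : ℕ} : ∀ {L : List ℕ}, memN x L = true ↔ x ∈ L
  | [] => by simp [memN]
  | a :: L => by
    simp only [memN, Bool.or_eq_true, List.mem_cons, Nat.beq_eq, memN_iff (L := L)]
    exact or_congr_left eq_comm

end CfsgU6Mod
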