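/-
Generators of SU6(2), their twenty-dimensional codes and certificates (generated).
-/
import Mathlib

set_option autoImplicit false

namespace CfsgU6Mod

/-- Five transpositions, four diagonal elements and a transvection, as matrices. -/
def genN : List ℕ :=
  [1180663682709764182020, 1180663682709562916865, 1180663679412034617345, 1180609652708375281665, 295436139953819500545, 3541846924144586801154, 3541846924144586817537, 3541846924144855236609, 3541846928542633312257, 1180663679755716202580]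

/-- Their codes on the module. -/
def genA : List (List ℕ) :=
  [[1, 2, 4, 8, 16, 32, 64, 128, 262144, 786432, 65536, 196608, 16384, 49152, 4096, 12288, 1024, 3072, 256, 768],
  [1, 2, 256, 512, 1024, 2048, 4096, 8192, 4, 8, 16, 32, 64, 128, 16384, 32768, 65536, 131072, 262144, 524288],
  [4, 8, 1, 2, 16, 32, 64, 128, 256, 512, 16384, 32768, 65536, 131072, 1024, 2048, 4096, 8192, 262144, 524288],
  [1, 2, 16, 32, 4, 8, 64, 128, 1024, 2048, 256, 512, 4096, 8192, 16384, 32768, 262144, 524288, 65536, 131072],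
  [1, 2, 4, 8, 64, 128, 16, 32, 256, 512, 4096, 8192, 1024, 2048, 65536, 131072, 16384, 32768, 262144, 524288],
  [2, 3, 8, 12, 32, 48, 64, 128, 512, 768, 2048, 3072, 4096, 8192, 32768, 49152, 65536, 131072, 262144, 524288],
  [2, 3, 8, 12, 32, 48, 64, 128, 256, 512, 1024, 2048, 12288, 4096, 16384, 32768, 196608, 65536, 786432, 262144],
  [2, 3, 4, 8, 16, 32, 192, 64, 512, 768, 2048, 3072, 4096, 8192, 16384, 32768, 196608, 65536, 786432, 262144],
  [1, 2, 8, 12, 16, 32, 192, 64, 512, 768, 1024, 2048, 12288, 4096, 32768, 49152, 65536, 131072, 786432, 262144],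
  [262404, 786952, 262401, 786946, 87056, 243744, 87104, 191616, 262149, 786442, 83024, 231648, 86096, 188592, 21584, 47328, 70736, 142512, 261, 783]]

/-- The involution exchanging the two triples. -/
def wC : List ℕ :=
  [2, 3, 4, 1, 2, 3, 0, 1, 2]

/-- Permutations carrying the first triple to each triple. -/
def wTrip : List (List ℕ) :=
  [[], [2], [3, 2], [4, 3, 2], [1, 2], [3, 1, 2], [4, 3, 1, 2], [2, 3, 1, 2], [4, 2, 3, 1, 2], [3, 4, 2, 3, 1, 2]]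

/-- A diagonal element of weight one on each triple. -/
def xTrip : List ℕ :=
  [1, 1, 1, 18, 1, 1, 6, 1, 6, 6]

/-- For each generator and basis vector: target triple, diagonal part, stabiliser word, scalar. -/
def permCert : List (List (ℕ × ℕ × List ℕ × ℕ)) :=
  [[(0, 0, [0], 1),
   (0, 3, [0], 1),
   (1, 0, [0], 1),
   (1, 3, [0], 1),
   (2, 0, [0], 1),
   (2, 3, [0], 1),
   (3, 0, [0], 1),
   (3, 18, [0], 1),
   (9, 0, [2, 3, 4, 1, 2, 3, 0, 1, 2], 1),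
   (9, 3, [2, 3, 4, 1, 2, 3, 0, 1, 2], 1),
   (8, 0, [2, 3, 4, 1, 2, 3, 0, 1, 2], 1),
   (8, 3, [2, 3, 4, 1, 2, 3, 0, 1, 2], 1),
   (7, 0, [2, 3, 4, 1, 2, 3, 0, 1, 2], 1),
   (7, 2, [2, 3, 4, 1, 2, 3, 0, 1, 2], 1),
   (6, 0, [2, 3, 4, 1, 2, 3, 0, 1, 2], 1),
   (6, 3, [2, 3, 4, 1, 2, 3, 0, 1, 2], 1),
   (5, 0, [2, 3, 4, 1, 2, 3, 0, 1, 2], 1),
   (5, 2, [2, 3, 4, 1, 2, 3, 0, 1, 2], 1),
   (4, 0, [2, 3, 4, 1, 2, 3, 0, 1, 2], 1),
   (4, 2, [2, 3, 4, 1, 2, 3, 0, 1, 2], 1)],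
  [(0, 0, [1], 1),
   (0, 1, [1], 1),
   (4, 0, [], 1),
   (4, 1, [], 1),
   (5, 0, [], 1),
   (5, 1, [], 1),
   (6, 0, [], 1),
   (6, 6, [], 1),
   (1, 0, [], 1),
   (1, 1, [], 1),
   (2, 0, [], 1),
   (2, 1, [], 1),
   (3, 0, [], 1),
   (3, 18, [], 1),
   (7, 0, [3], 1),
   (7, 1, [3], 1),
   (8, 0, [3], 1),
   (8, 18, [3], 1),
   (9, 0, [3], 1),
   (9, 18, [3], 1)],
  [(1, 0, [], 1),
   (1, 1, [], 1),
   (0, 0, [], 1),
   (0, 1, [], 1),
   (2, 0, [3], 1),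
   (2, 1, [3], 1),
   (3, 0, [3], 1),
   (3, 54, [3], 1),
   (4, 0, [1], 1),
   (4, 1, [1], 1),
   (7, 0, [], 1),
   (7, 1, [], 1),
   (8, 0, [], 1),
   (8, 6, [], 1),
   (5, 0, [], 1),
   (5, 1, [], 1),
   (6, 0, [], 1),
   (6, 6, [], 1),
   (9, 0, [4], 1),
   (9, 6, [4], 1)],
  [(0, 0, [3], 1),
   (0, 1, [3], 1),
   (2, 0, [], 1),
   (2, 1, [], 1),
   (1, 0, [], 1),
   (1, 1, [], 1),
   (3, 0, [4], 1),
   (3, 18, [4], 1),
   (5, 0, [], 1),
   (5, 1, [], 1),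
   (4, 0, [], 1),
   (4, 1, [], 1),
   (6, 0, [4], 1),
   (6, 6, [4], 1),
   (7, 0, [1], 1),
   (7, 1, [1], 1),
   (9, 0, [], 1),
   (9, 6, [], 1),
   (8, 0, [], 1),
   (8, 6, [], 1)],
  [(0, 0, [4], 1),
   (0, 41, [4], 3),
   (1, 0, [4], 1),
   (1, 41, [4], 3),
   (3, 0, [], 1),
   (3, 41, [], 3),
   (2, 0, [], 1),
   (2, 71, [], 2),
   (4, 0, [4], 1),
   (4, 41, [4], 3),
   (6, 0, [], 1),
   (6, 41, [], 3),
   (5, 0, [], 1),
   (5, 77, [], 2),
   (8, 0, [], 1),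
   (8, 41, [], 3),
   (7, 0, [], 1),
   (7, 77, [], 2),
   (9, 0, [1], 1),
   (9, 77, [1], 2)],
  [(0, 1, [], 1),
   (0, 2, [], 1),
   (1, 1, [], 1),
   (1, 2, [], 1),
   (2, 1, [], 1),
   (2, 2, [], 1),
   (3, 1, [], 1),
   (3, 19, [], 1),
   (4, 1, [], 1),
   (4, 2, [], 1),
   (5, 1, [], 1),
   (5, 2, [], 1),
   (6, 1, [], 1),
   (6, 7, [], 1),
   (7, 1, [], 1),
   (7, 2, [], 1),
   (8, 1, [], 1),
   (8, 7, [], 1),
   (9, 1, [], 1),
   (9, 7, [], 1)],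
  [(0, 3, [], 1),
   (0, 4, [], 1),
   (1, 3, [], 1),
   (1, 4, [], 1),
   (2, 3, [], 1),
   (2, 4, [], 1),
   (3, 3, [], 1),
   (3, 21, [], 1),
   (4, 3, [], 1),
   (4, 4, [], 1),
   (5, 3, [], 1),
   (5, 4, [], 1),
   (6, 3, [], 1),
   (6, 0, [], 1),
   (7, 3, [], 1),
   (7, 4, [], 1),
   (8, 3, [], 1),
   (8, 0, [], 1),
   (9, 3, [], 1),
   (9, 0, [], 1)],
  [(0, 9, [], 1),
   (0, 10, [], 1),
   (1, 9, [], 1),
   (1, 10, [], 1),
   (2, 9, [], 1),
   (2, 10, [], 1),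
   (3, 9, [], 1),
   (3, 0, [], 1),
   (4, 9, [], 1),
   (4, 10, [], 1),
   (5, 9, [], 1),
   (5, 10, [], 1),
   (6, 9, [], 1),
   (6, 15, [], 1),
   (7, 9, [], 1),
   (7, 10, [], 1),
   (8, 9, [], 1),
   (8, 15, [], 1),
   (9, 9, [], 1),
   (9, 15, [], 1)],
  [(0, 27, [], 1),
   (0, 28, [], 1),
   (1, 27, [], 1),
   (1, 28, [], 1),
   (2, 27, [], 1),
   (2, 28, [], 1),
   (3, 27, [], 1),
   (3, 45, [], 1),
   (4, 27, [], 1),
   (4, 28, [], 1),
   (5, 27, [], 1),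
   (5, 28, [], 1),
   (6, 27, [], 1),
   (6, 33, [], 1),
   (7, 27, [], 1),
   (7, 28, [], 1),
   (8, 27, [], 1),
   (8, 33, [], 1),
   (9, 27, [], 1),
   (9, 33, [], 1)]]

/-- The diagonal element commuting with the transvection and separating its blocks. -/
def yW : List ℕ :=
  [5, 5, 6, 6, 7, 7, 8, 8]

/-- Words fixing the first unknown vector. -/
def fixA : List (List ℕ) :=
  [[1], [2], [4], [5, 6, 7, 8]]

/-- Words fixing the second unknown vector. -/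
def fixB : List (List ℕ) :=
  [[1], [2], [4], [5, 6, 7, 8]]

/-- Words fixing the third unknown vector. -/
def fixW : List (List ℕ) :=
  [[0], [2], [4, 1, 2, 0, 1]]

/-- Each column from an unknown vector. -/
def colW : List (List ℕ × ℕ × ℕ) :=
  [([2, 1, 0], 1, 0),
   ([2, 1, 0], 3, 0),
   ([1, 0], 1, 0),
   ([1, 0], 3, 0),
   ([], 1, 1),
   ([5, 5, 6, 6, 7, 7, 8, 8], 1, 1),
   ([4], 1, 1),
   ([5, 6, 7, 8, 4], 1, 1),
   ([0], 1, 0),
   ([0], 3, 0),
   ([1], 1, 1),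
   ([5, 5, 6, 6, 7, 7, 8, 8, 1], 1, 1),
   ([4, 1], 1, 1),
   ([5, 6, 7, 8, 4, 1], 1, 1),
   ([2, 1], 1, 1),
   ([5, 5, 6, 6, 7, 7, 8, 8, 2, 1], 1, 1),
   ([0, 1], 1, 1),
   ([5, 6, 7, 8, 0, 1], 1, 1),
   ([], 1, 0),
   ([], 2, 0)]

/-- The positions of the unknown columns. -/
def colPos : List ℕ :=
  [18, 19, 4]

/-- The image of the block fixed by the diagonal element. -/
def dZ : List ℕ :=
  [1, 2, 4, 8, 256, 512, 262144, 524288]

/-- Coordinates on it. -/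
def eZ : List ℕ :=
  [1, 2, 4, 8, 0, 0, 0, 0, 16, 32, 0, 0, 0, 0, 0, 0, 0, 0, 64, 128]

/-- The image of the moved block. -/
def dM : List ℕ :=
  [16, 32, 64, 128, 1024, 2048, 4096, 8192, 16384, 32768, 65536, 131072]

/-- Coordinates on it. -/
def eM : List ℕ :=
  [0, 0, 0, 0, 1, 2, 4, 8, 0, 0, 16, 32, 64, 128, 256, 512, 1024, 2048, 0, 0]

/-- Transpositions braiding with the transvection. -/
def braidW : List (List ℕ) :=
  [[3], [5, 6, 7, 8, 8, 3], [5, 6, 6, 0]]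

/-- A conjugate of the transvection commuting with it. -/
def conjR : List ℕ :=
  [1, 2, 3, 4, 0, 1, 2, 3, 9, 3, 4, 2, 3, 1, 2, 0, 1]

/-- The codes of the column words. -/
def colC : List (List ℕ) :=
  [[4, 8, 256, 512, 16384, 32768, 65536, 131072, 262144, 786432, 4096, 12288, 1024, 3072, 64, 192, 16, 48, 1, 3],
   [4, 8, 256, 512, 16384, 32768, 65536, 131072, 262144, 786432, 4096, 12288, 1024, 3072, 64, 192, 16, 48, 1, 3],
   [1, 2, 256, 512, 1024, 2048, 4096, 8192, 262144, 786432, 65536, 196608, 16384, 49152, 64, 192, 16, 48, 4, 12],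
   [1, 2, 256, 512, 1024, 2048, 4096, 8192, 262144, 786432, 65536, 196608, 16384, 49152, 64, 192, 16, 48, 4, 12],
   [1, 2, 4, 8, 16, 32, 64, 128, 256, 512, 1024, 2048, 4096, 8192, 16384, 32768, 65536, 131072, 262144, 524288],
   [1, 2, 4, 8, 32, 48, 192, 64, 256, 512, 2048, 3072, 12288, 4096, 32768, 49152, 196608, 65536, 262144, 524288],
   [1, 2, 4, 8, 64, 128, 16, 32, 256, 512, 4096, 8192, 1024, 2048, 65536, 131072, 16384, 32768, 262144, 524288],
   [1, 2, 4, 8, 128, 192, 48, 16, 256, 512, 8192, 12288, 3072, 1024, 131072, 196608, 49152, 16384, 262144, 524288],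
   [1, 2, 4, 8, 16, 32, 64, 128, 262144, 786432, 65536, 196608, 16384, 49152, 4096, 12288, 1024, 3072, 256, 768],
   [1, 2, 4, 8, 16, 32, 64, 128, 262144, 786432, 65536, 196608, 16384, 49152, 4096, 12288, 1024, 3072, 256, 768],
   [1, 2, 256, 512, 1024, 2048, 4096, 8192, 4, 8, 16, 32, 64, 128, 16384, 32768, 65536, 131072, 262144, 524288],
   [1, 2, 256, 512, 2048, 3072, 12288, 4096, 4, 8, 32, 48, 192, 64, 32768, 49152, 196608, 65536, 262144, 524288],
   [1, 2, 256, 512, 4096, 8192, 1024, 2048, 4, 8, 64, 128, 16, 32, 65536, 131072, 16384, 32768, 262144, 524288],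
   [1, 2, 256, 512, 8192, 12288, 3072, 1024, 4, 8, 128, 192, 48, 16, 131072, 196608, 49152, 16384, 262144, 524288],
   [4, 8, 256, 512, 16384, 32768, 65536, 131072, 1, 2, 16, 32, 64, 128, 1024, 2048, 4096, 8192, 262144, 524288],
   [4, 8, 256, 512, 32768, 49152, 196608, 65536, 1, 2, 32, 48, 192, 64, 2048, 3072, 12288, 4096, 262144, 524288],
   [1, 2, 262144, 786432, 65536, 196608, 16384, 49152, 4, 8, 16, 32, 64, 128, 4096, 12288, 1024, 3072, 256, 768],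
   [1, 2, 262144, 786432, 131072, 65536, 49152, 32768, 4, 8, 48, 16, 128, 192, 8192, 4096, 3072, 2048, 256, 768],
   [1, 2, 4, 8, 16, 32, 64, 128, 256, 512, 1024, 2048, 4096, 8192, 16384, 32768, 65536, 131072, 262144, 524288],
   [1, 2, 4, 8, 16, 32, 64, 128, 256, 512, 1024, 2048, 4096, 8192, 16384, 32768, 65536, 131072, 262144, 524288]]

end CfsgU6Mod
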