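/-
Words in the generators of SU6(2) and their equality up to scalars.
-/
import Cfsg.Agent.Lib.SUSixSub.Codes
import Cfsg.Agent.Lib.U6Mod.IdentData
import Cfsg.Agent.Lib.U6Mod.Code

set_option autoImplicit false
set_option maxRecDepth 30000

namespace CfsgU6Mod

open Matrix CfsgLib.G24 CfsgLib.SUSixSub Subgroup

/-- The code of a generator. -/
def genM (k : ℕ) : M6 := ofN (genN.getD k 0)

theorem genM_ok : ((List.range 10).all fun k => okM (genM k)) = true ∧ Nat.beq genN.length 10 = true := by
  decide +kernel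

/-- A generator. -/
noncomputable def gen (k : ℕ) : Γ := el (genM k)

/-- The product of a word. -/
noncomputable def wG : List ℕ → Γ
  | [] => 1
  | k :: w => gen k * wG w

/-- Its code. -/
def wM : List ℕ → M6
  | [] => oneM
  | k :: w => mulM (genM k) (wM w)

/-- All letters are generators. -/
def okW (w : List ℕ) : Bool := w.all fun k => Nat.blt k 10

theorem gm_wG : ∀ {w : List ℕ}, okW w = true → gm (wG w) = mat6 (wM w)
  | [], _ => by rw [wG, wM, gm_one, mat6_one]
  | k :: w, h => by
    simp only [okW, List.all_cons, Bool.and_eq_true, Nat.blt_eq] at h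
    rw [wG, wM, gm_mul, mat6_mul, gm_wG (w := w) h.2, gen,
      gm_el (List.all_eq_true.mp genM_ok.1 k (List.mem_range.mpr h.1))]

theorem wG_append : ∀ u v : List ℕ, wG (u ++ v) = wG u * wG v
  | [], v => by simp [wG]
  | k :: u, v => by rw [List.cons_append, wG, wG, wG_append u v, mul_assoc]

/-- A scalar multiple. -/
def smM (c : K) (A : M6) : M6 := ofF fun i k => K.mulK c (mat6 A i k)

theorem mat6_smM (c : K) (A : M6) : mat6 (smM c A) = c • mat6 A := by
  ext i k
  rw [smM, mat6_ofF]
  rfl

/-- The two words agree up to a scalar. -/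
def relOK (u v : List ℕ) : Bool :=
  okW u && okW v && [K.i, K.w, K.v].any fun c => beqM (wM u) (smM c (wM v))

theorem central_of_smul {g : Γ} {c : K} (h : gm g = c • 1) : g ∈ center Γ := by
  rw [mem_center_iff]
  intro x
  refine gm_inj ?_
  rw [gm_mul, gm_mul, h, Matrix.smul_mul, Matrix.one_mul, Matrix.mul_smul, Matrix.mul_one]

theorem rel_center {u v : List ℕ} (h : relOK u v = true) : (wG v)⁻¹ * wG u ∈ center Γ := by
  simp only [relOK, Bool.and_eq_true, List.any_eq_true] at h
  obtain ⟨⟨hu, hv⟩, c, -, hc⟩ := h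
  refine central_of_smul (c := c) ?_
  have e : gm (wG u) = c • gm (wG v) := by rw [gm_wG hu, gm_wG hv, of_beqM hc, mat6_smM]
  rw [gm_mul, e, Matrix.mul_smul, ← gm_mul, inv_mul_cancel, gm_one]

/-- A faithful action of PSU6(2) on an elementary abelian group of order 2^20. -/
structure UAct (M : Type*) [AddCommGroup M] where
  act : Γ → (M ≃+ M)
  act_mul : ∀ (g h : Γ) (m : M), act (g * h) m = act g (act h m)
  two : ∀ m : M, m + m = 0
  card : Nat.card M = 2 ^ 20
  ker : ∀ g, (∀ m, act g m = m) ↔ g ∈ center Γ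

namespace UAct

variable {M : Type*} [AddCommGroup M] (U : UAct M)

/-- The action of a word. -/
noncomputable def wA (w : List ℕ) : M ≃+ M := U.act (wG w)

theorem act_one (m : M) : U.act 1 m = m := (U.ker 1).2 (one_mem _) m

theorem act_inv (g : Γ) (m : M) : U.act g⁻¹ (U.act g m) = m := by
  rw [← U.act_mul, inv_mul_cancel, U.act_one]

theorem wA_nil (m : M) : U.wA [] m = m := U.act_one m

theorem wA_append (u v : List ℕ) (m : M) : U.wA (u ++ v) m = U.wA u (U.wA v m) := by
  rw [wA, wG_append, U.act_mul]; rfl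

theorem wA_rel {u v : List ℕ} (h : relOK u v = true) (m : M) : U.wA u m = U.wA v m := by
  have := congrArg (U.act (wG v)) ((U.ker _).2 (rel_center h) m)
  rwa [← U.act_mul, mul_inv_cancel_left] at this

theorem wA_apply_rel {u v u' v' : List ℕ} (h : relOK (u ++ v) (u' ++ v') = true) (m : M) :
    U.wA u (U.wA v m) = U.wA u' (U.wA v' m) := by
  rw [← wA_append, ← wA_append, U.wA_rel h]

end UAct

end CfsgU6Mod
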