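/-
Functionals on four ternary digits and their images under the five adjacent transpositions (generated).
-/
import Mathlib

set_option autoImplicit false

namespace CfsgU6Mod

/-- The forty functionals. -/
def funL : List (List ℕ) :=
  [[0, 0, 0, 1], [0, 0, 1, 0], [0, 0, 1, 1], [0, 0, 1, 2], [0, 1, 0, 0],
  [0, 1, 0, 1], [0, 1, 0, 2], [0, 1, 1, 0], [0, 1, 1, 1], [0, 1, 1, 2],
  [0, 1, 2, 0], [0, 1, 2, 1], [0, 1, 2, 2], [1, 0, 0, 0], [1, 0, 0, 1],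
  [1, 0, 0, 2], [1, 0, 1, 0], [1, 0, 1, 1], [1, 0, 1, 2], [1, 0, 2, 0],
  [1, 0, 2, 1], [1, 0, 2, 2], [1, 1, 0, 0], [1, 1, 0, 1], [1, 1, 0, 2],
  [1, 1, 1, 0], [1, 1, 1, 1], [1, 1, 1, 2], [1, 1, 2, 0], [1, 1, 2, 1],
  [1, 1, 2, 2], [1, 2, 0, 0], [1, 2, 0, 1], [1, 2, 0, 2], [1, 2, 1, 0],
  [1, 2, 1, 1], [1, 2, 1, 2], [1, 2, 2, 0], [1, 2, 2, 1], [1, 2, 2, 2]]

/-- The action of the transpositions on the functionals. -/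
def sigF : List (List ℕ) :=
  [[0, 1, 2, 3, 13, 14, 15, 16, 17, 18, 19, 20, 21, 4, 5, 6, 7, 8, 9, 10, 11, 12, 22, 23, 24, 25, 26, 27, 28, 29, 30, 31, 33, 32, 37, 39, 38, 34, 36, 35],
  [0, 4, 5, 6, 1, 2, 3, 7, 8, 9, 10, 12, 11, 13, 14, 15, 22, 23, 24, 31, 32, 33, 16, 17, 18, 25, 26, 27, 34, 35, 36, 19, 20, 21, 28, 29, 30, 37, 38, 39],
  [1, 0, 2, 3, 4, 7, 10, 5, 8, 11, 6, 9, 12, 13, 16, 19, 14, 17, 20, 15, 18, 21, 22, 25, 28, 23, 26, 29, 24, 27, 30, 31, 34, 37, 32, 35, 38, 33, 36, 39],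
  [0, 3, 2, 1, 6, 5, 4, 8, 7, 9, 10, 12, 11, 15, 14, 13, 17, 16, 18, 19, 21, 20, 23, 22, 24, 25, 27, 26, 30, 29, 28, 31, 33, 32, 36, 35, 34, 38, 37, 39],
  [27, 29, 22, 3, 35, 16, 6, 14, 8, 37, 10, 33, 21, 39, 7, 15, 5, 17, 34, 19, 32, 12, 2, 23, 28, 25, 26, 0, 24, 1, 30, 31, 20, 11, 18, 4, 36, 9, 38, 13]]

/-- The action of the transpositions on the diagonal elements. -/
def sigX : List (List ℕ) :=
  [[0, 3, 6, 1, 4, 7, 2, 5, 8, 9, 12, 15, 10, 13, 16, 11, 14, 17, 18, 21, 24, 19, 22, 25, 20, 23, 26, 27, 30, 33, 28, 31, 34, 29, 32, 35, 36, 39, 42, 37, 40, 43, 38, 41, 44, 45, 48, 51, 46, 49, 52, 47, 50, 53, 54, 57, 60, 55, 58, 61, 56, 59, 62, 63, 66, 69, 64, 67, 70, 65, 68, 71, 72, 75, 78, 73, 76, 79, 74, 77, 80],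
  [0, 1, 2, 9, 10, 11, 18, 19, 20, 3, 4, 5, 12, 13, 14, 21, 22, 23, 6, 7, 8, 15, 16, 17, 24, 25, 26, 27, 28, 29, 36, 37, 38, 45, 46, 47, 30, 31, 32, 39, 40, 41, 48, 49, 50, 33, 34, 35, 42, 43, 44, 51, 52, 53, 54, 55, 56, 63, 64, 65, 72, 73, 74, 57, 58, 59, 66, 67, 68, 75, 76, 77, 60, 61, 62, 69, 70, 71, 78, 79, 80],
  [0, 1, 2, 3, 4, 5, 6, 7, 8, 27, 28, 29, 30, 31, 32, 33, 34, 35, 54, 55, 56, 57, 58, 59, 60, 61, 62, 9, 10, 11, 12, 13, 14, 15, 16, 17, 36, 37, 38, 39, 40, 41, 42, 43, 44, 63, 64, 65, 66, 67, 68, 69, 70, 71, 18, 19, 20, 21, 22, 23, 24, 25, 26, 45, 46, 47, 48, 49, 50, 51, 52, 53, 72, 73, 74, 75, 76, 77, 78, 79, 80],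
  [0, 1, 2, 3, 4, 5, 6, 7, 8, 9, 10, 11, 12, 13, 14, 15, 16, 17, 18, 19, 20, 21, 22, 23, 24, 25, 26, 80, 78, 79, 74, 72, 73, 77, 75, 76, 62, 60, 61, 56, 54, 55, 59, 57, 58, 71, 69, 70, 65, 63, 64, 68, 66, 67, 40, 41, 39, 43, 44, 42, 37, 38, 36, 49, 50, 48, 52, 53, 51, 46, 47, 45, 31, 32, 30, 34, 35, 33, 28, 29, 27],
  [0, 41, 79, 43, 72, 5, 77, 7, 36, 49, 60, 11, 56, 13, 51, 15, 47, 58, 71, 19, 30, 21, 35, 64, 28, 66, 26, 67, 24, 29, 20, 31, 69, 33, 65, 22, 8, 37, 75, 39, 80, 1, 73, 3, 44, 45, 59, 16, 61, 9, 50, 14, 52, 54, 53, 55, 12, 57, 17, 46, 10, 48, 62, 63, 23, 34, 25, 27, 68, 32, 70, 18, 4, 42, 74, 38, 76, 6, 78, 2, 40]]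

/-- The functionals of the ten triples. -/
def tripF : List ℕ :=
  [25, 23, 22, 2, 17, 16, 5, 14, 7, 8]

/-- An orbit, each member after its parent. -/
def orbA : List (ℕ × ℕ × ℕ) :=
  [(25, 5, 25), (23, 2, 25), (17, 1, 23), (22, 3, 23), (8, 0, 17), (16, 3, 17), (2, 4, 22), (7, 3, 8), (14, 2, 16), (5, 4, 16)]

/-- An orbit, each member after its parent. -/
def orbB : List (ℕ × ℕ × ℕ) :=
  [(0, 5, 0), (1, 2, 0), (27, 4, 0), (4, 1, 1), (3, 3, 1), (29, 4, 1), (26, 3, 27), (13, 0, 4), (6, 3, 4), (35, 4, 4), (15, 3, 13), (39, 4, 13), (10, 2, 6), (19, 2, 15), (31, 1, 19)]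

/-- An orbit, each member after its parent. -/
def orbC : List (ℕ × ℕ × ℕ) :=
  [(9, 5, 9), (18, 0, 9), (11, 2, 9), (37, 4, 9), (24, 1, 18), (20, 2, 18), (34, 4, 18), (12, 1, 11), (33, 4, 11), (38, 3, 37), (28, 2, 24), (32, 1, 20), (21, 3, 20), (36, 3, 34), (30, 3, 28)]

end CfsgU6Mod
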