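/-
The weight spaces of the diagonal group 3^4 on a faithful module of order 2^20 permuted by S₆:
ten spaces of order four, one for each splitting of six points into two triples.
-/
import Cfsg.Agent.Lib.U6Mod.WeightData
import Cfsg.Agent.Lib.U6Mod.Code

set_option autoImplicit false
set_option maxRecDepth 100000

namespace CfsgU6Mod

open Finset

/-- The value of a functional at a packed element of `(Z/3)^4`. -/
def dot81 (f : List ℕ) (x : ℕ) : ℕ :=
  (f.getD 0 0 * (x % 3) + f.getD 1 0 * (x / 3 % 3) + f.getD 2 0 * (x / 9 % 3) + f.getD 3 0 * (x / 27 % 3)) % 3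

/-- The sum of two packed elements. -/
def add81 (x y : ℕ) : ℕ :=
  (x % 3 + y % 3) % 3 + 3 * ((x / 3 % 3 + y / 3 % 3) % 3) + 9 * ((x / 9 % 3 + y / 9 % 3) % 3) +
    27 * ((x / 27 % 3 + y / 27 % 3) % 3)

/-- The negative. -/
def neg81 (x : ℕ) : ℕ := add81 x x

/-- The `k`th functional. -/
def fn (k : ℕ) : List ℕ := funL.getD k []

/-- The image of a packed element under a transposition. -/
def sx (i x : ℕ) : ℕ := (sigX.getD i []).getD x 0

/-- The image of a functional under a transposition. -/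
def sf (i k : ℕ) : ℕ := (sigF.getD i []).getD k 0

theorem add81_lt (x y : ℕ) : add81 x y < 81 := by unfold add81; omega

theorem add81_digits (x y : ℕ) : add81 x y % 3 = (x % 3 + y % 3) % 3 ∧
    add81 x y / 3 % 3 = (x / 3 % 3 + y / 3 % 3) % 3 ∧ add81 x y / 9 % 3 = (x / 9 % 3 + y / 9 % 3) % 3 ∧
    add81 x y / 27 % 3 = (x / 27 % 3 + y / 27 % 3) % 3 := by
  have a0 : (x % 3 + y % 3) % 3 < 3 := Nat.mod_lt _ (by norm_num)
  have a1 : (x / 3 % 3 + y / 3 % 3) % 3 < 3 := Nat.mod_lt _ (by norm_num)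
  have a2 : (x / 9 % 3 + y / 9 % 3) % 3 < 3 := Nat.mod_lt _ (by norm_num)
  have a3 : (x / 27 % 3 + y / 27 % 3) % 3 < 3 := Nat.mod_lt _ (by norm_num)
  unfold add81
  generalize (x % 3 + y % 3) % 3 = A at *
  generalize (x / 3 % 3 + y / 3 % 3) % 3 = B at *
  generalize (x / 9 % 3 + y / 9 % 3) % 3 = C at *
  generalize (x / 27 % 3 + y / 27 % 3) % 3 = E at *
  omega

theorem ext81 {x y : ℕ} (hx : x < 81) (hy : y < 81) (h0 : x % 3 = y % 3) (h1 : x / 3 % 3 = y / 3 % 3)
    (h2 : x / 9 % 3 = y / 9 % 3) (h3 : x / 27 % 3 = y / 27 % 3) : x = y := by omega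

theorem add81_comm (x y : ℕ) : add81 x y = add81 y x := by
  simp only [add81, Nat.add_comm (x % 3), Nat.add_comm (x / 3 % 3), Nat.add_comm (x / 9 % 3),
    Nat.add_comm (x / 27 % 3)]

theorem add81_cancel (h : ℕ) {x : ℕ} (hx : x < 81) :
    add81 (neg81 h) (add81 h x) = x ∧ add81 h (add81 (neg81 h) x) = x := by
  obtain ⟨p0, p1, p2, p3⟩ := add81_digits h x
  obtain ⟨q0, q1, q2, q3⟩ := add81_digits h h
  obtain ⟨r0, r1, r2, r3⟩ := add81_digits (neg81 h) (add81 h x)
  obtain ⟨s0, s1, s2, s3⟩ := add81_digits (neg81 h) x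
  obtain ⟨t0, t1, t2, t3⟩ := add81_digits h (add81 (neg81 h) x)
  unfold neg81 at *
  constructor
  · refine ext81 (add81_lt _ _) hx ?_ ?_ ?_ ?_
    · rw [r0, q0, p0]; omega
    · rw [r1, q1, p1]; omega
    · rw [r2, q2, p2]; omega
    · rw [r3, q3, p3]; omega
  · refine ext81 (add81_lt _ _) hx ?_ ?_ ?_ ?_
    · rw [t0, s0, q0]; omega
    · rw [t1, s1, q1]; omega
    · rw [t2, s2, q2]; omega
    · rw [t3, s3, q3]; omega

theorem dot_add (f : List ℕ) (x y : ℕ) : dot81 f (add81 x y) = (dot81 f x + dot81 f y) % 3 := by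
  obtain ⟨p0, p1, p2, p3⟩ := add81_digits x y
  unfold dot81
  rw [p0, p1, p2, p3]
  refine (ZMod.natCast_eq_natCast_iff' _ _ 3).1 ?_
  push_cast [ZMod.natCast_mod]
  ring

theorem count_table : ((List.range 81).all fun x =>
    Nat.beq (((List.range 40).countP fun k => Nat.beq (dot81 (fn k) x) 0) % 2) (bif Nat.beq x 0 then 0 else 1) &&
      Nat.beq (((List.range 40).countP fun k => Nat.beq (dot81 (fn k) x) 0)) (bif Nat.beq x 0 then 40 else 13)) = true := by
  decide +kernel

theorem ker_card : ((List.range 40).all fun k =>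
    Nat.beq ((List.range 81).countP fun x => Nat.beq (dot81 (fn k) x) 0) 27) = true := by
  decide +kernel

theorem ker_sep : ((List.range 40).all fun k => (List.range 40).all fun l => Nat.beq k l ||
    (List.range 81).any fun x => Nat.beq (dot81 (fn k) x) 0 && Nat.beq (dot81 (fn l) x) 1) = true := by
  decide +kernel

theorem sig_ker : ((List.range 5).all fun i => (List.range 40).all fun k => Nat.blt (sf i k) 40 &&
    ((List.range 81).all fun x => Nat.blt (sx i x) 81 &&
      Nat.beq (bif Nat.beq (dot81 (fn k) x) 0 then 1 else 0) (bif Nat.beq (dot81 (fn (sf i k)) (sx i x)) 0 then 1 else 0) &&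
      Nat.beq (sx i (sx i x)) x)) = true := by
  decide +kernel

/-- An orbit list names a parent before each later member. -/
def orbOK : List ℕ → List (ℕ × ℕ × ℕ) → Bool
  | _, [] => true
  | seen, (k, i, a) :: L => memN a seen && Nat.blt i 5 && Nat.beq (sf i a) k && Nat.blt k 40 && orbOK (k :: seen) L

theorem orb_table : orbOK [25] orbA.tail = true ∧ orbOK [0] orbB.tail = true ∧ orbOK [9] orbC.tail = true ∧
    orbA.map Prod.fst = (orbA.map Prod.fst).dedup ∧ orbB.map Prod.fst = (orbB.map Prod.fst).dedup ∧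
    orbC.map Prod.fst = (orbC.map Prod.fst).dedup ∧ orbA.head? = some (25, 5, 25) ∧ orbB.head? = some (0, 5, 0) ∧
    orbC.head? = some (9, 5, 9) ∧
    ((List.range 40).all fun k => memN k (orbA.map Prod.fst) || memN k (orbB.map Prod.fst) || memN k (orbC.map Prod.fst)) = true ∧
    orbA.length = 10 ∧ orbB.length = 15 ∧ orbC.length = 15 ∧ (tripF.all fun k => memN k (orbA.map Prod.fst)) = true ∧
    tripF.length = 10 ∧ tripF = tripF.dedup ∧ ((orbA.map Prod.fst).all fun k => memN k tripF) = true := by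
  decide +kernel

/-- An action of `(Z/3)^4` on an elementary abelian group of order 2^20, normalised by five involutions. -/
structure DiagAct (M : Type*) [AddCommGroup M] where
  β : ℕ → (M →+ M)
  s : ℕ → (M ≃+ M)
  two : ∀ m : M, m + m = 0
  β_zero : ∀ m, β 0 m = m
  β_add : ∀ x y, x < 81 → y < 81 → ∀ m, β x (β y m) = β (add81 x y) m
  β_s : ∀ i x, i < 5 → x < 81 → ∀ m, s i (β x m) = β (sx i x) (s i m)
  card : Nat.card M = 2 ^ 20
  nontriv : ∃ x < 81, ∃ m, β x m ≠ m

namespace DiagAct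

variable {M : Type*} [AddCommGroup M] (D : DiagAct M)

/-- The kernel of a functional. -/
def kerS (k : ℕ) : Finset ℕ := (range 81).filter fun x => dot81 (fn k) x = 0

/-- The sum over the kernel. -/
def P (k : ℕ) (m : M) : M := ∑ x ∈ kerS k, D.β x m

/-- The sum over everything. -/
def PE (m : M) : M := ∑ x ∈ range 81, D.β x m

/-- The projection to a weight space. -/
def Q (k : ℕ) (m : M) : M := D.P k m + D.PE m

include D in
theorem nsmul_mod (n : ℕ) (m : M) : n • m = (n % 2) • m := by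
  conv_lhs => rw [← Nat.div_add_mod n 2, add_smul, mul_comm, mul_smul, two_nsmul, D.two, smul_zero, zero_add]

theorem span (m : M) : m = D.PE m + ∑ k ∈ range 40, D.Q k m := by
  have h40 : ∑ _k ∈ range 40, D.PE m = 0 := by
    rw [sum_const, card_range, D.nsmul_mod, show (40 % 2) = 0 from rfl, zero_smul]
  have hP : ∑ k ∈ range 40, D.P k m = ∑ x ∈ range 81, (if x = 0 then 0 else D.β x m) := by
    simp only [P, kerS, sum_filter]
    rw [sum_comm]
    refine sum_congr rfl fun x hx => ?_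
    have hc := List.all_eq_true.1 count_table x (List.mem_range.2 (mem_range.1 hx))
    simp only [Bool.and_eq_true, Nat.beq_eq] at hc
    rw [← sum_filter, sum_const, D.nsmul_mod]
    have hcard : ((range 40).filter fun k => dot81 (fn k) x = 0).card =
        (List.range 40).countP fun k => Nat.beq (dot81 (fn k) x) 0 := by
      rw [List.countP_eq_length_filter, Finset.card_def, Finset.filter_val, Finset.range_val]
      simp only [Multiset.range, Multiset.filter_coe, Multiset.coe_card]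
      congr 1
      refine List.filter_congr fun k _ => ?_
      rw [Bool.eq_iff_iff, decide_eq_true_iff, Nat.beq_eq]
    rw [hcard, hc.1]
    rcases eq_or_ne x 0 with rfl | h
    · simp
    · rw [if_neg h, show Nat.beq x 0 = false from Bool.eq_false_iff.2 fun e => h (Nat.eq_of_beq_eq_true e)]
      simp
  simp only [Q, sum_add_distrib, h40, add_zero, hP]
  rw [PE, ← sum_add_distrib, sum_eq_single 0]
  · simp [D.β_zero]
  · intro x _ hx; rw [if_neg hx, D.two]
  · simp

theorem neg81_lt (x : ℕ) : neg81 x < 81 := add81_lt _ _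

theorem shift81 {M : Type*} [AddCommMonoid M] (h : ℕ) (_hh : h < 81) (f : ℕ → M) : ∑ x ∈ range 81, f (add81 h x) = ∑ x ∈ range 81, f x := by
  refine sum_nbij' (fun x => add81 h x) (fun x => add81 (neg81 h) x) (fun x _ => mem_range.2 (add81_lt _ _))
    (fun x _ => mem_range.2 (add81_lt _ _)) (fun x hx => ?_) (fun x hx => ?_) (fun _ _ => rfl)
  · exact (add81_cancel h (mem_range.1 hx)).1
  · exact (add81_cancel h (mem_range.1 hx)).2

theorem β_PE {h : ℕ} (hh : h < 81) (m : M) : D.β h (D.PE m) = D.PE m := by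
  rw [PE, map_sum]
  calc ∑ x ∈ range 81, D.β h (D.β x m) = ∑ x ∈ range 81, D.β (add81 h x) m :=
        sum_congr rfl fun x hx => D.β_add h x hh (mem_range.1 hx) m
    _ = _ := shift81 h hh fun x => D.β x m

theorem β_P {k h : ℕ} (_hk : k < 40) (hh : h < 81) (h0 : dot81 (fn k) h = 0) (m : M) : D.β h (D.P k m) = D.P k m := by
  simp only [P, kerS, sum_filter, map_sum, apply_ite (D.β h), map_zero]
  calc ∑ x ∈ range 81, (if dot81 (fn k) x = 0 then D.β h (D.β x m) else 0)
      = ∑ x ∈ range 81, (if dot81 (fn k) (add81 h x) = 0 then D.β (add81 h x) m else 0) := by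
        refine sum_congr rfl fun x hx => ?_
        have : dot81 (fn k) (add81 h x) = dot81 (fn k) x := by
          rw [dot_add, h0, Nat.zero_add, dot81, Nat.mod_mod]
        rw [this, D.β_add h x hh (mem_range.1 hx) m]
    _ = _ := shift81 h hh fun x => if dot81 (fn k) x = 0 then D.β x m else 0

theorem β_Q {k h : ℕ} (hk : k < 40) (hh : h < 81) (h0 : dot81 (fn k) h = 0) (m : M) : D.β h (D.Q k m) = D.Q k m := by
  rw [Q, map_add, D.β_P hk hh h0, D.β_PE hh]

theorem card_kerS {k : ℕ} (hk : k < 40) : (kerS k).card = 27 := by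
  have := List.all_eq_true.1 ker_card k (List.mem_range.2 hk)
  simp only [Nat.beq_eq] at this
  rw [← this, kerS, List.countP_eq_length_filter, Finset.card_def, Finset.filter_val, Finset.range_val]
  simp only [Multiset.range, Multiset.filter_coe, Multiset.coe_card]
  congr 1
  refine List.filter_congr fun x _ => ?_
  rw [Bool.eq_iff_iff, decide_eq_true_iff, Nat.beq_eq]

theorem P_fix {k : ℕ} (hk : k < 40) {m : M} (h : ∀ x < 81, dot81 (fn k) x = 0 → D.β x m = m) : D.P k m = m := by
  rw [P, sum_congr (s₁ := kerS k) rfl (fun x hx => h x (mem_range.1 (mem_filter.1 hx).1) (mem_filter.1 hx).2), sum_const,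
    card_kerS hk, D.nsmul_mod, show 27 % 2 = 1 from rfl, one_smul]

theorem PE_fix {m : M} (h : ∀ x < 81, D.β x m = m) : D.PE m = m := by
  rw [PE, sum_congr rfl (fun x hx => h x (mem_range.1 hx)), sum_const, card_range, D.nsmul_mod,
    show 81 % 2 = 1 from rfl, one_smul]

theorem PE_PE (m : M) : D.PE (D.PE m) = D.PE m := D.PE_fix fun _ hx => D.β_PE hx m

theorem P_PE {k : ℕ} (hk : k < 40) (m : M) : D.P k (D.PE m) = D.PE m := D.P_fix hk fun _ hx _ => D.β_PE hx m

theorem PE_β {h : ℕ} (hh : h < 81) (m : M) : D.PE (D.β h m) = D.PE m := by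
  rw [PE]
  calc ∑ x ∈ range 81, D.β x (D.β h m) = ∑ x ∈ range 81, D.β (add81 h x) m :=
        sum_congr rfl fun x hx => by
          rw [D.β_add x h (mem_range.1 hx) hh, add81_comm]
    _ = _ := shift81 h hh fun x => D.β x m

theorem PE_P {k : ℕ} (hk : k < 40) (m : M) : D.PE (D.P k m) = D.PE m := by
  calc D.PE (D.P k m) = ∑ x ∈ kerS k, D.PE (D.β x m) := by simp only [PE, P, map_sum]; exact sum_comm
    _ = _ := by
      rw [sum_congr (s₁ := kerS k) rfl fun x hx => D.PE_β (mem_range.1 (mem_filter.1 hx).1) m, sum_const, card_kerS hk,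
        D.nsmul_mod, show 27 % 2 = 1 from rfl, one_smul]

theorem PE_Q {k : ℕ} (hk : k < 40) (m : M) : D.PE (D.Q k m) = 0 := by
  have h := D.PE_PE m
  have h' := D.PE_P hk m
  have e : ∀ a b, D.PE (a + b) = D.PE a + D.PE b := fun a b => by simp only [PE, map_add, sum_add_distrib]
  rw [Q, e, h, h', D.two]

theorem Q_Q {k : ℕ} (hk : k < 40) (m : M) : D.Q k (D.Q k m) = D.Q k m := by
  rw [show D.Q k (D.Q k m) = D.P k (D.Q k m) + D.PE (D.Q k m) from rfl, D.PE_Q hk, add_zero,
    D.P_fix hk fun x hx h0 => D.β_Q hk hx h0 m]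

theorem Q_zero (k : ℕ) : D.Q k 0 = 0 := by simp [Q, P, PE]

theorem Q_orth {k l : ℕ} (hk : k < 40) (hl : l < 40) (hkl : k ≠ l) {w : M} (hw : D.Q k w = w) : D.Q l w = 0 := by
  have hPE : D.PE w = 0 := hw ▸ D.PE_Q hk w
  have hfix : ∀ h < 81, dot81 (fn k) h = 0 → D.β h w = w := fun h hh h0 => by
    conv_lhs => rw [← hw]
    rw [D.β_Q hk hh h0, hw]
  rw [Q, hPE, add_zero]
  have hsep := List.all_eq_true.1 (List.all_eq_true.1 ker_sep k (List.mem_range.2 hk)) l (List.mem_range.2 hl)
  rw [Bool.or_eq_true] at hsep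
  obtain ⟨h, hh, hhk⟩ := List.any_eq_true.1 (hsep.resolve_left fun e => hkl (Nat.eq_of_beq_eq_true e))
  simp only [Bool.and_eq_true, Nat.beq_eq] at hhk
  rw [List.mem_range] at hh
  have part : ∀ g, g < 81 → dot81 (fn k) g = 0 →
      ∑ x ∈ range 81, (if dot81 (fn l) x = dot81 (fn l) g then D.β x w else 0) = D.P l w := by
    intro g hg hgk
    rw [P, kerS, sum_filter]
    refine (shift81 g hg fun x => if dot81 (fn l) x = dot81 (fn l) g then D.β x w else 0).symm.trans ?_
    refine sum_congr rfl fun x hx => ?_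
    have e : D.β (add81 g x) w = D.β x w := by
      rw [add81_comm, ← D.β_add x g (mem_range.1 hx) hg, hfix g hg hgk]
    rw [e]
    refine if_congr ?_ rfl rfl
    have h1 : dot81 (fn l) x < 3 := Nat.mod_lt _ (by norm_num)
    have h2 : dot81 (fn l) g < 3 := Nat.mod_lt _ (by norm_num)
    rw [dot_add]; omega
  have h2k : dot81 (fn k) (add81 h h) = 0 := by rw [dot_add, hhk.1]
  have h2l : dot81 (fn l) (add81 h h) = 2 := by rw [dot_add, hhk.2]
  have p0 : ∑ x ∈ range 81, (if dot81 (fn l) x = 0 then D.β x w else 0) = D.P l w := by rw [P, kerS, sum_filter]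
  have p1 := part h hh hhk.1
  have p2 := part (add81 h h) (add81_lt _ _) h2k
  rw [hhk.2] at p1
  rw [h2l] at p2
  have hsum : D.PE w = D.P l w + D.P l w + D.P l w := by
    conv_rhs => arg 1; arg 1; rw [← p0]
    conv_rhs => arg 1; arg 2; rw [← p1]
    conv_rhs => arg 2; rw [← p2]
    rw [PE, ← sum_add_distrib, ← sum_add_distrib]
    refine sum_congr rfl fun x _ => ?_
    have h1 : dot81 (fn l) x < 3 := Nat.mod_lt _ (by norm_num)
    rcases (show dot81 (fn l) x = 0 ∨ dot81 (fn l) x = 1 ∨ dot81 (fn l) x = 2 by omega) with e | e | e <;> simp [e]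
  rw [hPE, D.two, zero_add] at hsum
  exact hsum.symm

theorem sig_facts {i k : ℕ} (hi : i < 5) (hk : k < 40) : sf i k < 40 ∧ ∀ x < 81,
    sx i x < 81 ∧ sx i (sx i x) = x ∧ (dot81 (fn k) x = 0 ↔ dot81 (fn (sf i k)) (sx i x) = 0) := by
  have h := List.all_eq_true.1 (List.all_eq_true.1 sig_ker i (List.mem_range.2 hi)) k (List.mem_range.2 hk)
  simp only [Bool.and_eq_true, Nat.blt_eq] at h
  refine ⟨h.1, fun x hx => ?_⟩
  have h' := List.all_eq_true.1 h.2 x (List.mem_range.2 hx)
  simp only [Bool.and_eq_true, Nat.blt_eq, Nat.beq_eq] at h'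
  refine ⟨h'.1.1, h'.2, ?_⟩
  have hb := h'.1.2
  rw [← Nat.beq_eq, ← Nat.beq_eq]
  revert hb
  cases Nat.beq (dot81 (fn k) x) 0 <;> cases Nat.beq (dot81 (fn (sf i k)) (sx i x)) 0 <;> simp

theorem s_Q {i k : ℕ} (hi : i < 5) (hk : k < 40) (m : M) : D.s i (D.Q k m) = D.Q (sf i k) (D.s i m) := by
  obtain ⟨-, hx⟩ := sig_facts hi hk
  have h1 : D.s i (D.P k m) = D.P (sf i k) (D.s i m) := by
    simp only [P, map_sum]
    refine sum_nbij' (sx i) (sx i) (fun x hxm => ?_) (fun x hxm => ?_) (fun x hxm => ?_) (fun x hxm => ?_) fun x hxm => ?_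
    · obtain ⟨h81, h0⟩ := mem_filter.1 hxm
      obtain ⟨a, -, c⟩ := hx x (mem_range.1 h81)
      exact mem_filter.2 ⟨mem_range.2 a, c.1 h0⟩
    · obtain ⟨h81, h0⟩ := mem_filter.1 hxm
      obtain ⟨a, b, -⟩ := hx x (mem_range.1 h81)
      obtain ⟨-, -, c⟩ := hx _ a
      rw [b] at c
      exact mem_filter.2 ⟨mem_range.2 a, c.2 h0⟩
    · exact (hx x (mem_range.1 (mem_filter.1 hxm).1)).2.1
    · exact (hx x (mem_range.1 (mem_filter.1 hxm).1)).2.1
    · exact D.β_s i x hi (mem_range.1 (mem_filter.1 hxm).1) m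
  have h2 : D.s i (D.PE m) = D.PE (D.s i m) := by
    simp only [PE, map_sum]
    refine sum_nbij' (sx i) (sx i) (fun x hxm => mem_range.2 (hx x (mem_range.1 hxm)).1)
      (fun x hxm => mem_range.2 (hx x (mem_range.1 hxm)).1) (fun x hxm => (hx x (mem_range.1 hxm)).2.1)
      (fun x hxm => (hx x (mem_range.1 hxm)).2.1) fun x hxm => D.β_s i x hi (mem_range.1 hxm) m
  rw [Q, map_add, h1, h2, Q]

/-- A weight space. -/
def W (k : ℕ) : AddSubgroup M where
  carrier := {w | D.Q k w = w}
  add_mem' {a b} (ha : D.Q k a = a) (hb : D.Q k b = b) := by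
    show D.Q k (a + b) = a + b
    conv_rhs => rw [← ha, ← hb]
    simp only [Q, P, PE, map_add, sum_add_distrib]
    abel
  zero_mem' := D.Q_zero k
  neg_mem' {a} (ha : D.Q k a = a) := by
    show D.Q k (-a) = -a
    conv_rhs => rw [← ha]
    simp only [Q, P, PE, map_neg, sum_neg_distrib, neg_add]

/-- The common fixed points. -/
def F : AddSubgroup M where
  carrier := {w | D.PE w = w}
  add_mem' {a b} (ha : D.PE a = a) (hb : D.PE b = b) := by
    show D.PE (a + b) = a + b
    conv_rhs => rw [← ha, ← hb]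
    simp only [PE, map_add, sum_add_distrib]
  zero_mem' := by show D.PE 0 = 0; simp [PE]
  neg_mem' {a} (ha : D.PE a = a) := by
    show D.PE (-a) = -a
    conv_rhs => rw [← ha]
    simp only [PE, map_neg, sum_neg_distrib]

theorem mem_W {k : ℕ} {w : M} : w ∈ D.W k ↔ D.Q k w = w := Iff.rfl

theorem W_fix {k x : ℕ} (hk : k < 40) (hx : x < 81) (h0 : dot81 (fn k) x = 0) {w : M} (hw : w ∈ D.W k) :
    D.β x w = w := by
  rw [← D.mem_W.1 hw, D.β_Q hk hx h0]

theorem W_PE {k : ℕ} (hk : k < 40) {w : M} (hw : w ∈ D.W k) : D.PE w = 0 := by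
  rw [← D.mem_W.1 hw, D.PE_Q hk]

theorem PE_add (a b : M) : D.PE (a + b) = D.PE a + D.PE b := by simp only [PE, map_add, sum_add_distrib]

theorem Q_add (k : ℕ) (a b : M) : D.Q k (a + b) = D.Q k a + D.Q k b := by
  simp only [Q, P, PE, map_add, sum_add_distrib]
  abel

variable [Finite M]

theorem four_le {k : ℕ} (hk : k < 40) (hne : D.W k ≠ ⊥) : 4 ≤ Nat.card (D.W k) := by
  obtain ⟨w, hw, hw0⟩ : ∃ w ∈ D.W k, w ≠ 0 := by
    by_contra h
    push Not at h
    exact hne ((AddSubgroup.eq_bot_iff_forall _).2 h)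
  obtain ⟨x, hx, hne'⟩ : ∃ x < 81, D.β x w ≠ w := by
    by_contra h
    push Not at h
    exact hw0 ((D.PE_fix h).symm.trans (D.W_PE hk hw))
  have hmem : ∀ v ∈ D.W k, D.β x v ∈ D.W k := fun v hv => by
    rw [mem_W]
    conv_rhs => rw [← D.mem_W.1 hv]
    simp only [Q, map_add, P, PE, map_sum]
    congr 1 <;> refine sum_congr rfl fun y hy => ?_
    · rw [D.β_add y x (mem_range.1 (mem_filter.1 hy).1) hx, D.β_add x y hx (mem_range.1 (mem_filter.1 hy).1), add81_comm]
    · rw [D.β_add y x (mem_range.1 hy) hx, D.β_add x y hx (mem_range.1 hy), add81_comm]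
  have h3 : ∀ v, D.β x (D.β x (D.β x v)) = v := fun v => by
    rw [D.β_add x x hx hx, D.β_add _ x (add81_lt _ _) hx, add81_comm]
    have : add81 x (add81 x x) = 0 := by
      have := (add81_cancel x (show (0 : ℕ) < 81 by norm_num)).2
      obtain ⟨a0, a1, a2, a3⟩ := add81_digits x x
      obtain ⟨b0, b1, b2, b3⟩ := add81_digits x (add81 x x)
      refine ext81 (add81_lt _ _) (by norm_num) ?_ ?_ ?_ ?_
      · rw [b0, a0]; omega
      · rw [b1, a1]; omega
      · rw [b2, a2]; omega
      · rw [b3, a3]; omega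
    rw [this, D.β_zero]
  have hinj : Function.Injective (D.β x) := fun a b e => by rw [← h3 a, ← h3 b, e]
  have h1 : D.β x w ≠ 0 := fun e => hw0 (hinj (e.trans (map_zero _).symm))
  have h2 : D.β x (D.β x w) ≠ 0 := fun e => h1 (hinj (e.trans (map_zero _).symm))
  classical
  have := Fintype.ofFinite (D.W k)
  rw [Nat.card_eq_fintype_card]
  have hc : ({0, ⟨w, hw⟩, ⟨_, hmem w hw⟩, ⟨_, hmem _ (hmem w hw)⟩} : Finset (D.W k)).card = 4 := by
    rw [card_insert_of_notMem, card_insert_of_notMem, card_insert_of_notMem, card_singleton]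
    · simp only [Finset.mem_singleton, Subtype.mk.injEq]
      exact fun e => hne' (hinj e.symm)
    · simp only [Finset.mem_insert, Finset.mem_singleton, Subtype.mk.injEq, not_or]
      exact ⟨fun e => hne' e.symm, fun e => hne' (by conv_rhs => rw [← h3 w, ← e])⟩
    · simp only [Finset.mem_insert, Finset.mem_singleton, Subtype.ext_iff, AddSubgroup.coe_zero, not_or]
      exact ⟨fun e => hw0 e.symm, fun e => h1 e.symm, fun e => h2 e.symm⟩
  rw [← hc]
  exact Finset.card_le_univ _

omit [Finite M] in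
theorem card_s {i k : ℕ} (hi : i < 5) (hk : k < 40) : Nat.card (D.W (sf i k)) = Nat.card (D.W k) := by
  refine (Nat.card_congr ((D.s i).toEquiv.subtypeEquiv fun w => ?_)).symm
  show D.Q k w = w ↔ D.Q (sf i k) (D.s i w) = D.s i w
  rw [← D.s_Q hi hk, (D.s i).injective.eq_iff]

omit [Finite M] in
theorem card_orbit : ∀ (L : List (ℕ × ℕ × ℕ)) (seen : List ℕ) (c : ℕ), orbOK seen L = true →
    (∀ a ∈ seen, a < 40 ∧ Nat.card (D.W a) = c) → ∀ e ∈ L, e.1 < 40 ∧ Nat.card (D.W e.1) = c
  | [], _, _, _, _ => by simp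
  | (k, i, a) :: L, seen, c, h, hs => by
    simp only [orbOK, Bool.and_eq_true, memN_iff, Nat.blt_eq, Nat.beq_eq] at h
    obtain ⟨⟨⟨⟨ha, hi⟩, hk⟩, hk40⟩, hL⟩ := h
    have hk' : k < 40 ∧ Nat.card (D.W k) = c := ⟨hk40, by rw [← hk, D.card_s hi (hs a ha).1, (hs a ha).2]⟩
    intro e he
    rcases List.mem_cons.1 he with rfl | he
    · exact hk'
    · refine card_orbit L (k :: seen) c hL (fun b hb => ?_) e he
      rcases List.mem_cons.1 hb with rfl | hb
      · exact hk'
      · exact hs b hb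

theorem prod_le (S : Finset ℕ) (hS : ∀ k ∈ S, k < 40) : Nat.card D.F * ∏ k ∈ S, Nat.card (D.W k) ≤ 2 ^ 20 := by
  classical
  have hPE : ∀ (u : ∀ k : S, D.W k), D.PE (∑ k, (u k : M)) = 0 := fun u => by
    have : ∀ T : Finset S, D.PE (∑ k ∈ T, (u k : M)) = 0 := by
      intro T
      induction T using Finset.induction_on with
      | empty => simp [PE]
      | insert a T ha ih => rw [sum_insert ha, D.PE_add, ih, D.W_PE (hS _ a.2) (u a).2, add_zero]
    exact this univ
  have hQ : ∀ (u : ∀ k : S, D.W k) (l : S), D.Q l (∑ k, (u k : M)) = u l := fun u l => by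
    have : ∀ T : Finset S, D.Q l (∑ k ∈ T, (u k : M)) = ∑ k ∈ T, (if k = l then (u k : M) else 0) := by
      intro T
      induction T using Finset.induction_on with
      | empty => simp [D.Q_zero]
      | insert a T ha ih =>
        rw [sum_insert ha, sum_insert ha, D.Q_add, ih]
        congr 1
        by_cases h : a = l
        · subst h; rw [if_pos rfl]; exact (u a).2
        · rw [if_neg h]
          exact D.Q_orth (hS _ a.2) (hS _ l.2) (fun e => h (Subtype.ext e)) (u a).2
    rw [this univ, sum_ite_eq' univ l, if_pos (mem_univ _)]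
  have hinj : Function.Injective fun p : D.F × (∀ k : S, D.W k) => (p.1 : M) + ∑ k, (p.2 k : M) := by
    rintro ⟨e, u⟩ ⟨e', u'⟩ h
    dsimp only at h
    have he : (e : M) = e' := by
      have h' := congrArg D.PE h
      rwa [D.PE_add, D.PE_add, hPE, hPE, add_zero, add_zero, e.2, e'.2] at h'
    rw [he] at h
    have hu := add_left_cancel h
    refine Prod.ext (Subtype.ext he) (funext fun l => Subtype.ext ?_)
    rw [← hQ u l, ← hQ u' l, hu]
  have := Nat.card_le_card_of_injective _ hinj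
  rw [Nat.card_prod, Nat.card_pi, D.card, prod_coe_sort S fun k => Nat.card (D.W k)] at this
  exact this

/-- The structure of the module. -/
theorem structure_thm : D.F = ⊥ ∧ (∀ k ∈ tripF, Nat.card (D.W k) = 4) ∧ (∀ k < 40, k ∉ tripF → D.W k = ⊥) := by
  obtain ⟨oA, oB, oC, nA, nB, nC, hA, hB, hC, hcov, lA, lB, lC, hT, -, -, hT'⟩ := orb_table
  have mem_all : ∀ (L : List (ℕ × ℕ × ℕ)) (r : ℕ), r < 40 → orbOK [r] L.tail = true → L.head? = some (r, 5, r) →
      ∀ k ∈ L.map Prod.fst, k < 40 ∧ Nat.card (D.W k) = Nat.card (D.W r) := by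
    intro L r hr ho hh k hk
    obtain ⟨tl, rfl⟩ : ∃ tl, L = (r, 5, r) :: tl := ⟨L.tail, (List.cons_head?_tail hh).symm⟩
    obtain ⟨e, he, rfl⟩ := List.mem_map.1 hk
    rcases List.mem_cons.1 he with rfl | he
    · exact ⟨hr, rfl⟩
    · exact D.card_orbit tl [r] _ ho (fun a ha => by rw [List.mem_singleton.1 ha]; exact ⟨hr, rfl⟩) e he
  have bound : ∀ (L : List (ℕ × ℕ × ℕ)) (r : ℕ), r < 40 → orbOK [r] L.tail = true → L.head? = some (r, 5, r) →
      L.map Prod.fst = (L.map Prod.fst).dedup →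
      Nat.card D.F * Nat.card (D.W r) ^ L.length ≤ 2 ^ 20 := by
    intro L r hr ho hh hd
    have hm := mem_all L r hr ho hh
    have := D.prod_le (L.map Prod.fst).toFinset fun k hk => (hm k (List.mem_toFinset.1 hk)).1
    rwa [prod_congr rfl fun k hk => (hm k (List.mem_toFinset.1 hk)).2, prod_const, List.card_toFinset, ← hd,
      List.length_map] at this
  have small : ∀ (L : List (ℕ × ℕ × ℕ)) (r : ℕ), r < 40 → orbOK [r] L.tail = true → L.head? = some (r, 5, r) →
      L.map Prod.fst = (L.map Prod.fst).dedup → L.length = 15 → ∀ k ∈ L.map Prod.fst, D.W k = ⊥ := by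
    intro L r hr ho hh hd hl k hk
    have hb := bound L r hr ho hh hd
    rw [hl] at hb
    obtain ⟨hk40, hke⟩ := mem_all L r hr ho hh k hk
    by_contra hne
    have h4 := hke ▸ D.four_le hk40 hne
    have : 1 * 4 ^ 15 ≤ Nat.card D.F * Nat.card (D.W r) ^ 15 :=
      Nat.mul_le_mul Nat.card_pos (Nat.pow_le_pow_left h4 15)
    omega
  have hBC : ∀ k < 40, k ∉ orbA.map Prod.fst → D.W k = ⊥ := by
    intro k hk hn
    have := List.all_eq_true.1 hcov k (List.mem_range.2 hk)
    simp only [Bool.or_eq_true, memN_iff] at this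
    rcases this with (h | h) | h
    · exact absurd h hn
    · exact small orbB 0 (by norm_num) oB hB nB lB k h
    · exact small orbC 9 (by norm_num) oC hC nC lC k h
  have hAT : ∀ k, k ∈ orbA.map Prod.fst ↔ k ∈ tripF := fun k =>
    ⟨fun h => memN_iff.1 (List.all_eq_true.1 hT' k h), fun h => memN_iff.1 (List.all_eq_true.1 hT k h)⟩
  have hm := mem_all orbA 25 (by norm_num) oA hA
  have hb := bound orbA 25 (by norm_num) oA hA nA
  rw [lA] at hb
  have hne : D.W 25 ≠ ⊥ := fun h0 => by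
    obtain ⟨x, hx, m, hm'⟩ := D.nontriv
    refine hm' ?_
    have hz : ∀ k ∈ range 40, D.Q k m = 0 := fun k hk => by
      rw [mem_range] at hk
      have hW : D.W k = ⊥ := by
        by_cases hka : k ∈ orbA.map Prod.fst
        · exact (AddSubgroup.card_eq_one).1 ((hm k hka).2.trans (AddSubgroup.card_eq_one.2 h0))
        · exact hBC k hk hka
      exact AddSubgroup.mem_bot.1 (hW ▸ (D.Q_Q hk m : D.Q k m ∈ D.W k))
    have e := D.span m
    rw [sum_eq_zero hz, add_zero] at e
    rw [e, D.β_PE hx]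
  have h4 := D.four_le (by norm_num) hne
  have hF1 : Nat.card D.F = 1 := by
    by_contra h
    have : 2 * 4 ^ 10 ≤ Nat.card D.F * Nat.card (D.W 25) ^ 10 :=
      Nat.mul_le_mul (by have := (Nat.card_pos : 0 < Nat.card D.F); omega) (Nat.pow_le_pow_left h4 10)
    omega
  have hW4 : Nat.card (D.W 25) = 4 := by
    rw [hF1, one_mul, show (2 : ℕ) ^ 20 = 4 ^ 10 by norm_num, Nat.pow_le_pow_iff_left (by norm_num)] at hb
    omega
  exact ⟨AddSubgroup.card_eq_one.1 hF1, fun k hk => by rw [(hm k ((hAT k).2 hk)).2, hW4],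
    fun k hk hn => hBC k hk fun h => hn ((hAT k).1 h)⟩

theorem fix_all {m : M} (h : ∀ x < 81, D.β x m = m) : m = 0 :=
  AddSubgroup.mem_bot.1 (D.structure_thm.1 ▸ (D.PE_fix h : m ∈ D.F))

/-- Everything is a sum over the ten weight spaces. -/
theorem span_trip (m : M) : m = ∑ k ∈ tripF.toFinset, D.Q k m := by
  obtain ⟨hF, -, hW⟩ := D.structure_thm
  conv_lhs => rw [D.span m]
  have h0 : D.PE m ∈ D.F := D.PE_PE m
  rw [hF, AddSubgroup.mem_bot] at h0
  rw [h0, zero_add]
  have hsub : tripF.toFinset ⊆ range 40 := fun k hk => by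
    have : ∀ a ∈ tripF, a < 40 := by decide
    exact mem_range.2 (this k (List.mem_toFinset.1 hk))
  refine (sum_subset hsub fun k hk hn => ?_).symm
  have hk' := mem_range.1 hk
  exact AddSubgroup.mem_bot.1 (hW k hk' (fun h => hn (List.mem_toFinset.2 h)) ▸ (D.Q_Q hk' m : D.Q k m ∈ D.W k))

end DiagAct

end CfsgU6Mod
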