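/-
Kernel checks for the monomial part of the identification.
-/
import Cfsg.Agent.Lib.U6Mod.Rel
import Cfsg.Agent.Lib.U6Mod.Weights

set_option autoImplicit false
set_option maxRecDepth 100000

namespace CfsgU6Mod

open CfsgLib.G24 CfsgLib.SUSixSub

/-- The word of a packed diagonal element. -/
def dW (x : ℕ) : List ℕ :=
  List.replicate (x % 3) 5 ++ List.replicate (x / 3 % 3) 6 ++ List.replicate (x / 9 % 3) 7 ++
    List.replicate (x / 27 % 3) 8

/-- The word to the `t`th triple. -/
def wT (t : ℕ) : List ℕ := wTrip.getD t []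

/-- The functional of the `t`th triple. -/
def fT (t : ℕ) : List ℕ := fn (tripF.getD t 0)

/-- The weight-one element of the `t`th triple. -/
def xT (t : ℕ) : ℕ := xTrip.getD t 0

/-- A certificate entry. -/
def crt (g j : ℕ) : ℕ × ℕ × List ℕ × ℕ := (permCert.getD g []).getD j (0, 0, [], 0)

/-- The code of a generator. -/
def gA (g : ℕ) : List ℕ := genA.getD g idC

theorem diag_rel : ([5, 6, 7, 8].all fun a => relOK [a, a, a] [] &&
    [5, 6, 7, 8].all fun b => relOK [a, b] [b, a]) = true := by decide +kernel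

theorem sx_rel : ((List.range 5).all fun i => (List.range 81).all fun x =>
    relOK ([i] ++ dW x) (dW (sx i x) ++ [i])) = true := by decide +kernel

theorem sinv_rel : ((List.range 5).all fun i => relOK [i, i] []) = true := by decide +kernel

theorem diag_nonscalar : ([K.i, K.w, K.v].any fun c => beqM (wM (dW 1)) (smM c oneM)) = false ∧
    okW (dW 1) = true := by decide +kernel

theorem wT_data : (((List.range 10).all fun t => okW (wT t) && (wT t).all (fun i => Nat.blt i 5) &&
    Nat.beq ((wT t).foldr (fun i k => sf i k) 25) (tripF.getD t 0) && Nat.blt (xT t) 81 &&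
    Nat.beq (dot81 (fT t) (xT t)) (dot81 (fT t) (xT t) % 3) && !Nat.beq (dot81 (fT t) (xT t)) 0) &&
    wC.all (fun i => Nat.blt i 5) && Nat.beq (wC.foldr (fun i k => sf i k) 25) 25 &&
    ([0, 1, 3, 4].all fun i => Nat.beq (sf i 25) 25) && Nat.beq (tripF.getD 0 0) 25) = true := by decide +kernel

theorem wC_rel : (relOK (wC ++ wC) [] &&
    ((List.range 81).any fun x => Nat.beq (dot81 (fT 0) x) ((2 * dot81 (fT 0) (xT 0)) % 3) &&
      relOK (wC ++ dW (xT 0)) (dW x ++ wC)) &&
    ([0, 1, 3, 4].all fun i => Nat.beq (dot81 (fT 0) (sx i (xT 0))) (dot81 (fT 0) (xT 0)))) = true := by decide +kernel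

/-- The code of the `S`th triple's vector after a diagonal element. -/
def tgt (S x : ℕ) : ℕ :=
  (bif Nat.beq (dot81 (fT S) x) 0 then 1
    else bif Nat.beq (dot81 (fT S) x) (dot81 (fT S) (xT S)) then 2 else 3) <<< (2 * S)

/-- The left word of a certificate. -/
def lhsW (g j : ℕ) : List ℕ := [g] ++ (bif Nat.beq (j % 2) 1 then dW (xT (j / 2)) else []) ++ wT (j / 2)

/-- Words in the stabiliser of the first triple's vector. -/
def stabOK : ℕ → List ℕ → Bool
  | _, [] => true
  | 0, _ => false
  | n + 1, i :: w => (memN i [0, 1, 3, 4] && stabOK n w) || (beqC ((i :: w).take 9) wC && stabOK n ((i :: w).drop 9))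

theorem cert_rel : ((List.range 9).all fun g => (List.range 20).all fun j =>
    Nat.blt (crt g j).1 10 && Nat.blt (crt g j).2.1 81 &&
    stabOK 30 (crt g j).2.2.1 &&
    relOK (lhsW g j) (dW (crt g j).2.1 ++ wT (crt g j).1 ++ (crt g j).2.2.1) &&
    Nat.beq ((gA g).getD j 0) (tgt (crt g j).1 (crt g j).2.1)) = true := by decide +kernel

theorem genA_ok : ((List.range 10).all fun g => okC (gA g)) = true := by decide +kernel

end CfsgU6Mod
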