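/-
A basis of the module in which the monomial group acts by the standard codes.
-/
import Cfsg.Agent.Lib.U6Mod.BaseChecks

set_option autoImplicit false
set_option maxRecDepth 100000

namespace CfsgU6Mod

open CfsgLib.G24 CfsgLib.SUSixSub

namespace UAct

variable {M : Type*} [AddCommGroup M] (U : UAct M)

theorem relOK_of_diag {a b : ℕ} (ha : a ∈ [5, 6, 7, 8]) (hb : b ∈ [5, 6, 7, 8]) :
    relOK [a, a, a] [] = true ∧ relOK [a, b] [b, a] = true := by
  have h := List.all_eq_true.1 diag_rel a ha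
  rw [Bool.and_eq_true] at h
  exact ⟨h.1, List.all_eq_true.1 h.2 b hb⟩

theorem comm_letters {a b : ℕ} (ha : a ∈ [5, 6, 7, 8]) (hb : b ∈ [5, 6, 7, 8]) :
    ∀ (p q : ℕ) (m : M), U.wA (List.replicate p a) (U.wA (List.replicate q b) m) =
      U.wA (List.replicate q b) (U.wA (List.replicate p a) m) := by
  have cons : ∀ (c : ℕ) (l : List ℕ) (m : M), U.wA (c :: l) m = U.wA [c] (U.wA l m) :=
    fun c l m => U.wA_append [c] l m
  have h1 : ∀ m, U.wA [a] (U.wA [b] m) = U.wA [b] (U.wA [a] m) := fun m =>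
    U.wA_apply_rel (u := [a]) (v := [b]) (u' := [b]) (v' := [a]) (relOK_of_diag ha hb).2 m
  have h2 : ∀ (q : ℕ) (m : M), U.wA [a] (U.wA (List.replicate q b) m) = U.wA (List.replicate q b) (U.wA [a] m) := by
    intro q
    induction q with
    | zero => intro m; simp only [List.replicate_zero, U.wA_nil]
    | succ q ih => intro m; rw [List.replicate_succ, cons b (List.replicate q b), cons b (List.replicate q b), h1, ih]
  intro p
  induction p with
  | zero => intro q m; simp only [List.replicate_zero, U.wA_nil]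
  | succ p ih => intro q m; rw [List.replicate_succ, cons a (List.replicate p a), cons a (List.replicate p a), ih, h2]

theorem rep_mod {a : ℕ} (ha : a ∈ [5, 6, 7, 8]) : ∀ (n : ℕ) (m : M),
    U.wA (List.replicate n a) m = U.wA (List.replicate (n % 3) a) m := by
  intro n
  induction n using Nat.strong_induction_on with
  | _ n ih =>
    intro m
    rcases Nat.lt_or_ge n 3 with h | h
    · rw [Nat.mod_eq_of_lt h]
    · obtain ⟨k, rfl⟩ : ∃ k, n = 3 + k := ⟨n - 3, by omega⟩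
      rw [List.replicate_add, U.wA_append, ih k (by omega),
        show List.replicate 3 a = [a, a, a] from rfl, U.wA_rel (relOK_of_diag ha ha).1, U.wA_nil, Nat.add_mod_left]

theorem dW_digits (x : ℕ) (m : M) : U.wA (dW x) m =
    U.wA (List.replicate (x % 3) 5) (U.wA (List.replicate (x / 3 % 3) 6)
      (U.wA (List.replicate (x / 9 % 3) 7) (U.wA (List.replicate (x / 27 % 3) 8) m))) := by
  rw [dW, U.wA_append, U.wA_append, U.wA_append]

theorem dW_add (x y : ℕ) (m : M) : U.wA (dW x) (U.wA (dW y) m) = U.wA (dW (add81 x y)) m := by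
  obtain ⟨e0, e1, e2, e3⟩ := add81_digits x y
  have h5 : (5 : ℕ) ∈ [5, 6, 7, 8] := by decide
  have h6 : (6 : ℕ) ∈ [5, 6, 7, 8] := by decide
  have h7 : (7 : ℕ) ∈ [5, 6, 7, 8] := by decide
  have h8 : (8 : ℕ) ∈ [5, 6, 7, 8] := by decide
  rw [dW_digits, dW_digits, dW_digits, e0, e1, e2, e3]
  generalize x % 3 = a0, x / 3 % 3 = a1, x / 9 % 3 = a2, x / 27 % 3 = a3
  generalize y % 3 = b0, y / 3 % 3 = b1, y / 9 % 3 = b2, y / 27 % 3 = b3
  simp only [← U.rep_mod h5, ← U.rep_mod h6, ← U.rep_mod h7, ← U.rep_mod h8]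
  rw [List.replicate_add, List.replicate_add, List.replicate_add, List.replicate_add,
    U.wA_append, U.wA_append, U.wA_append, U.wA_append, U.comm_letters h8 h5, U.comm_letters h7 h5,
    U.comm_letters h6 h5, U.comm_letters h8 h6, U.comm_letters h7 h6, U.comm_letters h8 h7]

theorem beqM_of_eq {A B : M6} (h : mat6 A = mat6 B) : beqM A B = true := by
  have hK : ∀ x : K, beqK x x = true := by decide
  simp only [beqM, List.all_eq_true, h, hK, implies_true]

theorem diag_moves : beqM (wM (dW 1 ++ [0])) (wM ([0] ++ dW 1)) = false ∧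
    okW (dW 1 ++ [0]) = true ∧ okW ([0] ++ dW 1) = true := by decide +kernel

/-- The diagonal action. -/
noncomputable def diagAct : DiagAct M where
  β x := (U.wA (dW x)).toAddMonoidHom
  s i := U.wA [i]
  two := U.two
  β_zero m := by show U.wA (dW 0) m = m; exact U.wA_nil m
  β_add x y _ _ m := U.dW_add x y m
  β_s i x hi hx m := U.wA_apply_rel (u := [i]) (v := dW x) (u' := dW (sx i x)) (v' := [i])
    (List.all_eq_true.1 (List.all_eq_true.1 sx_rel i (List.mem_range.2 hi)) x (List.mem_range.2 hx)) m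
  card := U.card
  nontriv := by
    refine ⟨1, by norm_num, by_contra fun h => ?_⟩
    push Not at h
    have hc : wG (dW 1) ∈ Subgroup.center Γ := (U.ker _).1 h
    obtain ⟨hne, hok, hok'⟩ := diag_moves
    have e : mat6 (wM (dW 1 ++ [0])) = mat6 (wM ([0] ++ dW 1)) := by
      rw [← gm_wG hok, ← gm_wG hok', wG_append, wG_append, Subgroup.mem_center_iff.1 hc (wG [0])]
    rw [beqM_of_eq e] at hne
    exact Bool.noConfusion hne

theorem diagAct_β (x : ℕ) (m : M) : U.diagAct.β x m = U.wA (dW x) m := rfl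

theorem diagAct_s (i : ℕ) (m : M) : U.diagAct.s i m = U.wA [i] m := rfl

theorem cons_wA (c : ℕ) (l : List ℕ) (m : M) : U.wA (c :: l) m = U.wA [c] (U.wA l m) := U.wA_append [c] l m

include U in
theorem finite_M : Finite M := Nat.finite_of_card_ne_zero (by rw [U.card]; norm_num)

/-- A word in transpositions permutes the weight spaces. -/
theorem word_W : ∀ (w : List ℕ) (k : ℕ), k < 40 → (∀ i ∈ w, i < 5) → ∀ {m : M}, m ∈ U.diagAct.W k →
    w.foldr (fun i k => sf i k) k < 40 ∧ U.wA w m ∈ U.diagAct.W (w.foldr (fun i k => sf i k) k)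
  | [], k, hk, _, m, hm => ⟨hk, by rw [U.wA_nil]; exact hm⟩
  | i :: w, k, hk, hw, m, hm => by
    obtain ⟨h1, h2⟩ := word_W w k hk (fun j hj => hw j (List.mem_cons_of_mem _ hj)) hm
    have hi := hw i List.mem_cons_self
    rw [List.foldr_cons, U.cons_wA i w, DiagAct.mem_W]
    refine ⟨(DiagAct.sig_facts hi h1).1, ?_⟩
    rw [← diagAct_s, ← U.diagAct.s_Q hi h1, U.diagAct.mem_W.1 h2]

theorem tripF_lt : ∀ k ∈ tripF, k < 40 := by decide

theorem fT_eq (T : ℕ) : fT T = fn (tripF.getD T 0) := rfl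

theorem tripF_mem {T : ℕ} (hT : T < 10) : tripF.getD T 0 ∈ tripF := by
  revert T; decide

/-- The action of the diagonal on a weight space depends on the weight alone. -/
theorem β_weight {k x x' : ℕ} (hk : k < 40) (hx : x < 81) (hx' : x' < 81)
    (h : dot81 (fn k) x = dot81 (fn k) x') {m : M} (hm : m ∈ U.diagAct.W k) :
    U.wA (dW x) m = U.wA (dW x') m := by
  have hd : dot81 (fn k) (add81 (neg81 x') x) = 0 := by
    have : dot81 (fn k) x' < 3 := Nat.mod_lt _ (by norm_num)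
    rw [dot_add, neg81, dot_add, h]; omega
  have hfix := U.diagAct.W_fix hk (add81_lt _ _) hd hm
  conv_rhs => rw [← hfix, diagAct_β, U.dW_add, (add81_cancel x' hx).2]

/-- The diagonal of weight one moves every nonzero vector. -/
theorem β_moves {k x : ℕ} (hk : k < 40) (hx : x < 81) (h0 : dot81 (fn k) x ≠ 0) {m : M}
    (hm : m ∈ U.diagAct.W k) (hfix : U.wA (dW x) m = m) : m = 0 := by
  have := U.finite_M
  refine U.diagAct.fix_all fun y hy => ?_
  rw [diagAct_β]
  have h3 : dot81 (fn k) x < 3 := Nat.mod_lt _ (by norm_num)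
  have h3' : dot81 (fn k) y < 3 := Nat.mod_lt _ (by norm_num)
  by_cases hy0 : dot81 (fn k) y = 0
  · exact U.diagAct.W_fix hk hy hy0 hm
  by_cases hyx : dot81 (fn k) y = dot81 (fn k) x
  · rw [U.β_weight hk hy hx hyx hm, hfix]
  · have : dot81 (fn k) (add81 x x) = dot81 (fn k) y := by
      rw [dot_add]
      rcases (show dot81 (fn k) x = 1 ∨ dot81 (fn k) x = 2 by omega) with e | e <;> rw [e] at hyx ⊢ <;> omega
    rw [U.β_weight hk hy (add81_lt _ _) this.symm hm, ← U.dW_add, hfix, hfix]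

theorem β_mem {k x : ℕ} (hk : k < 40) (hx : x < 81) {m : M} (hm : m ∈ U.diagAct.W k) :
    U.wA (dW x) m ∈ U.diagAct.W k := by
  rw [DiagAct.mem_W]
  conv_rhs => rw [← U.diagAct.mem_W.1 hm]
  simp only [DiagAct.Q, DiagAct.P, DiagAct.PE, map_add, map_sum]
  congr 1 <;> refine Finset.sum_congr rfl fun y hy => ?_
  · rw [diagAct_β, diagAct_β, U.dW_add, U.dW_add, add81_comm]
  · rw [diagAct_β, diagAct_β, U.dW_add, U.dW_add, add81_comm]

theorem β_three (x : ℕ) (m : M) : U.wA (dW x) (U.wA (dW x) (U.wA (dW x) m)) = m := by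
  have : add81 x (add81 x x) = 0 := by
    obtain ⟨a0, a1, a2, a3⟩ := add81_digits x x
    obtain ⟨b0, b1, b2, b3⟩ := add81_digits x (add81 x x)
    refine ext81 (add81_lt _ _) (by norm_num) ?_ ?_ ?_ ?_
    · rw [b0, a0]; omega
    · rw [b1, a1]; omega
    · rw [b2, a2]; omega
    · rw [b3, a3]; omega
  rw [U.dW_add, U.dW_add, add81_comm (add81 x x), this]; exact U.wA_nil m

/-- A nonzero vector and its two translates fill a weight space of a triple. -/
theorem W_elems {k x : ℕ} (hk : k ∈ tripF) (hx : x < 81) (h0 : dot81 (fn k) x ≠ 0) {a : M}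
    (ha : a ∈ U.diagAct.W k) (ha0 : a ≠ 0) {m : M} (hm : m ∈ U.diagAct.W k) :
    m = 0 ∨ m = a ∨ m = U.wA (dW x) a ∨ m = U.wA (dW x) (U.wA (dW x) a) := by
  have := U.finite_M
  have hk' := tripF_lt k hk
  have hb := U.β_mem hk' hx ha
  have hc := U.β_mem hk' hx hb
  have hinj := (U.wA (dW x)).injective
  have hb0 : U.wA (dW x) a ≠ 0 := fun e => ha0 (hinj (e.trans (map_zero _).symm))
  have hc0 : U.wA (dW x) (U.wA (dW x) a) ≠ 0 := fun e => hb0 (hinj (e.trans (map_zero _).symm))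
  have hne : U.wA (dW x) a ≠ a := fun e => ha0 (U.β_moves hk' hx h0 ha e)
  by_contra hcon
  push Not at hcon
  obtain ⟨n1, n2, n3, n4⟩ := hcon
  classical
  have := Fintype.ofFinite (U.diagAct.W k)
  have hcard := U.diagAct.structure_thm.2.1 k hk
  rw [Nat.card_eq_fintype_card] at hcard
  have h5 : ({0, ⟨a, ha⟩, ⟨_, hb⟩, ⟨_, hc⟩, ⟨m, hm⟩} : Finset (U.diagAct.W k)).card = 5 := by
    rw [Finset.card_insert_of_notMem, Finset.card_insert_of_notMem, Finset.card_insert_of_notMem,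
      Finset.card_insert_of_notMem, Finset.card_singleton] <;>
      simp only [Finset.mem_insert, Finset.mem_singleton, Subtype.ext_iff, AddSubgroup.coe_zero, not_or]
    · exact n4.symm
    · exact ⟨fun e => hne (hinj e).symm, n3.symm⟩
    · exact ⟨hne.symm, fun e => hne (by conv_rhs => rw [← U.β_three x a, ← e]), n2.symm⟩
    · exact ⟨ha0.symm, hb0.symm, hc0.symm, n1.symm⟩
  have := Finset.card_le_univ ({0, ⟨a, ha⟩, ⟨_, hb⟩, ⟨_, hc⟩, ⟨m, hm⟩} : Finset (U.diagAct.W k))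
  omega

theorem orbit_sum {k x : ℕ} (hk : k < 40) (hx : x < 81) (h0 : dot81 (fn k) x ≠ 0) {a : M}
    (ha : a ∈ U.diagAct.W k) : U.wA (dW x) (U.wA (dW x) a) = a + U.wA (dW x) a := by
  have hb := U.β_mem hk hx ha
  have hc := U.β_mem hk hx hb
  have hs : a + U.wA (dW x) a + U.wA (dW x) (U.wA (dW x) a) = 0 := by
    refine U.β_moves hk hx h0 (add_mem (add_mem ha hb) hc) ?_
    rw [map_add, map_add, U.β_three]
    abel
  calc U.wA (dW x) (U.wA (dW x) a) = (a + U.wA (dW x) a) + (a + U.wA (dW x) a + U.wA (dW x) (U.wA (dW x) a)) := by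
        conv_rhs => rw [← add_assoc, U.two, zero_add]
    _ = _ := by rw [hs, add_zero]

/-- A vector of the first triple fixed by its stabiliser. -/
theorem exists_a0 : ∃ a ∈ U.diagAct.W 25, a ≠ 0 ∧ U.wA wC a = a ∧ ∀ i ∈ [0, 1, 3, 4], U.wA [i] a = a := by
  obtain ⟨hT, hC, hC25, hi25, hF0⟩ := by
    have := wT_data
    simp only [Bool.and_eq_true] at this
    exact (⟨this.1.1.1.1, this.1.1.1.2, this.1.1.2, this.1.2, this.2⟩ :
      _ ∧ _ ∧ _ ∧ _ ∧ _)
  simp only [Nat.beq_eq] at hC25 hF0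
  have hC5 : ∀ i ∈ wC, i < 5 := fun i hi => Eq.mp Nat.blt_eq (List.all_eq_true.1 hC i hi)
  have h25 : (25 : ℕ) ∈ tripF := hF0 ▸ tripF_mem (T := 0) (by norm_num)
  obtain ⟨hCC, hinv, hsw⟩ := by
    have := wC_rel
    simp only [Bool.and_eq_true] at this
    exact (⟨this.1.1, this.1.2, this.2⟩ : _ ∧ _ ∧ _)
  have hCW : ∀ {m : M}, m ∈ U.diagAct.W 25 → U.wA wC m ∈ U.diagAct.W 25 := fun {m} hm => by
    have := (U.word_W wC 25 (by norm_num) hC5 hm).2
    rwa [hC25] at this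
  have hC2 : ∀ m, U.wA wC (U.wA wC m) = m := fun m => by
    rw [← U.wA_append, U.wA_rel hCC, U.wA_nil]
  obtain ⟨w, hw, hw0⟩ : ∃ w ∈ U.diagAct.W 25, w ≠ 0 := by
    have := U.finite_M
    by_contra h
    push Not at h
    have h4 := U.diagAct.structure_thm.2.1 25 h25
    rw [(AddSubgroup.eq_bot_iff_forall _).2 h, AddSubgroup.card_bot] at h4
    omega
  obtain ⟨a, ha, ha0, haC⟩ : ∃ a ∈ U.diagAct.W 25, a ≠ 0 ∧ U.wA wC a = a := by
    by_cases h : U.wA wC w = w
    · exact ⟨w, hw, hw0, h⟩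
    · refine ⟨w + U.wA wC w, add_mem hw (hCW hw), fun e => h ?_, by rw [map_add, hC2, add_comm]⟩
      calc U.wA wC w = (w + w) + U.wA wC w := by rw [U.two, zero_add]
        _ = w := by rw [add_assoc, e, add_zero]
  refine ⟨a, ha, ha0, haC, fun i hi => ?_⟩
  have hi5 : i < 5 := by revert i; decide
  have hif := List.all_eq_true.1 hi25 i hi
  simp only [Nat.beq_eq] at hif
  have him : U.wA [i] a ∈ U.diagAct.W 25 := by
    have := (U.word_W [i] 25 (by norm_num) (fun j hj => by rw [List.mem_singleton.1 hj]; exact hi5) ha).2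
    rwa [List.foldr_cons, List.foldr_nil, hif] at this
  have hx : xT 0 < 81 ∧ dot81 (fn 25) (xT 0) ≠ 0 := by
    have := List.all_eq_true.1 hT 0 (by decide)
    simp only [Bool.and_eq_true, Nat.blt_eq, Bool.not_eq_true', Nat.beq_eq] at this
    refine ⟨this.1.1.2, fun e => ?_⟩
    have h' := this.2
    rw [fT_eq, hF0, e] at h'
    simp at h'
  have hsx : dot81 (fn 25) (sx i (xT 0)) = dot81 (fn 25) (xT 0) := by
    have := List.all_eq_true.1 hsw i hi
    rwa [Nat.beq_eq, fT_eq, hF0] at this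
  have hcomm : ∀ {m : M}, m ∈ U.diagAct.W 25 → U.wA [i] m ∈ U.diagAct.W 25 →
      U.wA [i] (U.wA (dW (xT 0)) m) = U.wA (dW (xT 0)) (U.wA [i] m) := fun {m} _ hm' => by
    have := U.diagAct.β_s i (xT 0) hi5 hx.1 m
    rw [diagAct_s, diagAct_β, diagAct_β, diagAct_s] at this
    rw [this, U.β_weight (by norm_num) ((DiagAct.sig_facts (k := 25) hi5 (by norm_num)).2 (xT 0) hx.1).1 hx.1 hsx hm']
  have hii : ∀ m, U.wA [i] (U.wA [i] m) = m := fun m => by
    rw [← U.wA_append, U.wA_rel (u := [i] ++ [i]) (List.all_eq_true.1 sinv_rel i (List.mem_range.2 hi5)), U.wA_nil]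
  rcases U.W_elems h25 hx.1 hx.2 ha ha0 him with h | h | h | h
  · exact absurd ((U.wA [i]).injective (h.trans (map_zero _).symm)) ha0
  · exact h
  · have e := hii a
    rw [h, hcomm ha him, h] at e
    have := congrArg (U.wA (dW (xT 0))) e
    rw [U.β_three] at this
    exact absurd (U.β_moves (by norm_num) hx.1 hx.2 ha this.symm) ha0
  · have e := hii a
    have hbm := U.β_mem (k := 25) (by norm_num) hx.1 ha
    have hbim : U.wA [i] (U.wA (dW (xT 0)) a) ∈ U.diagAct.W 25 := by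
      rw [hcomm ha him]; exact U.β_mem (by norm_num) hx.1 him
    rw [h, hcomm hbm hbim, hcomm ha him, h, U.β_three] at e
    exact absurd (U.β_moves (by norm_num) hx.1 hx.2 ha e) ha0

/-- The base vector. -/
noncomputable def a0 : M := U.exists_a0.choose

theorem a0_spec : U.a0 ∈ U.diagAct.W 25 ∧ U.a0 ≠ 0 ∧ U.wA wC U.a0 = U.a0 ∧ ∀ i ∈ [0, 1, 3, 4], U.wA [i] U.a0 = U.a0 :=
  U.exists_a0.choose_spec

theorem stab_a0 : ∀ (n : ℕ) (w : List ℕ), stabOK n w = true → U.wA w U.a0 = U.a0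
  | n, [], _ => U.wA_nil _
  | 0, _ :: _, h => by simp [stabOK] at h
  | n + 1, i :: w, h => by
    rw [stabOK, Bool.or_eq_true, Bool.and_eq_true, Bool.and_eq_true, memN_iff] at h
    rcases h with ⟨hi, hw⟩ | ⟨hc, hw⟩
    · rw [U.cons_wA i w, stab_a0 n w hw, U.a0_spec.2.2.2 i hi]
    · rw [← List.take_append_drop 9 (i :: w), U.wA_append, stab_a0 n _ hw, beqC_eq hc, U.a0_spec.2.2.1]

/-- The vector of a triple. -/
noncomputable def eT (T : ℕ) : M := U.wA (wT T) U.a0

theorem eT_spec {T : ℕ} (hT : T < 10) : U.eT T ∈ U.diagAct.W (tripF.getD T 0) ∧ U.eT T ≠ 0 ∧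
    xT T < 81 ∧ dot81 (fn (tripF.getD T 0)) (xT T) ≠ 0 := by
  have h := wT_data
  simp only [Bool.and_eq_true] at h
  have := List.all_eq_true.1 h.1.1.1.1 T (List.mem_range.2 hT)
  simp only [Bool.and_eq_true, Nat.blt_eq, Bool.not_eq_true', Nat.beq_eq] at this
  obtain ⟨⟨⟨⟨⟨-, h5⟩, hf⟩, hx⟩, -⟩, hd⟩ := this
  refine ⟨?_, fun e => U.a0_spec.2.1 ((U.wA (wT T)).injective (e.trans (map_zero _).symm)), hx, fun e => ?_⟩
  · have := (U.word_W (wT T) 25 (by norm_num) (fun i hi => Eq.mp Nat.blt_eq (List.all_eq_true.1 h5 i hi)) U.a0_spec.1).2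
    rwa [hf] at this
  · rw [fT_eq, e] at hd; simp at hd

/-- The basis. -/
noncomputable def bas (j : ℕ) : M :=
  U.wA ((bif Nat.beq (j % 2) 1 then dW (xT (j / 2)) else []) ++ wT (j / 2)) U.a0

theorem bas_even (T : ℕ) : U.bas (2 * T) = U.eT T := by
  rw [bas, eT, show 2 * T % 2 = 0 by omega, show 2 * T / 2 = T by omega]; rfl

theorem bas_odd (T : ℕ) : U.bas (2 * T + 1) = U.wA (dW (xT T)) (U.eT T) := by
  rw [bas, eT, show (2 * T + 1) % 2 = 1 by omega, show (2 * T + 1) / 2 = T by omega]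
  exact U.wA_append _ _ _

/-- The vector of a code. -/
noncomputable def ψ (v : ℕ) : M := ∑ j ∈ Finset.range 20, if v.testBit j then U.bas j else 0

theorem ψ_xor (u v : ℕ) : U.ψ (u ^^^ v) = U.ψ u + U.ψ v := by
  rw [ψ, ψ, ψ, ← Finset.sum_add_distrib]
  refine Finset.sum_congr rfl fun j _ => ?_
  rw [Nat.testBit_xor]
  cases u.testBit j <;> cases v.testBit j <;> simp [U.two]

theorem ψ_zero : U.ψ 0 = 0 := by simp [ψ]

theorem ψ_bit {i : ℕ} (hi : i < 20) : U.ψ (1 <<< i) = U.bas i := by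
  rw [ψ, Finset.sum_eq_single i]
  · rw [Nat.one_shiftLeft, Nat.testBit_two_pow_self, if_pos rfl]
  · intro j _ hj
    rw [Nat.one_shiftLeft, Nat.testBit_two_pow, if_neg (by simpa using Ne.symm hj)]
  · exact fun h => absurd (Finset.mem_range.2 hi) h

theorem ψ_tgt {S x : ℕ} (hS : S < 10) (hx : x < 81) : U.ψ (tgt S x) = U.wA (dW x) (U.eT S) := by
  obtain ⟨he, -, hxT, hxd⟩ := U.eT_spec hS
  have hk := tripF_lt _ (tripF_mem hS)
  have e1 : U.ψ (1 <<< (2 * S)) = U.eT S := by rw [U.ψ_bit (by omega), U.bas_even]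
  have e2 : U.ψ (2 <<< (2 * S)) = U.wA (dW (xT S)) (U.eT S) := by
    rw [show 2 <<< (2 * S) = 1 <<< (2 * S + 1) by simp [Nat.shiftLeft_eq, pow_succ, mul_comm],
      U.ψ_bit (by omega), U.bas_odd]
  have h3 : dot81 (fn (tripF.getD S 0)) (xT S) < 3 := Nat.mod_lt _ (by norm_num)
  have h3' : dot81 (fn (tripF.getD S 0)) x < 3 := Nat.mod_lt _ (by norm_num)
  rw [tgt, fT_eq]
  rcases eq_or_ne (dot81 (fn (tripF.getD S 0)) x) 0 with h0 | h0
  · rw [h0, show Nat.beq 0 0 = true from rfl, cond_true, e1]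
    exact (U.diagAct.W_fix hk hx h0 he).symm
  rw [show Nat.beq (dot81 (fn (tripF.getD S 0)) x) 0 = false from
    Bool.eq_false_iff.2 fun e => h0 (Nat.eq_of_beq_eq_true e), cond_false]
  rcases eq_or_ne (dot81 (fn (tripF.getD S 0)) x) (dot81 (fn (tripF.getD S 0)) (xT S)) with h1 | h1
  · rw [h1, show ∀ n, Nat.beq n n = true from fun n => Nat.beq_refl n, cond_true, e2]
    exact (U.β_weight hk hx hxT h1 he).symm
  rw [show Nat.beq (dot81 (fn (tripF.getD S 0)) x) (dot81 (fn (tripF.getD S 0)) (xT S)) = false from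
    Bool.eq_false_iff.2 fun e => h1 (Nat.eq_of_beq_eq_true e), cond_false,
    show 3 <<< (2 * S) = (1 <<< (2 * S)) ^^^ (2 <<< (2 * S)) by rw [← Nat.shiftLeft_xor_distrib]; rfl,
    ψ_xor, e1, e2, ← U.orbit_sum hk hxT hxd he, U.dW_add]
  refine (U.β_weight hk hx (add81_lt _ _) ?_ he).symm
  rw [dot_add]
  rcases (show dot81 (fn (tripF.getD S 0)) (xT S) = 1 ∨ dot81 (fn (tripF.getD S 0)) (xT S) = 2 by omega) with e | e <;>
    rw [e] at h1 ⊢ <;> omega

theorem ψ_surj (m : M) : ∃ v < 2 ^ 20, U.ψ v = m := by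
  have := U.finite_M
  have hadd : ∀ a b : M, (∃ v < 2 ^ 20, U.ψ v = a) → (∃ v < 2 ^ 20, U.ψ v = b) → ∃ v < 2 ^ 20, U.ψ v = a + b := by
    rintro _ _ ⟨u, hu, rfl⟩ ⟨v, hv, rfl⟩
    exact ⟨u ^^^ v, Nat.xor_lt_two_pow hu hv, U.ψ_xor u v⟩
  rw [U.diagAct.span_trip m]
  refine Finset.sum_induction _ (fun a => ∃ v < 2 ^ 20, U.ψ v = a) hadd ⟨0, by norm_num, U.ψ_zero⟩ fun k hk => ?_
  rw [List.mem_toFinset] at hk
  obtain ⟨T, hT, rfl⟩ : ∃ T < 10, tripF.getD T 0 = k := by revert k; decide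
  obtain ⟨he, he0, hx, hd⟩ := U.eT_spec hT
  have hQ : U.diagAct.Q (tripF.getD T 0) m ∈ U.diagAct.W (tripF.getD T 0) := U.diagAct.Q_Q (tripF_lt _ hk) m
  have hlt : ∀ i < 20, (1 <<< i) < 2 ^ 20 := fun i hi => by
    rw [Nat.one_shiftLeft]; exact Nat.pow_lt_pow_right (by norm_num) hi
  have g1 : ∃ v < 2 ^ 20, U.ψ v = U.eT T := ⟨1 <<< (2 * T), hlt _ (by omega), by rw [U.ψ_bit (by omega), U.bas_even]⟩
  have g2 : ∃ v < 2 ^ 20, U.ψ v = U.wA (dW (xT T)) (U.eT T) :=
    ⟨1 <<< (2 * T + 1), hlt _ (by omega), by rw [U.ψ_bit (by omega), U.bas_odd]⟩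
  rcases U.W_elems hk hx hd he he0 hQ with h | h | h | h <;> rw [h]
  · exact ⟨0, by norm_num, U.ψ_zero⟩
  · exact g1
  · exact g2
  · rw [U.orbit_sum (tripF_lt _ hk) hx hd he]; exact hadd _ _ g1 g2

theorem ψ_inj {u v : ℕ} (hu : u < 2 ^ 20) (hv : v < 2 ^ 20) (h : U.ψ u = U.ψ v) : u = v := by
  have := U.finite_M
  have hb := (Nat.bijective_iff_surjective_and_card fun n : Fin (2 ^ 20) => U.ψ n).2
    ⟨fun m => by obtain ⟨w, hw, rfl⟩ := U.ψ_surj m; exact ⟨⟨w, hw⟩, rfl⟩, by rw [Nat.card_fin, U.card]⟩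
  exact congrArg Fin.val (hb.1 (a₁ := ⟨u, hu⟩) (a₂ := ⟨v, hv⟩) h)

/-- The word acts by the code. -/
def Rep (w : List ℕ) (L : List ℕ) : Prop := ∀ v < 2 ^ 20, U.wA w (U.ψ v) = U.ψ (app L v)

theorem rep_of_bits {w L : List ℕ} (h : ∀ j < 20, U.wA w (U.bas j) = U.ψ (L.getD j 0)) : U.Rep w L :=
  ext_bits (· + ·) _ _ 20 (fun a _ b _ => by rw [ψ_xor, map_add]) (fun a _ b _ => by rw [app_add, ψ_xor])
    (by rw [ψ_zero, map_zero, app_zero, ψ_zero]) fun j hj => by rw [U.ψ_bit hj, app_bit, h j hj]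

theorem rep_nil : U.Rep [] idC := fun v hv => by rw [U.wA_nil, app_idC v hv]

theorem rep_append {u w A B : List ℕ} (hA : U.Rep u A) (hw : U.Rep w B) (hB : okC B = true) :
    U.Rep (u ++ w) (comp A B) := fun v hv => by
  rw [U.wA_append, hw v hv, hA _ (okC_lt hB v), app_comp hB v hv]

theorem rep_gen {g : ℕ} (hg : g < 9) : U.Rep [g] (gA g) := by
  refine U.rep_of_bits fun j hj => ?_
  have h := List.all_eq_true.1 (List.all_eq_true.1 cert_rel g (List.mem_range.2 hg)) j (List.mem_range.2 hj)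
  simp only [Bool.and_eq_true, Nat.blt_eq, Nat.beq_eq] at h
  obtain ⟨⟨⟨⟨hS, hx⟩, hst⟩, hrel⟩, htgt⟩ := h
  rw [htgt, U.ψ_tgt hS hx, bas, ← U.wA_append]
  have : [g] ++ ((bif Nat.beq (j % 2) 1 then dW (xT (j / 2)) else []) ++ wT (j / 2)) = lhsW g j :=
    (List.append_assoc _ _ _).symm
  rw [this, U.wA_rel hrel, U.wA_append, U.wA_append, U.stab_a0 30 _ hst]
  rfl

end UAct

end CfsgU6Mod
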