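/-
Kernel checks forcing the code of the transvection.
-/
import Cfsg.Agent.Lib.U6Mod.BaseChecks

set_option autoImplicit false
set_option maxRecDepth 100000

namespace CfsgU6Mod

open CfsgLib.G24 CfsgLib.SUSixSub

/-- The code of a generator, the transvection's being given. -/
def gR (R : List ℕ) (k : ℕ) : List ℕ := bif Nat.beq k 9 then R else gA k

/-- A word applied to a vector. -/
def appW (R : List ℕ) : List ℕ → ℕ → ℕ
  | [], v => v
  | k :: w, v => app (gR R k) (appW R w v)

/-- The code of a monomial word applied to a vector. -/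
def appM (w : List ℕ) (v : ℕ) : ℕ := appW [] w v

/-- A word whose letters are monomial generators commuting with the transvection. -/
def comW (w : List ℕ) : Bool := w.all (fun k => Nat.blt k 9) && relOK ([9] ++ w) (w ++ [9])

/-- The source of a column. -/
def src (a b c : ℕ) (e : List ℕ × ℕ × ℕ) : ℕ :=
  bif Nat.beq e.2.2 0 then ((bif Nat.beq (e.2.1 &&& 1) 1 then a else 0) ^^^ (bif Nat.beq (e.2.1 &&& 2) 2 then b else 0))
    else c

/-- The code built from three columns. -/
def mkR (a b c : ℕ) : List ℕ := (List.range 20).map fun j => app (colC.getD j []) (src a b c (colW.getD j ([], 0, 0)))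

/-- The candidates for a column. -/
def cands (D : List ℕ) (N : ℕ) (F : List (List ℕ)) : List ℕ :=
  ((List.range N).map (app D)).filter fun v => F.all fun w => Nat.beq (appM w v) v

/-- Two words agree on all bits. -/
def sameW (R : List ℕ) (u v : List ℕ) : Bool :=
  (List.range 20).all fun j => Nat.beq (appW R u (1 <<< j)) (appW R v (1 <<< j))

/-- The projection to the block fixed by the diagonal element. -/
def projY (v : ℕ) : ℕ := v ^^^ appM yW v ^^^ appM yW (appM yW v)

/-- The relations of the transvection. -/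
def relsR (R : List ℕ) : Bool :=
  Nat.beq (app R (app R (1 <<< 4))) (1 <<< 4) &&
    (braidW.all fun t => sameW R ([9] ++ t ++ [9] ++ t ++ [9] ++ t) []) && sameW R ([9] ++ conjR) (conjR ++ [9])

theorem rel_ok : ((fixA ++ fixB ++ fixW ++ (colW.map fun e => e.1) ++ [yW]).all comW &&
    relOK [9, 9] [] && (braidW.all fun t => relOK ([9] ++ t ++ [9] ++ t ++ [9] ++ t) []) &&
    relOK ([9] ++ conjR) (conjR ++ [9])) = true := by decide +kernel

theorem fix_ok : ((fixA.all fun w => Nat.beq (appM w (1 <<< 18)) (1 <<< 18)) &&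
    (fixB.all fun w => Nat.beq (appM w (1 <<< 19)) (1 <<< 19)) &&
    (fixW.all fun w => Nat.beq (appM w (1 <<< 4)) (1 <<< 4)) &&
    Nat.beq (appM yW (1 <<< 18)) (1 <<< 18) && Nat.beq (appM yW (1 <<< 19)) (1 <<< 19) &&
    Nat.beq (projY (1 <<< 4)) 0 &&
    ((List.range 20).all fun j => Nat.beq (app dZ (app eZ (1 <<< j))) (projY (1 <<< j)) &&
      Nat.beq (app dM (app eM (1 <<< j))) ((1 <<< j) ^^^ projY (1 <<< j))) &&
    (eZ.all fun c => Nat.blt c (2 ^ 8)) && (eM.all fun c => Nat.blt c (2 ^ 12))) = true := by decide +kernel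

theorem col_ok : ((List.range 20).all fun j =>
    Nat.beq (appM (colW.getD j ([], 0, 0)).1 (src (1 <<< 18) (1 <<< 19) (1 <<< 4) (colW.getD j ([], 0, 0)))) (1 <<< j) &&
      beqC (colC.getD j []) ((List.range 20).map fun i => appM (colW.getD j ([], 0, 0)).1 (1 <<< i))) = true := by
  decide +kernel

theorem search_ok : ((cands dZ (2 ^ 8) fixA).all fun a => (cands dZ (2 ^ 8) fixB).all fun b =>
    (cands dM (2 ^ 12) fixW).all fun c =>
      !(Nat.beq (app (mkR a b c) a) (1 <<< 18) && Nat.beq (app (mkR a b c) b) (1 <<< 19) &&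
        Nat.beq (app (mkR a b c) c) (1 <<< 4) && relsR (mkR a b c)) || beqC (mkR a b c) (gA 9)) = true := by
  decide +kernel

end CfsgU6Mod
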