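/-
Kernel checks for the Sylow two-subgroup in layered coordinates.
-/
import Cfsg.Agent.Lib.U6Mod.RChecks
import Cfsg.Agent.Lib.U6Mod.SylData

set_option autoImplicit false
set_option maxRecDepth 100000

namespace CfsgU6Mod

/-- A layered vector under a word. -/
def layW' (w : List ℕ) (z : ℕ) : ℕ := app layI (appW (gA 9) w (app layT z))

/-- A product of the maps selected by the bits. -/
def appSel : List (List ℕ) → ℕ → ℕ → ℕ
  | [], _, z => z
  | c :: cs, s, z => bif Nat.beq (s &&& 1) 1 then app c (appSel cs (s >>> 1) z) else appSel cs (s >>> 1) z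

/-- A radical generator. -/
def qc (j : ℕ) : List ℕ := qC.getD j []

/-- A Levi generator. -/
def gc (i : ℕ) : List ℕ := gC.getD i []

/-- An element of the Levi part. -/
def uc (u : ℕ) : List ℕ := uC.getD u []

/-- The second layer. -/
def xL (z : ℕ) : ℕ := (z >>> 10) &&& 511

/-- The third layer. -/
def yL (z : ℕ) : ℕ := (z >>> 1) &&& 511

/-- The Levi part on the second layer. -/
def ux (u : ℕ) : List ℕ := uX.getD u []

/-- The Levi part on the third layer. -/
def uy (u : ℕ) : List ℕ := uY.getD u []

/-- The product of a radical element with a second-layer vector. -/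
def mulS (s x : ℕ) : ℕ := app (mulX.map fun c => app c x) s

theorem word_codes : (((List.range 9).all fun j => (wQ.getD j []).all (fun k => Nat.blt k 10) && okC (qc j) &&
      (List.range 20).all fun i => Nat.beq (layW' (wQ.getD j []) (1 <<< i)) (app (qc j) (1 <<< i))) &&
    ((List.range 6).all fun j => (wU.getD j []).all (fun k => Nat.blt k 10) && okC (gc j) &&
      (List.range 20).all fun i => Nat.beq (layW' (wU.getD j []) (1 <<< i)) (app (gc j) (1 <<< i))) &&
    Nat.beq qC.length 9 && Nat.beq gC.length 6 && Nat.beq uC.length 64 && Nat.beq mulX.length 9) = true := by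
  decide +kernel

theorem q_rel : ((List.range 9).all fun a => (List.range 9).all fun b => (List.range 20).all fun i =>
    Nat.beq (app (qc a) (app (qc b) (1 <<< i))) (app (qc b) (app (qc a) (1 <<< i))) &&
      (!Nat.beq a b || Nat.beq (app (qc a) (app (qc b) (1 <<< i))) (1 <<< i))) = true := by
  decide +kernel

theorem q_layers : ((List.range 9).all fun j => Nat.beq (app (qc j) (1 <<< 19) >>> 10) (512 ||| (1 <<< j)) &&
    ((List.range 19).all fun i => Nat.blt (app (qc j) (1 <<< i)) (2 ^ 19)) &&
    ((List.range 10).all fun i => Nat.blt (app (qc j) (1 <<< i)) (2 ^ 10)) &&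
    ((List.range 9).all fun i => Nat.beq (xL (app (qc j) (1 <<< (10 + i)))) (1 <<< i) &&
      Nat.beq (yL (app (qc j) (1 <<< (10 + i)))) (app (mulX.getD j []) (1 <<< i)) &&
      Nat.beq (app (qc j) (1 <<< (1 + i))) ((1 <<< (1 + i)) ^^^ (bif Nat.beq i j then 1 else 0))) &&
    Nat.beq (app (qc j) 1) 1) = true := by
  decide +kernel

theorem u_code : ((List.range 64).all fun u => okC (uc u) && (List.range 20).all fun i =>
    Nat.beq (appSel gC u (1 <<< i)) (app (uc u) (1 <<< i))) = true := by
  decide +kernel

theorem u_layers : ((List.range 64).all fun u => Nat.beq (app (uc u) (1 <<< 19) >>> 19) 1 &&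
    ((List.range 19).all fun i => Nat.blt (app (uc u) (1 <<< i)) (2 ^ 19)) &&
    ((List.range 10).all fun i => Nat.blt (app (uc u) (1 <<< i)) (2 ^ 10)) &&
    ((List.range 9).all fun i => Nat.beq (xL (app (uc u) (1 <<< (10 + i)))) (app (ux u) (1 <<< i)) &&
      Nat.beq (yL (app (uc u) (1 <<< (1 + i)))) (app (uy u) (1 <<< i)) &&
      Nat.blt (app (ux u) (1 <<< i)) 512) &&
    Nat.beq (app (uc u) 1) 1) = true := by
  decide +kernel

theorem u_mul : ((List.range 6).all fun i => (List.range 64).all fun u =>
    Nat.blt ((muG.getD i []).getD u 0) 64 && (List.range 20).all fun b =>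
      Nat.beq (app (gc i) (app (uc u) (1 <<< b))) (app (uc ((muG.getD i []).getD u 0)) (1 <<< b))) = true := by
  decide +kernel

theorem g_conj : ((List.range 6).all fun i => (List.range 9).all fun j => (List.range 20).all fun b =>
    Nat.beq (app (gc i) (app (qc j) (1 <<< b))) (appSel qC (app (ux (1 <<< i)) (1 <<< j)) (app (gc i) (1 <<< b)))) = true := by
  decide +kernel

theorem u_step : (((List.range 6).all fun i => (List.range 64).all fun u => (List.range 9).all fun j =>
      Nat.beq (app (ux (1 <<< i)) (app (ux u) (1 <<< j))) (app (ux ((muG.getD i []).getD u 0)) (1 <<< j))) &&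
    ((List.range 9).all fun j => Nat.beq (app (ux 0) (1 <<< j)) (1 <<< j)) &&
    (List.range 64).all fun u => Nat.beq u 0 || (List.range 6).any fun i =>
      Nat.blt (u ^^^ (1 <<< i)) u && Nat.beq ((muG.getD i []).getD (u ^^^ (1 <<< i)) 0) u) = true := by
  decide +kernel

theorem u_dist : ((List.range 64).all fun u => (List.range 64).all fun v => Nat.beq u v ||
    (List.range 9).any fun j => !Nat.beq (app (ux u) (1 <<< j)) (app (ux v) (1 <<< j))) = true := by
  decide +kernel

/-- An involution of the Levi part. -/
def invU (u : ℕ) : Bool := (List.range 9).all fun j => Nat.beq (app (ux u) (app (ux u) (1 <<< j))) (1 <<< j)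

theorem u_elem : ((List.range 64).all fun u => !invU u || (List.range 64).all fun v => !invU v ||
    !((List.range 9).all fun j => Nat.beq (app (ux u) (app (ux v) (1 <<< j))) (app (ux v) (app (ux u) (1 <<< j)))) ||
      ((Nat.blt u 16 && Nat.blt v 16) || (Nat.beq (u % 4) 0 && Nat.beq (v % 4) 0))) = true := by
  decide +kernel

theorem u_abel : ((List.range 4).all fun i => (List.range 16).all fun n =>
    Nat.beq ((muG.getD i []).getD n 0) (n ^^^ (1 <<< i)) &&
      Nat.beq ((muG.getD (i + 2) []).getD (n <<< 2) 0) ((n <<< 2) ^^^ (1 <<< (i + 2)))) = true := by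
  decide +kernel

end CfsgU6Mod
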