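/-
Kernel checks on the layers: fixed points, annihilators and subgroups of the Levi part.
-/
import Cfsg.Agent.Lib.U6Mod.SylChecks
import Cfsg.Agent.Lib.U6Mod.CombData

set_option autoImplicit false
set_option maxRecDepth 100000

namespace CfsgU6Mod

/-- Entries of a packed list. -/
def unp (w : ℕ) : ℕ → ℕ → List ℕ
  | 0, _ => []
  | n + 1, N => (N &&& (2 ^ w - 1)) :: unp w n (N >>> w)

/-- A number without its lowest bit. -/
def clr (n : ℕ) : ℕ := n &&& (n - 1)

/-- A test bit. -/
def tb (N i : ℕ) : Bool := Nat.beq ((N >>> i) &&& 1) 1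

/-- An annihilator map. -/
def mc (x : ℕ) : List ℕ := unp 9 9 (mC.getD x 0)

/-- An annihilator. -/
def ak (x : ℕ) : ℕ := annK.getD x 0

/-- An index in one of the two large elementary groups of the Levi part. -/
def eI (h n : ℕ) : ℕ := bif Nat.beq h 0 then n else n <<< 2

/-- The common fixed points of a subgroup. -/
def fixM (L : List ℕ) (h S : ℕ) : ℕ :=
  (List.range 16).foldr (fun n F => bif tb S n then L.getD (eI h n) 0 &&& F else F) (2 ^ 512 - 1)

/-- The annihilator bound by dimension. -/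
def annB (q : ℕ) : ℕ :=
  bif Nat.beq q 0 then 9 else bif Nat.beq q 1 then 5 else bif Nat.beq q 2 then 2 else bif Nat.ble q 5 then 1 else 0

/-- The dimension bound for a fixed space. -/
def capB (q d0 d1 : ℕ) : ℕ := (bif Nat.beq q 0 then 1 else 0) + min (annB q) d0 + min (9 - q) d1 + 1

/-- The size of a subgroup of sixteen elements. -/
def size16 (S : ℕ) : ℕ := (List.range 16).countP fun n => tb S n

/-- The criterion for one subgroup of the Levi part. -/
def rowOK (l d0 d1 : ℕ) (one od : List ℕ) : Bool :=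
  (List.range (d0 + 1)).all fun q => Nat.beq (q + l) 0 ||
    (Nat.blt (2 * (q + l + 1) + capB q d0 d1) 20 ||
      ((Nat.beq q d0 && !one.isEmpty || Nat.beq (q + 1) d0 && !od.isEmpty) &&
        Nat.ble (capB q d0 d1 + q + l + 1) 13))

/-- A rank-one element with a certificate. -/
def isOne (r : ℕ) : Bool := oneCert.any fun e => Nat.beq e.1 r

theorem mC_ok : ((List.range 512).all fun x => (List.range 9).all fun j =>
    Nat.beq ((mc x).getD j 0) (app (mulX.getD j []) x)) = true := by decide +kernel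

theorem mulX_sym : ((List.range 9).all fun i => (List.range 9).all fun j =>
    Nat.beq (app (mulX.getD i []) (1 <<< j)) (app (mulX.getD j []) (1 <<< i))) = true := by decide +kernel

theorem ann_cert : ((List.range 512).all fun x => Nat.beq x 0 || (Nat.ble (annCert.getD x (0, 0, 0, 0)).1 5 &&
    ((unp 9 9 (annCert.getD x (0, 0, 0, 0)).2.2.1).all fun c => Nat.blt c (2 ^ (annCert.getD x (0, 0, 0, 0)).1)) &&
    ((List.range 9).all fun j =>
      Nat.beq ((1 <<< j) ^^^ app (unp 9 9 (annCert.getD x (0, 0, 0, 0)).2.2.2) (app (mc x) (1 <<< j)))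
        (app (unp 9 (annCert.getD x (0, 0, 0, 0)).1 (annCert.getD x (0, 0, 0, 0)).2.1)
          (app (unp 9 9 (annCert.getD x (0, 0, 0, 0)).2.2.1) (1 <<< j)))) &&
    (List.range (2 ^ (annCert.getD x (0, 0, 0, 0)).1)).all fun n =>
      tb (ak x) (app (unp 9 (annCert.getD x (0, 0, 0, 0)).1 (annCert.getD x (0, 0, 0, 0)).2.1) n))) = true := by
  decide +kernel

theorem fix_masks : ((List.range 64).all fun u => (List.range 512).all fun v =>
    (!Nat.beq (app (ux u) v) v || tb (fixX.getD u 0) v) && (!Nat.beq (app (uy u) v) v || tb (fixY.getD u 0) v)) = true := by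
  decide +kernel

theorem sub_closed : ((subMask.all fun S => (List.range 16).all fun n =>
    memN ((List.range 16).foldr (fun m T => bif tb S m then T ||| (1 <<< (m ^^^ n)) else T) S) subMask) &&
    memN 1 subMask && Nat.beq subMask.length 67) = true := by decide +kernel

theorem rows_ok : ((List.range 2).all fun h => (List.range 67).all fun k =>
    Nat.beq (subRow.getD (67 * h + k) (0, 0, 0, 0, [], [])).1 h &&
    Nat.beq (subRow.getD (67 * h + k) (0, 0, 0, 0, [], [])).2.1 (subMask.getD k 0) &&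
    Nat.ble ((List.range 512).countP fun v => tb (fixM fixX h (subMask.getD k 0)) v)
      (2 ^ (subRow.getD (67 * h + k) (0, 0, 0, 0, [], [])).2.2.1) &&
    Nat.ble ((List.range 512).countP fun v => tb (fixM fixY h (subMask.getD k 0)) v)
      (2 ^ (subRow.getD (67 * h + k) (0, 0, 0, 0, [], [])).2.2.2.1) &&
    ((List.range 5).any fun l => Nat.beq (size16 (subMask.getD k 0)) (2 ^ l) &&
      rowOK l (subRow.getD (67 * h + k) (0, 0, 0, 0, [], [])).2.2.1 (subRow.getD (67 * h + k) (0, 0, 0, 0, [], [])).2.2.2.1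
        (subRow.getD (67 * h + k) (0, 0, 0, 0, [], [])).2.2.2.2.1
        (subRow.getD (67 * h + k) (0, 0, 0, 0, [], [])).2.2.2.2.2) &&
    ((subRow.getD (67 * h + k) (0, 0, 0, 0, [], [])).2.2.2.2.1.all fun r =>
      isOne r && Nat.blt r 512 && (List.range 16).all fun n =>
        !tb (subMask.getD k 0) n || Nat.beq (app (ux (eI h n)) r) r) &&
    ((subRow.getD (67 * h + k) (0, 0, 0, 0, [], [])).2.2.2.2.2.all fun r =>
      isOne r && Nat.blt r 512 && (List.range 16).all fun n =>
        !tb (subMask.getD k 0) n || Nat.beq (app (ux (eI h n)) r) r) &&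
    (List.isEmpty (subRow.getD (67 * h + k) (0, 0, 0, 0, [], [])).2.2.2.2.2 ||
      Nat.beq ((subRow.getD (67 * h + k) (0, 0, 0, 0, [], [])).2.2.2.2.2.foldr (fun a b => a ^^^ b) 0) 0 &&
        Nat.beq ((subRow.getD (67 * h + k) (0, 0, 0, 0, [], [])).2.2.2.2.2.length % 2) 1)) = true := by
  decide +kernel

theorem one_ok : (oneCert.all fun e => Nat.blt e.1 512 && !Nat.beq e.1 0 &&
    ((unp 20 20 e.2.2.1).all fun c => Nat.blt c (2 ^ 14)) &&
    ((List.range 20).all fun j =>
      Nat.beq ((1 <<< j) ^^^ app (unp 20 20 e.2.2.2) ((1 <<< j) ^^^ appSel qC e.1 (1 <<< j)))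
        (app (unp 20 14 e.2.1) (app (unp 20 20 e.2.2.1) (1 <<< j)))) &&
    ((List.range 14).all fun k => Nat.beq (appSel qC e.1 ((unp 20 14 e.2.1).getD k 0)) ((unp 20 14 e.2.1).getD k 0) &&
      Nat.beq (app (unp 20 20 e.2.2.1) ((unp 20 14 e.2.1).getD k 0)) (1 <<< k))) = true := by
  decide +kernel

end CfsgU6Mod
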