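/-
Two distinct annihilators meet in at most four elements.
-/
import Cfsg.Agent.Lib.U6Mod.CombChecks

set_option autoImplicit false
set_option maxRecDepth 100000
set_option Elab.async false

namespace CfsgU6Mod

/-- Pairs in a block of rows. -/
def pairOK (a : ℕ) : Bool := (List.range 32).all fun k => Nat.beq (32 * a + k) 0 || (List.range (32 * a + k)).all fun z =>
  Nat.beq z 0 || Nat.beq (clr (clr (clr (clr (ak (32 * a + k) &&& ak z))))) 0

theorem pair_ok0 : pairOK 0 = true := by decide +kernel

theorem pair_ok1 : pairOK 1 = true := by decide +kernel

theorem pair_ok2 : pairOK 2 = true := by decide +kernel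

theorem pair_ok3 : pairOK 3 = true := by decide +kernel

theorem pair_ok4 : pairOK 4 = true := by decide +kernel

theorem pair_ok5 : pairOK 5 = true := by decide +kernel

theorem pair_ok6 : pairOK 6 = true := by decide +kernel

theorem pair_ok7 : pairOK 7 = true := by decide +kernel

theorem pair_ok8 : pairOK 8 = true := by decide +kernel

theorem pair_ok9 : pairOK 9 = true := by decide +kernel

theorem pair_ok10 : pairOK 10 = true := by decide +kernel

theorem pair_ok11 : pairOK 11 = true := by decide +kernel

theorem pair_ok12 : pairOK 12 = true := by decide +kernel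

theorem pair_ok13 : pairOK 13 = true := by decide +kernel

theorem pair_ok14 : pairOK 14 = true := by decide +kernel

theorem pair_ok15 : pairOK 15 = true := by decide +kernel

theorem pair_all : ∀ a < 16, pairOK a = true := by
  intro a ha
  interval_cases a
  · exact pair_ok0
  · exact pair_ok1
  · exact pair_ok2
  · exact pair_ok3
  · exact pair_ok4
  · exact pair_ok5
  · exact pair_ok6
  · exact pair_ok7
  · exact pair_ok8
  · exact pair_ok9
  · exact pair_ok10
  · exact pair_ok11
  · exact pair_ok12
  · exact pair_ok13
  · exact pair_ok14
  · exact pair_ok15

end CfsgU6Mod
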