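/-
The transvection acts by the standard code.
-/
import Cfsg.Agent.Lib.U6Mod.Base
import Cfsg.Agent.Lib.U6Mod.RChecks

set_option autoImplicit false
set_option maxRecDepth 100000

namespace CfsgU6Mod

open CfsgLib.G24 CfsgLib.SUSixSub

theorem bit_lt {j : ℕ} (hj : j < 20) : (1 <<< j) < 2 ^ 20 := by
  rw [Nat.one_shiftLeft]; exact Nat.pow_lt_pow_right (by norm_num) hj

theorem gA_ok {k : ℕ} (hk : k < 10) : okC (gA k) = true := List.all_eq_true.1 genA_ok k (List.mem_range.2 hk)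

theorem gR_ok {R : List ℕ} (hR : okC R = true) {k : ℕ} (hk : k < 10) : okC (gR R k) = true := by
  unfold gR; cases Nat.beq k 9
  · exact gA_ok hk
  · exact hR

theorem appW_lt {R : List ℕ} (hR : okC R = true) : ∀ {w : List ℕ}, (∀ k ∈ w, k < 10) → ∀ {v : ℕ}, v < 2 ^ 20 →
    appW R w v < 2 ^ 20
  | [], _, _, hv => hv
  | k :: _, h, _, _ => okC_lt (gR_ok hR (h k List.mem_cons_self)) _

theorem appW_add (R : List ℕ) : ∀ (w : List ℕ) (u v : ℕ), appW R w (u ^^^ v) = appW R w u ^^^ appW R w v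
  | [], _, _ => rfl
  | k :: w, u, v => by simp only [appW, appW_add R w, app_add]

theorem appW_zero (R : List ℕ) : ∀ w : List ℕ, appW R w 0 = 0
  | [] => rfl
  | k :: w => by rw [appW, appW_zero R w, app_zero]

namespace UAct

variable {M : Type*} [AddCommGroup M] (U : UAct M)

theorem appM_rep : ∀ {w : List ℕ}, (∀ k ∈ w, k < 9) → ∀ {v : ℕ}, v < 2 ^ 20 →
    appM w v < 2 ^ 20 ∧ U.wA w (U.ψ v) = U.ψ (appM w v)
  | [], _, v, hv => ⟨hv, U.wA_nil _⟩
  | k :: w, h, v, hv => by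
    have hk := h k List.mem_cons_self
    obtain ⟨h1, h2⟩ := appM_rep (w := w) (fun i hi => h i (List.mem_cons_of_mem _ hi)) hv
    have e : appM (k :: w) v = app (gA k) (appM w v) := by
      show app (gR [] k) (appW [] w v) = _
      rw [gR, show Nat.beq k 9 = false from Bool.eq_false_iff.2 fun e => by
        have := Nat.eq_of_beq_eq_true e; omega, cond_false]
      rfl
    exact ⟨e ▸ okC_lt (gA_ok (by omega)) _, by rw [U.cons_wA k w, h2, U.rep_gen hk _ h1, e]⟩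

theorem comW_spec {w : List ℕ} (h : comW w = true) :
    (∀ k ∈ w, k < 9) ∧ ∀ m, U.wA [9] (U.wA w m) = U.wA w (U.wA [9] m) := by
  rw [comW, Bool.and_eq_true, List.all_eq_true] at h
  exact ⟨fun k hk => Eq.mp Nat.blt_eq (h.1 k hk), fun m => U.wA_apply_rel h.2 m⟩

/-- The code of the image of a vector under the transvection. -/
noncomputable def zz (j : ℕ) : ℕ := (U.ψ_surj (U.wA [9] (U.ψ (1 <<< j)))).choose

theorem zz_spec (j : ℕ) : U.zz j < 2 ^ 20 ∧ U.ψ (U.zz j) = U.wA [9] (U.ψ (1 <<< j)) :=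
  (U.ψ_surj (U.wA [9] (U.ψ (1 <<< j)))).choose_spec

theorem zz_fix {w : List ℕ} (h : comW w = true) {j : ℕ} (hj : j < 20) (hf : appM w (1 <<< j) = 1 <<< j) :
    appM w (U.zz j) = U.zz j := by
  obtain ⟨hlt, hc⟩ := U.comW_spec h
  obtain ⟨hz, hez⟩ := U.zz_spec j
  obtain ⟨h1, h2⟩ := U.appM_rep hlt hz
  refine U.ψ_inj h1 hz ?_
  rw [← h2, hez, ← hc, (U.appM_rep hlt (bit_lt hj)).2, hf]

theorem yW_lt : ∀ k ∈ yW, k < 9 := by decide

theorem proj_spec {v : ℕ} (hv : v < 2 ^ 20) :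
    projY v = app dZ (app eZ v) ∧ v ^^^ projY v = app dM (app eM v) := by
  have h := fix_ok
  simp only [Bool.and_eq_true] at h
  have hb : ∀ j < 20, app dZ (app eZ (1 <<< j)) = projY (1 <<< j) ∧
      app dM (app eM (1 <<< j)) = (1 <<< j) ^^^ projY (1 <<< j) := fun j hj => by
    have := List.all_eq_true.1 h.1.1.2 j (List.mem_range.2 hj)
    simpa only [Bool.and_eq_true, Nat.beq_eq] using this
  have hy : ∀ a b, projY (a ^^^ b) = projY a ^^^ projY b := fun a b => by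
    simp only [projY, appM, appW_add]; ac_rfl
  have hy0 : projY 0 = 0 := by simp [projY, appM, appW_zero]
  constructor
  · refine ext_bits (· ^^^ ·) projY (fun v => app dZ (app eZ v)) 20 (fun a _ b _ => hy a b) (fun a _ b _ => by simp only [app_add]) ?_ (fun j hj => (hb j hj).1.symm) v hv
    simp only [hy0, app_zero]
  · refine ext_bits (· ^^^ ·) (fun v => v ^^^ projY v) (fun v => app dM (app eM v)) 20 (fun a _ b _ => by simp only [hy]; ac_rfl)
      (fun a _ b _ => by simp only [app_add]) ?_ (fun j hj => (hb j hj).2.symm) v hv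
    simp only [hy0, app_zero, Nat.xor_self]

theorem projY_rep {v : ℕ} (hv : v < 2 ^ 20) :
    U.ψ (projY v) = U.ψ v + U.wA yW (U.ψ v) + U.wA yW (U.wA yW (U.ψ v)) := by
  obtain ⟨h1, h2⟩ := U.appM_rep yW_lt hv
  obtain ⟨-, h4⟩ := U.appM_rep yW_lt h1
  rw [projY, U.ψ_xor, U.ψ_xor, h2, h4]

theorem rel_parts : (∀ w ∈ fixA ++ fixB ++ fixW ++ (colW.map fun e => e.1) ++ [yW], comW w = true) ∧
    relOK [9, 9] [] = true ∧ (∀ t ∈ braidW, relOK ([9] ++ t ++ [9] ++ t ++ [9] ++ t) [] = true) ∧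
    relOK ([9] ++ conjR) (conjR ++ [9]) = true := by
  have h := rel_ok
  simp only [Bool.and_eq_true, List.all_eq_true] at h
  exact ⟨h.1.1.1, h.1.1.2, h.1.2, h.2⟩

theorem zz_mem : U.zz 18 ∈ cands dZ (2 ^ 8) fixA ∧ U.zz 19 ∈ cands dZ (2 ^ 8) fixB ∧
    U.zz 4 ∈ cands dM (2 ^ 12) fixW := by
  have h := fix_ok
  simp only [Bool.and_eq_true, List.all_eq_true, Nat.beq_eq] at h
  obtain ⟨⟨⟨⟨⟨⟨⟨⟨hA, hB⟩, hW⟩, hy18⟩, hy19⟩, hy4⟩, -⟩, hZ⟩, hM⟩ := h
  obtain ⟨hcom, -⟩ := rel_parts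
  have hy : comW yW = true := hcom yW (by simp)
  have hzY : ∀ j < 20, appM yW (1 <<< j) = 1 <<< j → projY (U.zz j) = U.zz j := fun j hj e => by
    rw [projY, U.zz_fix hy hj e, U.zz_fix hy hj e, Nat.xor_self, Nat.zero_xor]
  have h4 : projY (U.zz 4) = 0 := by
    obtain ⟨hz, hez⟩ := U.zz_spec 4
    obtain ⟨-, hc⟩ := U.comW_spec hy
    refine U.ψ_inj ?_ (by norm_num) ?_
    · obtain ⟨h1, -⟩ := U.appM_rep yW_lt hz
      exact Nat.xor_lt_two_pow (Nat.xor_lt_two_pow hz h1) (U.appM_rep yW_lt h1).1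
    · rw [U.projY_rep hz, hez, U.ψ_zero, ← hc, ← hc, ← map_add, ← map_add, ← U.projY_rep (bit_lt (by norm_num)), hy4,
        U.ψ_zero, map_zero]
  have mem : ∀ (D E : List ℕ) (N : ℕ) (F : List (List ℕ)) (j : ℕ), j < 20 → (∀ c ∈ E, c < 2 ^ N) →
      app D (app E (U.zz j)) = U.zz j → (∀ w ∈ F, comW w = true ∧ appM w (1 <<< j) = 1 <<< j) →
      U.zz j ∈ cands D (2 ^ N) F := fun D E N F j hj hE hD hF => by
    rw [cands, List.mem_filter, List.mem_map, List.all_eq_true]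
    exact ⟨⟨_, List.mem_range.2 (app_lt E N hE _), hD⟩, fun w hw => Nat.beq_eq.mpr (U.zz_fix (hF w hw).1 hj (hF w hw).2)⟩
  refine ⟨mem dZ eZ 8 fixA 18 (by norm_num) (fun c hc => Eq.mp Nat.blt_eq (hZ c hc)) ?_ fun w hw => ⟨hcom w (by simp [hw]), hA w hw⟩,
    mem dZ eZ 8 fixB 19 (by norm_num) (fun c hc => Eq.mp Nat.blt_eq (hZ c hc)) ?_ fun w hw => ⟨hcom w (by simp [hw]), hB w hw⟩,
    mem dM eM 12 fixW 4 (by norm_num) (fun c hc => Eq.mp Nat.blt_eq (hM c hc)) ?_ fun w hw => ⟨hcom w (by simp [hw]), hW w hw⟩⟩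
  · rw [← (proj_spec (U.zz_spec 18).1).1, hzY 18 (by norm_num) hy18]
  · rw [← (proj_spec (U.zz_spec 19).1).1, hzY 19 (by norm_num) hy19]
  · rw [← (proj_spec (U.zz_spec 4).1).2, h4, Nat.xor_zero]

/-- The code of the transvection before it is identified. -/
noncomputable def rC : List ℕ := mkR (U.zz 18) (U.zz 19) (U.zz 4)

theorem src_rep (a b c : ℕ) (ha : a < 2 ^ 20) (hb : b < 2 ^ 20) (hc : c < 2 ^ 20) (e : List ℕ × ℕ × ℕ) :
    src a b c e < 2 ^ 20 ∧ U.ψ (src a b c e) =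
      bif Nat.beq e.2.2 0 then (bif Nat.beq (e.2.1 &&& 1) 1 then U.ψ a else 0) +
        (bif Nat.beq (e.2.1 &&& 2) 2 then U.ψ b else 0) else U.ψ c := by
  unfold src
  cases Nat.beq e.2.2 0
  · exact ⟨hc, rfl⟩
  · cases Nat.beq (e.2.1 &&& 1) 1 <;> cases Nat.beq (e.2.1 &&& 2) 2 <;>
      simp only [cond_true, cond_false, Nat.xor_zero, Nat.zero_xor, add_zero, zero_add, U.ψ_zero, U.ψ_xor, and_self,
        and_true] <;> first | exact Nat.xor_lt_two_pow ha hb | exact hb | exact ha | exact Nat.two_pow_pos _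

theorem getD_map_range {f : ℕ → ℕ} {i n : ℕ} (hi : i < n) : ((List.range n).map f).getD i 0 = f i := by
  rw [List.getD_eq_getElem _ _ (by simpa using hi), List.getElem_map, List.getElem_range]

theorem rC_col {j : ℕ} (hj : j < 20) : U.rC.getD j 0 < 2 ^ 20 ∧ U.wA [9] (U.bas j) = U.ψ (U.rC.getD j 0) := by
  obtain ⟨hcom, -⟩ := rel_parts
  have h := List.all_eq_true.1 col_ok j (List.mem_range.2 hj)
  simp only [Bool.and_eq_true, Nat.beq_eq] at h
  obtain ⟨hbit, hbeq⟩ := h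
  have hmem : colW.getD j ([], 0, 0) ∈ colW := by
    have hlen : j < colW.length := by rw [show colW.length = 20 from rfl]; exact hj
    rw [List.getD_eq_getElem _ _ hlen]
    exact List.getElem_mem _
  obtain ⟨hlt, hc⟩ := U.comW_spec (hcom (colW.getD j ([], 0, 0)).1 (by
    simp only [List.mem_append, List.mem_map]
    exact Or.inl (Or.inr ⟨_, hmem, rfl⟩)))
  rw [rC, mkR, getD_map_range hj]
  generalize colW.getD j ([], 0, 0) = e at *
  have hcode : ∀ v < 2 ^ 20, app (colC.getD j []) v = appM e.1 v :=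
    ext_bits (· ^^^ ·) _ _ 20 (fun _ _ _ _ => app_add _ _ _) (fun _ _ _ _ => appW_add _ _ _ _)
      (by rw [app_zero, appM, appW_zero]) fun i hi => by rw [app_bit, beqC_eq hbeq, getD_map_range hi]
  obtain ⟨hz, hez⟩ := U.src_rep _ _ _ (U.zz_spec 18).1 (U.zz_spec 19).1 (U.zz_spec 4).1 e
  obtain ⟨hs, hes⟩ := U.src_rep (1 <<< 18) (1 <<< 19) (1 <<< 4) (bit_lt (by norm_num)) (bit_lt (by norm_num))
    (bit_lt (by norm_num)) e
  rw [hcode _ hz]
  obtain ⟨h1, h2⟩ := U.appM_rep hlt hz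
  refine ⟨h1, ?_⟩
  rw [← h2, ← U.ψ_bit hj, ← hbit, ← (U.appM_rep hlt hs).2, hc, hez, hes]
  cases Nat.beq e.2.2 0
  · simp only [cond_false, (U.zz_spec 4).2]
  · cases Nat.beq (e.2.1 &&& 1) 1 <;> cases Nat.beq (e.2.1 &&& 2) 2 <;>
      simp only [cond_true, cond_false, add_zero, zero_add, map_zero, map_add, (U.zz_spec 18).2, (U.zz_spec 19).2]

theorem rC_ok : okC U.rC = true := by
  have hl : U.rC.length = 20 := by simp [rC, mkR]
  simp only [okC, Bool.and_eq_true, List.all_eq_true, Nat.blt_eq, Nat.beq_eq]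
  refine ⟨hl, fun c hc => ?_⟩
  obtain ⟨i, hi, rfl⟩ := List.getElem_of_mem hc
  have := (U.rC_col (j := i) (by omega)).1
  rwa [List.getD_eq_getElem _ _ hi] at this

theorem rC_rep : U.Rep [9] U.rC := U.rep_of_bits fun _ hj => (U.rC_col hj).2

theorem appW_rep : ∀ {w : List ℕ}, (∀ k ∈ w, k < 10) → ∀ {v : ℕ}, v < 2 ^ 20 →
    appW U.rC w v < 2 ^ 20 ∧ U.wA w (U.ψ v) = U.ψ (appW U.rC w v)
  | [], _, v, hv => ⟨hv, U.wA_nil _⟩
  | k :: w, h, v, hv => by
    obtain ⟨h1, h2⟩ := appW_rep (w := w) (fun i hi => h i (List.mem_cons_of_mem _ hi)) hv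
    refine ⟨appW_lt U.rC_ok h hv, ?_⟩
    rw [U.cons_wA k w, h2]
    show U.wA [k] _ = U.ψ (app (gR U.rC k) (appW U.rC w v))
    rcases eq_or_ne k 9 with rfl | hk
    · exact U.rC_rep _ h1
    · have hk' : k < 9 := by have := h k List.mem_cons_self; omega
      rw [gR, show Nat.beq k 9 = false from Bool.eq_false_iff.2 fun e => hk (Nat.eq_of_beq_eq_true e), cond_false]
      exact U.rep_gen hk' _ h1

theorem sameW_of {u v : List ℕ} (h : relOK u v = true) : sameW U.rC u v = true := by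
  have hl : ∀ {w : List ℕ}, okW w = true → ∀ k ∈ w, k < 10 := fun hw k hk =>
    Eq.mp Nat.blt_eq (List.all_eq_true.1 hw k hk)
  have h' := h
  simp only [relOK, Bool.and_eq_true] at h'
  rw [sameW, List.all_eq_true]
  intro j hj
  have hb := bit_lt (List.mem_range.1 hj)
  obtain ⟨a1, a2⟩ := U.appW_rep (hl h'.1.1) hb
  obtain ⟨b1, b2⟩ := U.appW_rep (hl h'.1.2) hb
  exact Nat.beq_eq.mpr (U.ψ_inj a1 b1 (by rw [← a2, ← b2, U.wA_rel h]))

theorem rC_eq : U.rC = gA 9 := by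
  obtain ⟨-, hrr, hbr, hconj⟩ := rel_parts
  have inv2 : ∀ v < 2 ^ 20, app U.rC (app U.rC v) = v := fun v hv => by
    have h1 := okC_lt U.rC_ok v
    refine U.ψ_inj (okC_lt U.rC_ok _) hv ?_
    rw [← U.rC_rep _ h1, ← U.rC_rep v hv, ← U.wA_append, U.wA_rel (u := [9] ++ [9]) hrr, U.wA_nil]
  have back : ∀ j < 20, app U.rC (U.zz j) = 1 <<< j := fun j hj => by
    obtain ⟨hz, hez⟩ := U.zz_spec j
    refine U.ψ_inj (okC_lt U.rC_ok _) (bit_lt hj) ?_
    rw [← U.rC_rep _ hz, hez, ← U.wA_append, U.wA_rel (u := [9] ++ [9]) hrr, U.wA_nil]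
  obtain ⟨hA, hB, hC⟩ := U.zz_mem
  have h := List.all_eq_true.1 (List.all_eq_true.1 (List.all_eq_true.1 search_ok _ hA) _ hB) _ hC
  simp only [Bool.or_eq_true, Bool.not_eq_true'] at h
  refine beqC_eq (h.resolve_left fun e => ?_)
  have hg : (Nat.beq (app U.rC (U.zz 18)) (1 <<< 18) && Nat.beq (app U.rC (U.zz 19)) (1 <<< 19) &&
      Nat.beq (app U.rC (U.zz 4)) (1 <<< 4) && relsR U.rC) = true := by
    simp only [relsR, Bool.and_eq_true, Nat.beq_eq, List.all_eq_true]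
    exact ⟨⟨⟨back 18 (by norm_num), back 19 (by norm_num)⟩, back 4 (by norm_num)⟩,
      ⟨inv2 _ (bit_lt (by norm_num)), fun t ht => U.sameW_of (hbr t ht)⟩, U.sameW_of hconj⟩
  rw [rC] at hg
  rw [e] at hg
  exact Bool.noConfusion hg

/-- Every generator acts by its code. -/
theorem rep_all {k : ℕ} (hk : k < 10) : U.Rep [k] (gA k) := by
  rcases Nat.lt_or_ge k 9 with h | h
  · exact U.rep_gen h
  · obtain rfl : k = 9 := by omega
    exact U.rC_eq ▸ U.rC_rep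

/-- A word acts by its codes. -/
theorem word_rep {w : List ℕ} (hw : ∀ k ∈ w, k < 10) {v : ℕ} (hv : v < 2 ^ 20) :
    appW (gA 9) w v < 2 ^ 20 ∧ U.wA w (U.ψ v) = U.ψ (appW (gA 9) w v) :=
  U.rC_eq ▸ U.appW_rep hw hv

end UAct

end CfsgU6Mod
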