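/-
The action of U6(2) on the module in layered coordinates.
-/
import Cfsg.Agent.Lib.U6Mod.RForce
import Cfsg.Agent.Lib.U6Mod.SylData
import Cfsg.Agent.Lib.U6Mod.SylChecks

set_option autoImplicit false
set_option maxRecDepth 100000

namespace CfsgU6Mod

open CfsgLib.G24 CfsgLib.SUSixSub Subgroup

/-- The projective group. -/
abbrev PG : Type := Γ ⧸ center Γ

/-- A layered vector under a word. -/
abbrev layW : List ℕ → ℕ → ℕ := layW'

theorem lay_ok : (okC layT && okC layI && ((List.range 20).all fun j =>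
    Nat.beq (app layI (app layT (1 <<< j))) (1 <<< j) && Nat.beq (app layT (app layI (1 <<< j))) (1 <<< j))) = true := by
  decide +kernel

theorem lay_inv {v : ℕ} (hv : v < 2 ^ 20) : app layI (app layT v) = v ∧ app layT (app layI v) = v := by
  have h := lay_ok
  simp only [Bool.and_eq_true, List.all_eq_true, Nat.beq_eq] at h
  constructor
  · exact ext_bits (· ^^^ ·) (fun v => app layI (app layT v)) id 20 (fun _ _ _ _ => by simp only [app_add])
      (fun _ _ _ _ => rfl) (by simp [app_zero]) (fun i hi => (h.2 i (List.mem_range.2 hi)).1) v hv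
  · exact ext_bits (· ^^^ ·) (fun v => app layT (app layI v)) id 20 (fun _ _ _ _ => by simp only [app_add])
      (fun _ _ _ _ => rfl) (by simp [app_zero]) (fun i hi => (h.2 i (List.mem_range.2 hi)).2) v hv

theorem layT_lt (v : ℕ) : app layT v < 2 ^ 20 :=
  okC_lt (by have h := lay_ok; simp only [Bool.and_eq_true] at h; exact h.1.1) v

theorem layI_lt (v : ℕ) : app layI v < 2 ^ 20 :=
  okC_lt (by have h := lay_ok; simp only [Bool.and_eq_true] at h; exact h.1.2) v

namespace UAct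

variable {M : Type*} [AddCommGroup M] (U : UAct M)

/-- The action of the projective group. -/
noncomputable def actQ (g : PG) : M ≃+ M := U.act (Quotient.out g)

theorem actQ_mk (x : Γ) (m : M) : U.actQ (QuotientGroup.mk x) m = U.act x m := by
  obtain ⟨z, hz⟩ := QuotientGroup.mk_out_eq_mul (center Γ) x
  rw [actQ, hz, U.act_mul, (U.ker z).2 z.2 m]

theorem actQ_mul (g h : PG) (m : M) : U.actQ (g * h) m = U.actQ g (U.actQ h m) := by
  induction g using QuotientGroup.induction_on with | _ x =>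
  induction h using QuotientGroup.induction_on with | _ y =>
  rw [← QuotientGroup.mk_mul, actQ_mk, actQ_mk, actQ_mk, U.act_mul]

theorem actQ_one (m : M) : U.actQ 1 m = m := by rw [← QuotientGroup.mk_one, actQ_mk, U.act_one]

theorem actQ_faith {g : PG} (h : ∀ m, U.actQ g m = m) : g = 1 := by
  induction g using QuotientGroup.induction_on with | _ x =>
  exact (QuotientGroup.eq_one_iff x).2 ((U.ker x).1 fun m => by rw [← U.actQ_mk, h])

/-- The vector with given layered coordinates. -/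
noncomputable def ψL (z : ℕ) : M := U.ψ (app layT z)

theorem ψL_xor (u v : ℕ) : U.ψL (u ^^^ v) = U.ψL u + U.ψL v := by rw [ψL, app_add, U.ψ_xor]; rfl

theorem ψL_zero : U.ψL 0 = 0 := by rw [ψL, app_zero, U.ψ_zero]

theorem ψL_inj {u v : ℕ} (hu : u < 2 ^ 20) (hv : v < 2 ^ 20) (h : U.ψL u = U.ψL v) : u = v := by
  rw [← (lay_inv hu).1, ← (lay_inv hv).1, U.ψ_inj (layT_lt u) (layT_lt v) h]

theorem ψL_surj (m : M) : ∃ z < 2 ^ 20, U.ψL z = m := by
  obtain ⟨v, hv, rfl⟩ := U.ψ_surj m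
  exact ⟨app layI v, layI_lt v, by rw [ψL, (lay_inv hv).2]⟩

/-- The element acts by the function in layered coordinates. -/
def Fn (g : PG) (f : ℕ → ℕ) : Prop := ∀ z < 2 ^ 20, f z < 2 ^ 20 ∧ U.actQ g (U.ψL z) = U.ψL (f z)

theorem Fn.one : U.Fn 1 id := fun z hz => ⟨hz, U.actQ_one _⟩

variable {U}

theorem Fn.mul {g h : PG} {f k : ℕ → ℕ} (hg : U.Fn g f) (hh : U.Fn h k) : U.Fn (g * h) (fun z => f (k z)) :=
  fun z hz => ⟨(hg _ (hh z hz).1).1, by rw [U.actQ_mul, (hh z hz).2, (hg _ (hh z hz).1).2]⟩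

theorem Fn.add {g : PG} {f : ℕ → ℕ} (hg : U.Fn g f) {u v : ℕ} (hu : u < 2 ^ 20) (hv : v < 2 ^ 20) :
    f (u ^^^ v) = f u ^^^ f v := by
  have h := hg _ (Nat.xor_lt_two_pow hu hv)
  refine U.ψL_inj h.1 (Nat.xor_lt_two_pow (hg u hu).1 (hg v hv).1) ?_
  rw [← h.2, U.ψL_xor, U.ψL_xor, map_add, (hg u hu).2, (hg v hv).2]

theorem Fn.map_zero' {g : PG} {f : ℕ → ℕ} (hg : U.Fn g f) : f 0 = 0 :=
  U.ψL_inj (hg 0 (by norm_num)).1 (by norm_num) (by rw [← (hg 0 (by norm_num)).2, U.ψL_zero, map_zero])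

theorem Fn.ext {g h : PG} {f k : ℕ → ℕ} (hg : U.Fn g f) (hh : U.Fn h k)
    (hb : ∀ j < 20, f (1 <<< j) = k (1 <<< j)) : g = h := by
  have he : ∀ v < 2 ^ 20, f v = k v := ext_bits (· ^^^ ·) f k 20 (fun u hu v hv => hg.add hu hv)
    (fun u hu v hv => hh.add hu hv) (by rw [hg.map_zero', hh.map_zero']) hb
  refine (inv_mul_eq_one.1 (U.actQ_faith (g := h⁻¹ * g) fun m => ?_)).symm
  obtain ⟨z, hz, rfl⟩ := U.ψL_surj m
  rw [U.actQ_mul, (hg z hz).2, he z hz, ← (hh z hz).2, ← U.actQ_mul, inv_mul_cancel, U.actQ_one]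

theorem Fn.congr {g : PG} {f k : ℕ → ℕ} (hg : U.Fn g f) (hadd : ∀ u v, k (u ^^^ v) = k u ^^^ k v)
    (hb : ∀ j < 20, f (1 <<< j) = k (1 <<< j)) : U.Fn g k := fun z hz => by
  have h0 : k 0 = 0 := by have := hadd 0 0; rwa [Nat.xor_self, Nat.xor_self] at this
  have he : ∀ v < 2 ^ 20, f v = k v := ext_bits (· ^^^ ·) f k 20 (fun u hu v hv => hg.add hu hv)
    (fun u _ v _ => hadd u v) (by rw [hg.map_zero', h0]) hb
  rw [← he z hz]; exact hg z hz

variable (U)

/-- The element of a word. -/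
noncomputable def wP (w : List ℕ) : PG := QuotientGroup.mk (wG w)

theorem Fn_word {w : List ℕ} (hw : ∀ k ∈ w, k < 10) : U.Fn (wP w) (layW w) := fun z hz => by
  obtain ⟨h1, h2⟩ := U.word_rep hw (layT_lt z)
  refine ⟨layI_lt _, ?_⟩
  show U.actQ (QuotientGroup.mk (wG w)) _ = _
  rw [U.actQ_mk, show U.act (wG w) (U.ψL z) = U.wA w (U.ψ (app layT z)) from rfl, h2, ψL, layW, layW', (lay_inv h1).2]

end UAct

end CfsgU6Mod
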