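/-
A Sylow two-subgroup of U6(2) and its action on the layers.
-/
import Cfsg.Agent.Lib.U6Mod.Lay

set_option autoImplicit false
set_option maxRecDepth 100000

namespace CfsgU6Mod

open CfsgLib.G24 CfsgLib.SUSixSub Subgroup

theorem low_eq : ∀ (v : ℕ), v = (v >>> 1) <<< 1 ^^^ (v &&& 1) := fun v => by
  refine Nat.eq_of_testBit_eq fun i => ?_
  rw [Nat.testBit_xor, Nat.testBit_shiftLeft, Nat.testBit_and]
  rcases i with _ | i
  · simp
  · simp [Nat.testBit_succ, Nat.add_comm 1]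

/-- A product of elements selected by the bits. -/
def qprod {G : Type*} [Monoid G] : List G → ℕ → G
  | [], _ => 1
  | g :: gs, s => (bif Nat.beq (s &&& 1) 1 then g else 1) * qprod gs (s >>> 1)

theorem qprod_zero {G : Type*} [Monoid G] : ∀ gs : List G, qprod gs 0 = 1
  | [] => rfl
  | g :: gs => by simp [qprod, qprod_zero gs, show Nat.beq 0 1 = false from rfl]

theorem commute_qprod {G : Type*} [Monoid G] {g : G} : ∀ {gs : List G}, (∀ h ∈ gs, Commute g h) → ∀ s,
    Commute g (qprod gs s)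
  | [], _, _ => Commute.one_right g
  | h :: gs, hg, s => by
    rw [qprod]
    refine Commute.mul_right ?_ (commute_qprod (fun k hk => hg k (List.mem_cons_of_mem _ hk)) _)
    cases Nat.beq (s &&& 1) 1
    · exact Commute.one_right g
    · exact hg h List.mem_cons_self

theorem qprod_xor {G : Type*} [Group G] : ∀ {gs : List G}, (∀ a ∈ gs, ∀ b ∈ gs, Commute a b) → (∀ a ∈ gs, a * a = 1) →
    ∀ s t, qprod gs (s ^^^ t) = qprod gs s * qprod gs t
  | [], _, _, _, _ => (one_mul _).symm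
  | g :: gs, hc, hs, s, t => by
    have ih := qprod_xor (gs := gs) (fun a ha b hb => hc a (List.mem_cons_of_mem _ ha) b (List.mem_cons_of_mem _ hb))
      (fun a ha => hs a (List.mem_cons_of_mem _ ha)) (s >>> 1) (t >>> 1)
    have hcm : Commute g (qprod gs (s >>> 1)) :=
      commute_qprod (fun h hh => hc g List.mem_cons_self h (List.mem_cons_of_mem _ hh)) _
    simp only [qprod, Nat.shiftRight_xor_distrib, ih, Nat.and_xor_distrib_right]
    rcases bit01 s with e | e <;> rcases bit01 t with f | f <;> rw [e, f] <;>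
      simp only [Nat.xor_self, Nat.xor_zero, Nat.zero_xor, show Nat.beq 0 1 = false from rfl,
        show Nat.beq 1 1 = true from rfl, cond_true, cond_false, one_mul]
    · rw [← mul_assoc (qprod gs (s >>> 1)), ← hcm.eq, mul_assoc]
    · rw [mul_assoc]
    · rw [show g * qprod gs (s >>> 1) * (g * qprod gs (t >>> 1)) = g * (qprod gs (s >>> 1) * g) * qprod gs (t >>> 1) by
        group, ← hcm.eq, ← mul_assoc g g, hs g List.mem_cons_self, one_mul]

theorem appSel_add : ∀ (cs : List (List ℕ)) (s u v : ℕ), appSel cs s (u ^^^ v) = appSel cs s u ^^^ appSel cs s v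
  | [], _, _, _ => rfl
  | c :: cs, s, u, v => by
    simp only [appSel, appSel_add cs]
    cases Nat.beq (s &&& 1) 1 <;> simp [app_add]

theorem qe_lt9 {s : ℕ} (h : s < 512) : s >>> 9 = 0 := by
  rw [Nat.shiftRight_eq_div_pow]; omega

/-- The parity of nine bits. -/
def par9 (v : ℕ) : ℕ := app [1, 1, 1, 1, 1, 1, 1, 1, 1] v

theorem xor_closed_bits (P : ℕ → Prop) (h0 : P 0) : ∀ n, (∀ s < 2 ^ n, ∀ t < 2 ^ n, P s → P t → P (s ^^^ t)) →
    (∀ j < n, P (1 <<< j)) → ∀ s < 2 ^ n, P s := by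
  intro n
  induction n with
  | zero => intro _ _ s hs; rw [show s = 0 by simpa using hs]; exact h0
  | succ n ih =>
    intro hx hb s hs
    have hn : 2 ^ n < 2 ^ (n + 1) := Nat.pow_lt_pow_right (by norm_num) (by omega)
    have ih' := ih (fun a ha b hb' => hx a (ha.trans hn) b (hb'.trans hn)) (fun j hj => hb j (by omega))
    rcases Nat.lt_or_ge s (2 ^ n) with h | h
    · exact ih' s h
    · have hlow : s % 2 ^ n < 2 ^ n := Nat.mod_lt _ (Nat.two_pow_pos n)
      have e : s = (1 <<< n) ^^^ (s % 2 ^ n) := by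
        refine Nat.eq_of_testBit_eq fun i => ?_
        rw [Nat.testBit_xor, Nat.one_shiftLeft, Nat.testBit_two_pow, Nat.testBit_mod_two_pow]
        rcases lt_trichotomy i n with hi | rfl | hi
        · simp [hi, show ¬ n = i by omega]
        · have : s.testBit i = true := by
            rw [Nat.testBit_eq_decide_div_mod_eq]
            have h1 : s / 2 ^ i = 1 := Nat.div_eq_of_lt_le (by omega) (by rw [pow_succ] at hs; omega)
            simp [h1]
          simp [this]
        · have : s.testBit i = false := Nat.testBit_lt_two_pow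
            (hs.trans_le (Nat.pow_le_pow_right (by norm_num) hi))
          simp [this, show ¬ i < n by omega, show ¬ n = i by omega]
      rw [e]
      exact hx _ (by rw [Nat.one_shiftLeft]; exact hn) _ (hlow.trans hn) (hb n (by omega)) (ih' _ hlow)

theorem xL_add (a b : ℕ) : xL (a ^^^ b) = xL a ^^^ xL b := by
  simp only [xL, Nat.shiftRight_xor_distrib, Nat.and_xor_distrib_right]

theorem yL_add (a b : ℕ) : yL (a ^^^ b) = yL a ^^^ yL b := by
  simp only [yL, Nat.shiftRight_xor_distrib, Nat.and_xor_distrib_right]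

theorem xL_lt (z : ℕ) : xL z < 512 := Nat.lt_succ_of_le Nat.and_le_right

theorem yL_lt (z : ℕ) : yL z < 512 := Nat.lt_succ_of_le Nat.and_le_right

theorem mulS_add (s t x : ℕ) : mulS (s ^^^ t) x = mulS s x ^^^ mulS t x := app_add _ _ _

theorem mulS_bit (j x : ℕ) : mulS (1 <<< j) x = app (mulX.getD j []) x := by
  rw [mulS, app_bit]
  rcases Nat.lt_or_ge j mulX.length with h | h
  · rw [List.getD_eq_getElem _ _ (by simpa using h), List.getElem_map, List.getD_eq_getElem _ _ h]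
  · rw [List.getD_eq_default _ _ (by simpa using h), List.getD_eq_default _ _ h]; rfl

theorem par9_add (u v : ℕ) : par9 (u ^^^ v) = par9 u ^^^ par9 v := app_add _ _ _

theorem par9_bit : ∀ i < 9, ∀ j < 9, par9 ((1 <<< i) &&& (1 <<< j)) = bif Nat.beq i j then 1 else 0 := by decide

theorem layer_bits : (∀ i < 10, xL (1 <<< i) = 0) ∧ yL 1 = 0 ∧ (∀ i < 9, xL (1 <<< (10 + i)) = 1 <<< i ∧
    yL (1 <<< (10 + i)) = 0 ∧ yL (1 <<< (1 + i)) = 1 <<< i) ∧ ∀ i < 10, i = 0 ∨ ∃ k < 9, i = 1 + k := by decide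

theorem split19 : ∀ i < 19, i < 10 ∨ ∃ k < 9, i = 10 + k := by decide

namespace UAct

variable {M : Type*} [AddCommGroup M] (U : UAct M)

theorem Fn_sel : ∀ (gs : List PG) (cs : List (List ℕ)), gs.length = cs.length →
    (∀ i < gs.length, U.Fn (gs.getD i 1) (app (cs.getD i []))) → ∀ s, U.Fn (qprod gs s) (appSel cs s)
  | [], [], _, _, _ => Fn.one U
  | [], _ :: _, h, _, _ => by simp at h
  | _ :: _, [], h, _, _ => by simp at h
  | g :: gs, c :: cs, hl, h, s => by
    have ih := Fn_sel gs cs (by simpa using hl) (fun i hi => by simpa using h (i + 1) (by simpa using hi)) (s >>> 1)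
    have h0 : U.Fn g (app c) := h 0 (by simp)
    show U.Fn ((bif Nat.beq (s &&& 1) 1 then g else 1) * qprod gs (s >>> 1))
      (fun z => bif Nat.beq (s &&& 1) 1 then app c (appSel cs (s >>> 1) z) else appSel cs (s >>> 1) z)
    cases Nat.beq (s &&& 1) 1
    · simp only [cond_false, one_mul]; exact ih
    · exact h0.mul ih

/-- The generators of the radical. -/
noncomputable def qg : List PG := (List.range 9).map fun j => wP (wQ.getD j [])

/-- The generators of the Levi part. -/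
noncomputable def ug : List PG := (List.range 6).map fun j => wP (wU.getD j [])

/-- An element of the radical. -/
noncomputable def qe (s : ℕ) : PG := qprod qg s

/-- An element of the Levi part. -/
noncomputable def ue (u : ℕ) : PG := qprod ug u

theorem lens : qC.length = 9 ∧ gC.length = 6 ∧ uC.length = 64 ∧ mulX.length = 9 := by
  have h := word_codes
  simp only [Bool.and_eq_true, Nat.beq_eq] at h
  exact ⟨h.1.1.1.2, h.1.1.2, h.1.2, h.2⟩

theorem gen_code : (∀ j < 9, okC (qc j) = true ∧ U.Fn (qg.getD j 1) (app (qc j))) ∧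
    ∀ j < 6, okC (gc j) = true ∧ U.Fn (ug.getD j 1) (app (gc j)) := by
  have h := word_codes
  simp only [Bool.and_eq_true, List.all_eq_true, Nat.blt_eq, Nat.beq_eq] at h
  constructor
  · intro j hj
    obtain ⟨⟨hw, hok⟩, hb⟩ := h.1.1.1.1.1 j (List.mem_range.2 hj)
    rw [qg, List.getD_eq_getElem _ _ (by simpa using hj), List.getElem_map, List.getElem_range]
    exact ⟨hok, (U.Fn_word hw).congr (app_add _) fun i hi => hb i (List.mem_range.2 hi)⟩
  · intro j hj
    obtain ⟨⟨hw, hok⟩, hb⟩ := h.1.1.1.1.2 j (List.mem_range.2 hj)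
    rw [ug, List.getD_eq_getElem _ _ (by simpa using hj), List.getElem_map, List.getElem_range]
    exact ⟨hok, (U.Fn_word hw).congr (app_add _) fun i hi => hb i (List.mem_range.2 hi)⟩

theorem qe_Fn (s : ℕ) : U.Fn (qe s) (appSel qC s) :=
  U.Fn_sel qg qC (by simp [qg, lens.1]) (fun i hi => (U.gen_code.1 i (by simpa [qg] using hi)).2) s

theorem ue_Fn {u : ℕ} (hu : u < 64) : U.Fn (ue u) (app (uc u)) := by
  have h := List.all_eq_true.1 u_code u (List.mem_range.2 hu)
  simp only [Bool.and_eq_true, List.all_eq_true, Nat.beq_eq] at h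
  exact (U.Fn_sel ug gC (by simp [ug, lens.2.1]) (fun i hi => (U.gen_code.2 i (by simpa [ug] using hi)).2) u).congr
    (app_add _) fun j hj => h.2 j (List.mem_range.2 hj)

include U in
theorem qg_rel : (∀ a ∈ qg, ∀ b ∈ qg, Commute a b) ∧ ∀ a ∈ qg, a * a = 1 := by
  have key : ∀ a < 9, ∀ b < 9, Commute (qg.getD a 1) (qg.getD b 1) ∧
      (a = b → qg.getD a 1 * qg.getD b 1 = 1) := by
    intro a ha b hb
    obtain ⟨-, fa⟩ := U.gen_code.1 a ha
    obtain ⟨-, fb⟩ := U.gen_code.1 b hb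
    have h := fun i (hi : i < 20) => List.all_eq_true.1 (List.all_eq_true.1 (List.all_eq_true.1 q_rel a
      (List.mem_range.2 ha)) b (List.mem_range.2 hb)) i (List.mem_range.2 hi)
    simp only [Bool.and_eq_true, Bool.or_eq_true, Nat.beq_eq] at h
    refine ⟨(fa.mul fb).ext (fb.mul fa) fun i hi => (h i hi).1, fun e => (fa.mul fb).ext (Fn.one U) fun i hi => ?_⟩
    rcases (h i hi).2 with h' | h'
    · rw [Bool.not_eq_true', Bool.eq_false_iff, Ne, Nat.beq_eq] at h'; exact absurd e h'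
    · exact h'
  have get : ∀ a ∈ qg, ∃ i < 9, qg.getD i 1 = a := fun a ha => by
    obtain ⟨i, hi, rfl⟩ := List.getElem_of_mem ha
    exact ⟨i, by simpa [qg] using hi, List.getD_eq_getElem _ _ hi⟩
  refine ⟨fun a ha b hb => ?_, fun a ha => ?_⟩
  · obtain ⟨i, hi, rfl⟩ := get a ha
    obtain ⟨j, hj, rfl⟩ := get b hb
    exact (key i hi j hj).1
  · obtain ⟨i, hi, rfl⟩ := get a ha
    exact (key i hi i hi).2 rfl

include U in
theorem qe_xor (s t : ℕ) : qe (s ^^^ t) = qe s * qe t := qprod_xor U.qg_rel.1 U.qg_rel.2 s t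

theorem qe_zero : qe 0 = 1 := qprod_zero _

theorem ue_zero : ue 0 = 1 := qprod_zero _

theorem qe_bit : ∀ j < 9, qe (1 <<< j) = qg.getD j 1 := by
  intro j hj
  interval_cases j <;> simp [qe, qg, qprod, List.range_succ, show Nat.beq 0 1 = false from rfl,
    show Nat.beq 1 1 = true from rfl]

theorem ue_bit : ∀ i < 6, ue (1 <<< i) = ug.getD i 1 := by
  intro i hi
  interval_cases i <;> simp [ue, ug, qprod, List.range_succ, show Nat.beq 0 1 = false from rfl,
    show Nat.beq 1 1 = true from rfl]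

include U in
theorem gen_ue {i u : ℕ} (hi : i < 6) (hu : u < 64) : (muG.getD i []).getD u 0 < 64 ∧
    ug.getD i 1 * ue u = ue ((muG.getD i []).getD u 0) := by
  have h := List.all_eq_true.1 (List.all_eq_true.1 u_mul i (List.mem_range.2 hi)) u (List.mem_range.2 hu)
  simp only [Bool.and_eq_true, Nat.blt_eq, List.all_eq_true, Nat.beq_eq] at h
  exact ⟨h.1, (((U.gen_code.2 i hi).2).mul (U.ue_Fn hu)).ext (U.ue_Fn h.1) fun b hb => h.2 b (List.mem_range.2 hb)⟩

theorem step_facts : (∀ i < 6, ∀ u < 64, ∀ v < 512, app (ux (1 <<< i)) (app (ux u) v) =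
      app (ux ((muG.getD i []).getD u 0)) v) ∧ (∀ v < 512, app (ux 0) v = v) ∧
    ∀ u < 64, u ≠ 0 → ∃ i < 6, u ^^^ (1 <<< i) < u ∧ (muG.getD i []).getD (u ^^^ (1 <<< i)) 0 = u := by
  have h := u_step
  simp only [Bool.and_eq_true, List.all_eq_true, Bool.or_eq_true, List.any_eq_true, Nat.beq_eq, Nat.blt_eq,
    List.mem_range] at h
  refine ⟨fun i hi u hu => ?_, ?_, fun u hu h0 => ?_⟩
  · exact ext_bits (· ^^^ ·) _ _ 9 (fun _ _ _ _ => by simp only [app_add]) (fun _ _ _ _ => app_add _ _ _)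
      (by simp [app_zero]) (h.1.1 i hi u hu)
  · exact ext_bits (· ^^^ ·) _ id 9 (fun _ _ _ _ => app_add _ _ _) (fun _ _ _ _ => rfl) (app_zero _) h.1.2
  · exact (h.2 u hu).resolve_left h0

theorem ux_lt {u : ℕ} (hu : u < 64) : ∀ v < 512, app (ux u) v < 512 := by
  have h := List.all_eq_true.1 u_layers u (List.mem_range.2 hu)
  simp only [Bool.and_eq_true, List.all_eq_true, Nat.blt_eq, List.mem_range] at h
  intro v hv
  have hb : ∀ i < 9, app (ux u) (1 <<< i) < 2 ^ 9 := fun i hi => (h.1.2 i hi).2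
  suffices ∀ v < 2 ^ 9, app (ux u) v % 2 ^ 9 = app (ux u) v by
    rw [← this v hv]; exact Nat.mod_lt _ (by norm_num)
  exact ext_bits (· ^^^ ·) (fun v => app (ux u) v % 2 ^ 9) _ 9
    (fun _ _ _ _ => by simp only [app_add, Nat.xor_mod_two_pow]) (fun _ _ _ _ => app_add _ _ _)
    (by simp [app_zero]) (fun i hi => Nat.mod_eq_of_lt (hb i hi))

include U in
theorem gen_qe {i : ℕ} (hi : i < 6) : ∀ s < 512, ug.getD i 1 * qe s = qe (app (ux (1 <<< i)) s) * ug.getD i 1 := by
  have hconj : ∀ s < 512, ug.getD i 1 * qe s * (ug.getD i 1)⁻¹ = qe (app (ux (1 <<< i)) s) := by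
    refine ext_bits (· * ·) _ _ 9 (fun a _ b _ => ?_) (fun a _ b _ => ?_) ?_ (fun j hj => ?_)
    · rw [U.qe_xor]; group
    · rw [app_add, U.qe_xor]
    · rw [app_zero, qe_zero, mul_one, mul_inv_cancel]
    · rw [mul_inv_eq_iff_eq_mul, qe_bit j hj]
      refine (((U.gen_code.2 i hi).2).mul (U.gen_code.1 j hj).2).ext ((U.qe_Fn _).mul (U.gen_code.2 i hi).2) fun b hb => ?_
      have h := List.all_eq_true.1 (List.all_eq_true.1 (List.all_eq_true.1 g_conj i (List.mem_range.2 hi)) j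
        (List.mem_range.2 hj)) b (List.mem_range.2 hb)
      rwa [Nat.beq_eq] at h
  intro s hs
  rw [← hconj s hs, inv_mul_cancel_right]

include U in
theorem ue_qe : ∀ u < 64, ∀ s < 512, ue u * qe s = qe (app (ux u) s) * ue u := by
  intro u
  induction u using Nat.strong_induction_on with
  | _ u ih =>
    intro hu s hs
    obtain ⟨hcomp, hzero, hstep⟩ := step_facts
    rcases eq_or_ne u 0 with rfl | h0
    · rw [hzero s hs, ue_zero, one_mul, mul_one]
    · obtain ⟨i, hi, hlt, he⟩ := hstep u hu h0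
      obtain ⟨-, hmul⟩ := U.gen_ue hi (hlt.trans hu)
      rw [he] at hmul
      have hX := ux_lt (hlt.trans hu) s hs
      rw [← hmul, mul_assoc, ih _ hlt (hlt.trans hu) s hs, ← mul_assoc, U.gen_qe hi _ hX, mul_assoc,
        hcomp i hi _ (hlt.trans hu) s hs, he]

include U in
theorem ue_mul : ∀ u < 64, ∀ v < 64, ∃ w < 64, ue u * ue v = ue w := by
  intro u
  induction u using Nat.strong_induction_on with
  | _ u ih =>
    intro hu v hv
    rcases eq_or_ne u 0 with rfl | h0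
    · exact ⟨v, hv, by rw [ue_zero, one_mul]⟩
    · obtain ⟨i, hi, hlt, he⟩ := step_facts.2.2 u hu h0
      obtain ⟨-, hmul⟩ := U.gen_ue hi (hlt.trans hu)
      rw [he] at hmul
      obtain ⟨w, hw, e⟩ := ih _ hlt (hlt.trans hu) v hv
      obtain ⟨hw', e'⟩ := U.gen_ue hi hw
      exact ⟨_, hw', by rw [← hmul, mul_assoc, e, e']⟩

/-- The product of the radical and the Levi part. -/
def S2set : Set PG := {g | ∃ s < 512, ∃ u < 64, g = qe s * ue u}

/-- The Sylow two-subgroup. -/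
noncomputable def S2 (U : UAct M) : Subgroup PG where
  carrier := S2set
  one_mem' := ⟨0, by norm_num, 0, by norm_num, by rw [qe_zero, ue_zero, one_mul]⟩
  mul_mem' := by
    rintro _ _ ⟨s, hs, u, hu, rfl⟩ ⟨t, ht, v, hv, rfl⟩
    obtain ⟨w, hw, e⟩ := U.ue_mul u hu v hv
    refine ⟨s ^^^ app (ux u) t, Nat.xor_lt_two_pow (n := 9) hs (ux_lt hu t ht), w, hw, ?_⟩
    rw [U.qe_xor, mul_assoc, mul_assoc, ← e, ← mul_assoc (ue u), U.ue_qe u hu t ht]
    group
  inv_mem' := by
    rintro g hg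
    have hmul : ∀ a b, a ∈ S2set → b ∈ S2set → a * b ∈ S2set := by
      rintro _ _ ⟨s, hs, u, hu, rfl⟩ ⟨t, ht, v, hv, rfl⟩
      obtain ⟨w, hw, e⟩ := U.ue_mul u hu v hv
      refine ⟨s ^^^ app (ux u) t, Nat.xor_lt_two_pow (n := 9) hs (ux_lt hu t ht), w, hw, ?_⟩
      rw [U.qe_xor, mul_assoc, mul_assoc, ← e, ← mul_assoc (ue u), U.ue_qe u hu t ht]
      group
    have hpow : ∀ n : ℕ, g ^ n ∈ S2set := by
      intro n
      induction n with
      | zero => exact ⟨0, by norm_num, 0, by norm_num, by rw [pow_zero, qe_zero, ue_zero, one_mul]⟩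
      | succ n ih => rw [pow_succ]; exact hmul _ _ ih hg
    rw [← zpow_neg_one, ← zpow_mod_orderOf, ← Int.toNat_of_nonneg (Int.emod_nonneg _ (by
      exact_mod_cast (orderOf_pos g).ne')), zpow_natCast]
    exact hpow _

include U in
theorem sel_xor {s t z : ℕ} (hz : z < 2 ^ 20) :
    appSel qC (s ^^^ t) z = appSel qC s (appSel qC t z) := by
  obtain ⟨h1, e1⟩ := U.qe_Fn (s ^^^ t) z hz
  obtain ⟨h2, e2⟩ := (U.qe_Fn s).mul (U.qe_Fn t) z hz
  exact U.ψL_inj h1 h2 (by rw [← e1, U.qe_xor]; exact e2)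

include U in
theorem sel_bit {j z : ℕ} (hj : j < 9) (hz : z < 2 ^ 20) : appSel qC (1 <<< j) z = app (qc j) z := by
  obtain ⟨h1, e1⟩ := U.qe_Fn (1 <<< j) z hz
  obtain ⟨h2, e2⟩ := (U.gen_code.1 j hj).2 z hz
  exact U.ψL_inj h1 h2 (by rw [← e1, qe_bit j hj]; exact e2)

include U in
theorem sel_zero {z : ℕ} (hz : z < 2 ^ 20) : appSel qC 0 z = z := by
  obtain ⟨h1, e1⟩ := U.qe_Fn 0 z hz
  exact U.ψL_inj h1 hz (by rw [← e1, qe_zero, U.actQ_one])

/-- What a radical element does to the layers. -/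
def QL (s : ℕ) : Prop :=
  (∀ z < 2 ^ 19, appSel qC s z < 2 ^ 19 ∧ xL (appSel qC s z) = xL z ∧
      yL (appSel qC s z) = yL z ^^^ mulS s (xL z)) ∧
    (∀ z < 2 ^ 10, appSel qC s z = z ^^^ par9 (s &&& yL z)) ∧ appSel qC s (1 <<< 19) >>> 10 = 512 ||| s

theorem qc_layers {j : ℕ} (hj : j < 9) : app (qc j) (1 <<< 19) >>> 10 = 512 ||| (1 <<< j) ∧
    (∀ i < 19, app (qc j) (1 <<< i) < 2 ^ 19) ∧ (∀ i < 10, app (qc j) (1 <<< i) < 2 ^ 10) ∧
    (∀ i < 9, xL (app (qc j) (1 <<< (10 + i))) = 1 <<< i ∧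
      yL (app (qc j) (1 <<< (10 + i))) = app (mulX.getD j []) (1 <<< i) ∧
      app (qc j) (1 <<< (1 + i)) = (1 <<< (1 + i)) ^^^ (bif Nat.beq i j then 1 else 0)) ∧ app (qc j) 1 = 1 := by
  have h := List.all_eq_true.1 q_layers j (List.mem_range.2 hj)
  simp only [Bool.and_eq_true, List.all_eq_true, Nat.blt_eq, Nat.beq_eq, List.mem_range, and_assoc] at h
  exact h

theorem app_lt_of {L : List ℕ} {k m : ℕ} (hb : ∀ i < k, app L (1 <<< i) < 2 ^ m) : ∀ v < 2 ^ k, app L v < 2 ^ m :=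
  fun v hv => xor_closed_bits (fun v => app L v < 2 ^ m) (by rw [app_zero]; exact Nat.two_pow_pos m) k
    (fun a _ b _ ha hb' => by rw [app_add]; exact Nat.xor_lt_two_pow ha hb') hb v hv

theorem below10 {v : ℕ} (hv : v < 2 ^ 10) : xL v = 0 := by
  rw [xL, Nat.shiftRight_eq_div_pow, Nat.div_eq_of_lt hv, Nat.zero_and]

include U in
theorem qe_layers : ∀ s < 512, QL s := by
  have lt19 : ∀ {z}, z < 2 ^ 19 → z < 2 ^ 20 := fun h => h.trans (by norm_num)
  have lt10 : ∀ {z}, z < 2 ^ 10 → z < 2 ^ 20 := fun h => h.trans (by norm_num)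
  refine xor_closed_bits QL ⟨fun z hz => ?_, fun z hz => ?_, ?_⟩ 9 (fun s hs t ht Hs Ht => ?_) fun j hj => ?_
  · rw [U.sel_zero (lt19 hz)]; exact ⟨hz, rfl, by rw [mulS, app_zero, Nat.xor_zero]⟩
  · rw [U.sel_zero (lt10 hz), Nat.zero_and, par9, app_zero, Nat.xor_zero]
  · rw [U.sel_zero (by decide)]; rfl
  · obtain ⟨s1, s2, s3⟩ := Hs
    obtain ⟨t1, t2, t3⟩ := Ht
    refine ⟨fun z hz => ?_, fun z hz => ?_, ?_⟩
    · obtain ⟨a1, a2, a3⟩ := t1 z hz
      obtain ⟨b1, b2, b3⟩ := s1 _ a1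
      rw [U.sel_xor (lt19 hz)]
      refine ⟨b1, b2.trans a2, ?_⟩
      rw [b3, a2, a3, mulS_add]; ac_rfl
    · rw [U.sel_xor (lt10 hz), t2 z hz]
      have hp : par9 (t &&& yL z) < 2 ^ 1 := app_lt _ 1 (by decide) _
      have hw : z ^^^ par9 (t &&& yL z) < 2 ^ 10 := Nat.xor_lt_two_pow hz (hp.trans (by norm_num))
      have hy : yL (z ^^^ par9 (t &&& yL z)) = yL z := by
        rw [yL_add, show yL (par9 (t &&& yL z)) = 0 from by
          rw [yL, Nat.shiftRight_eq_div_pow, Nat.div_eq_of_lt hp, Nat.zero_and], Nat.xor_zero]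
      rw [s2 _ hw, hy, Nat.and_xor_distrib_right, par9_add]
      ac_rfl
    · rw [U.sel_xor (by decide)]
      obtain ⟨hv, -⟩ := U.qe_Fn t (1 <<< 19) (by decide)
      have hsplit : appSel qC t (1 <<< 19) = (1 <<< 19) ^^^ ((1 <<< 19) ^^^ appSel qC t (1 <<< 19)) := by
        rw [← Nat.xor_assoc, Nat.xor_self, Nat.zero_xor]
      have hd : ((1 <<< 19) ^^^ appSel qC t (1 <<< 19)) >>> 10 = t := by
        rw [Nat.shiftRight_xor_distrib, t3]
        refine Nat.eq_of_testBit_eq fun i => ?_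
        rw [show (1 <<< 19) >>> 10 = 2 ^ 9 from rfl, show (512 : ℕ) = 2 ^ 9 from rfl, Nat.testBit_xor, Nat.testBit_or]
        rcases eq_or_ne i 9 with rfl | h
        · rw [Nat.testBit_two_pow_self, Nat.testBit_lt_two_pow ht]; rfl
        · rw [Nat.testBit_two_pow_of_ne (Ne.symm h)]; simp
      have hdl : (1 <<< 19) ^^^ appSel qC t (1 <<< 19) < 2 ^ 19 := by
        by_contra hh
        have : 2 ^ 9 ≤ ((1 <<< 19) ^^^ appSel qC t (1 <<< 19)) >>> 10 := by
          rw [Nat.shiftRight_eq_div_pow, Nat.le_div_iff_mul_le (by norm_num)]; omega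
        omega
      obtain ⟨c1, c2, -⟩ := s1 _ hdl
      rw [hsplit, appSel_add, Nat.shiftRight_xor_distrib, s3]
      have : appSel qC s ((1 <<< 19) ^^^ appSel qC t (1 <<< 19)) >>> 10 = t := by
        have e1 : xL ((1 <<< 19) ^^^ appSel qC t (1 <<< 19)) = t := by
          rw [xL, hd, show (511 : ℕ) = 2 ^ 9 - 1 from rfl, Nat.and_two_pow_sub_one_eq_mod, Nat.mod_eq_of_lt ht]
        have e2 : appSel qC s ((1 <<< 19) ^^^ appSel qC t (1 <<< 19)) >>> 10 < 2 ^ 9 := by
          rw [Nat.shiftRight_eq_div_pow]; omega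
        have h := c2.trans e1
        rwa [xL, show (511 : ℕ) = 2 ^ 9 - 1 from rfl, Nat.and_two_pow_sub_one_eq_mod, Nat.mod_eq_of_lt e2] at h
      rw [this]
      refine Nat.eq_of_testBit_eq fun i => ?_
      rw [show (512 : ℕ) = 2 ^ 9 from rfl, Nat.testBit_xor, Nat.testBit_or, Nat.testBit_or, Nat.testBit_xor]
      rcases eq_or_ne i 9 with rfl | h
      · rw [Nat.testBit_two_pow_self, Nat.testBit_lt_two_pow ht]; simp
      · rw [Nat.testBit_two_pow_of_ne (Ne.symm h)]; simp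
  · obtain ⟨h19, hl19, hl10, hb, h1⟩ := qc_layers hj
    obtain ⟨lb0, lb1, lbx, lbi⟩ := layer_bits
    have hlt := app_lt_of hl19
    refine ⟨fun z hz => ?_, fun z hz => ?_, ?_⟩
    · rw [U.sel_bit hj (lt19 hz)]
      refine ⟨hlt z hz, ?_, ?_⟩
      · refine ext_bits (· ^^^ ·) (fun z => xL (app (qc j) z)) xL 19 (fun _ _ _ _ => by simp only [app_add, xL_add])
          (fun _ _ _ _ => xL_add _ _) (by simp [app_zero]) (fun i hi => ?_) z hz
        rcases split19 i hi with hi | ⟨k, hk, rfl⟩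
        · rw [lb0 i hi, below10 (hl10 i hi)]
        · rw [(hb k hk).1, (lbx k hk).1]
      · refine ext_bits (· ^^^ ·) (fun z => yL (app (qc j) z)) (fun z => yL z ^^^ mulS (1 <<< j) (xL z)) 19
          (fun _ _ _ _ => by simp only [app_add, yL_add]) (fun a _ b _ => by
            simp only [yL_add, xL_add, mulS_bit, app_add]; ac_rfl) (by simp [app_zero, mulS_bit, yL, xL])
          (fun i hi => ?_) z hz
        rcases split19 i hi with hi | ⟨k, hk, rfl⟩
        · rw [lb0 i hi, mulS_bit, app_zero, Nat.xor_zero]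
          rcases lbi i hi with rfl | ⟨k, hk, rfl⟩
          · rw [show (1 <<< 0) = 1 from rfl, h1]
          · rw [(hb k hk).2.2, yL_add]
            cases Nat.beq k j <;> simp [yL]
        · rw [(hb k hk).2.1, (lbx k hk).2.1, (lbx k hk).1, mulS_bit, Nat.zero_xor]
    · rw [U.sel_bit hj (lt10 hz)]
      refine ext_bits (· ^^^ ·) (fun z => app (qc j) z) (fun z => z ^^^ par9 ((1 <<< j) &&& yL z)) 10
        (fun _ _ _ _ => app_add _ _ _) (fun a _ b _ => by
          simp only [yL_add, Nat.and_xor_distrib_left, par9_add]; ac_rfl) (by simp [app_zero, par9, yL])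
        (fun i hi => ?_) z hz
      rcases lbi i hi with rfl | ⟨k, hk, rfl⟩
      · rw [show (1 <<< 0) = 1 from rfl, h1, lb1, Nat.and_zero, par9, app_zero, Nat.xor_zero]
      · rw [(hb k hk).2.2, (lbx k hk).2.2, Nat.and_comm, par9_bit k hk j hj]
    · rw [U.sel_bit hj (by decide), h19]

theorem ue_layers {u : ℕ} (hu : u < 64) :
    app (uc u) (1 <<< 19) >>> 19 = 1 ∧
    (∀ z < 2 ^ 19, app (uc u) z < 2 ^ 19 ∧ xL (app (uc u) z) = app (ux u) (xL z)) ∧
    ∀ z < 2 ^ 10, app (uc u) z < 2 ^ 10 ∧ yL (app (uc u) z) = app (uy u) (yL z) := by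
  have h := List.all_eq_true.1 u_layers u (List.mem_range.2 hu)
  simp only [Bool.and_eq_true, List.all_eq_true, Nat.blt_eq, Nat.beq_eq, List.mem_range, and_assoc] at h
  obtain ⟨h19, hl19, hl10, hb, h1⟩ := h
  obtain ⟨lb0, lb1, lbx, lbi⟩ := layer_bits
  refine ⟨h19, fun z hz => ⟨app_lt_of hl19 z hz, ?_⟩, fun z hz => ⟨app_lt_of hl10 z hz, ?_⟩⟩
  · refine ext_bits (· ^^^ ·) (fun z => xL (app (uc u) z)) (fun z => app (ux u) (xL z)) 19
      (fun _ _ _ _ => by simp only [app_add, xL_add]) (fun _ _ _ _ => by simp only [xL_add, app_add])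
      (by simp [app_zero, xL]) (fun i hi => ?_) z hz
    rcases split19 i hi with hi | ⟨k, hk, rfl⟩
    · rw [lb0 i hi, app_zero, below10 (hl10 i hi)]
    · rw [(hb k hk).1, (lbx k hk).1]
  · refine ext_bits (· ^^^ ·) (fun z => yL (app (uc u) z)) (fun z => app (uy u) (yL z)) 10
      (fun _ _ _ _ => by simp only [app_add, yL_add]) (fun _ _ _ _ => by simp only [yL_add, app_add])
      (by simp [app_zero, yL]) (fun i hi => ?_) z hz
    rcases lbi i hi with rfl | ⟨k, hk, rfl⟩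
    · rw [show (1 <<< 0) = 1 from rfl, h1, lb1, app_zero]
    · rw [(hb k hk).2.1, (lbx k hk).2.2]

include U in
theorem su_layers {s u : ℕ} (hs : s < 512) (hu : u < 64) :
    (∀ z < 2 ^ 19, appSel qC s (app (uc u) z) < 2 ^ 19 ∧ xL (appSel qC s (app (uc u) z)) = app (ux u) (xL z)) ∧
    ∀ z < 2 ^ 10, appSel qC s (app (uc u) z) = app (uc u) z ^^^ par9 (s &&& app (uy u) (yL z)) := by
  obtain ⟨q1, q2, -⟩ := U.qe_layers s hs
  obtain ⟨-, u1, u2⟩ := ue_layers hu
  refine ⟨fun z hz => ?_, fun z hz => ?_⟩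
  · obtain ⟨a1, a2⟩ := u1 z hz
    obtain ⟨b1, b2, -⟩ := q1 _ a1
    exact ⟨b1, b2.trans a2⟩
  · obtain ⟨a1, a2⟩ := u2 z hz
    rw [q2 _ a1, a2]

include U in
theorem su_inj {s t u v : ℕ} (hs : s < 512) (ht : t < 512) (hu : u < 64) (hv : v < 64)
    (h : qe s * ue u = qe t * ue v) : s = t ∧ u = v := by
  have e : ∀ z < 2 ^ 20, appSel qC s (app (uc u) z) = appSel qC t (app (uc v) z) := fun z hz => by
    obtain ⟨h1, e1⟩ := (U.qe_Fn s).mul (U.ue_Fn hu) z hz
    obtain ⟨h2, e2⟩ := (U.qe_Fn t).mul (U.ue_Fn hv) z hz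
    rw [h, e2] at e1
    exact (U.ψL_inj h2 h1 e1).symm
  have huv : u = v := by
    by_contra hne
    have hd := List.all_eq_true.1 (List.all_eq_true.1 u_dist u (List.mem_range.2 hu)) v (List.mem_range.2 hv)
    simp only [Bool.or_eq_true, List.any_eq_true, Bool.not_eq_true', List.mem_range, Nat.beq_eq] at hd
    obtain ⟨j, hj, hne'⟩ := hd.resolve_left hne
    have hz : (1 <<< (10 + j)) < 2 ^ 19 := by rw [Nat.one_shiftLeft]; exact Nat.pow_lt_pow_right (by norm_num) (by omega)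
    have := congrArg xL (e _ (hz.trans (by norm_num)))
    rw [((U.su_layers hs hu).1 _ hz).2, ((U.su_layers ht hv).1 _ hz).2, (layer_bits.2.2.1 j hj).1] at this
    rw [this, show ∀ n, Nat.beq n n = true from Nat.beq_refl] at hne'
    exact Bool.noConfusion hne'
  subst huv
  refine ⟨?_, rfl⟩
  have hst : qe s = qe t := mul_right_cancel h
  have h1 := (U.qe_layers s hs).2.2
  have h2 := (U.qe_layers t ht).2.2
  obtain ⟨a1, b1⟩ := U.qe_Fn s (1 <<< 19) (by decide)
  obtain ⟨a2, b2⟩ := U.qe_Fn t (1 <<< 19) (by decide)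
  rw [hst, b2] at b1
  rw [← U.ψL_inj a2 a1 b1, h2] at h1
  refine Nat.eq_of_testBit_eq fun i => ?_
  have := congrArg (fun n => Nat.testBit n i) h1
  simp only [Nat.testBit_or, show (512 : ℕ) = 2 ^ 9 from rfl] at this
  rcases eq_or_ne i 9 with rfl | h9
  · rw [Nat.testBit_lt_two_pow hs, Nat.testBit_lt_two_pow ht]
  · rw [Nat.testBit_two_pow_of_ne (Ne.symm h9)] at this
    simpa using this.symm

theorem card_S2 : Nat.card (S2 U) = 2 ^ 15 := by
  have e : Fin 512 × Fin 64 ≃ S2 U := Equiv.ofBijective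
    (fun p => ⟨qe p.1 * ue p.2, p.1, p.1.2, p.2, p.2.2, rfl⟩)
    ⟨fun a b h => by
      obtain ⟨h1, h2⟩ := U.su_inj a.1.2 b.1.2 a.2.2 b.2.2 (congrArg Subtype.val h)
      exact Prod.ext (Fin.ext h1) (Fin.ext h2),
    fun ⟨g, s, hs, u, hu, hg⟩ => ⟨(⟨s, hs⟩, ⟨u, hu⟩), Subtype.ext hg.symm⟩⟩
  rw [← Nat.card_congr e]; simp

end UAct

end CfsgU6Mod
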