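/-
Counting on the layers: orthogonals, annihilators, and subgroups of the Levi part.
-/
import Cfsg.Agent.Lib.U6Mod.PairChecks
import Cfsg.Agent.Lib.U6Mod.Syl

set_option autoImplicit false
set_option maxRecDepth 100000

namespace CfsgU6Mod

open Finset

/-- Containing zero and closed under sums. -/
def Cls (F : Finset ℕ) : Prop := 0 ∈ F ∧ ∀ a ∈ F, ∀ b ∈ F, a ^^^ b ∈ F

theorem tb_eq (N i : ℕ) : tb N i = N.testBit i := by
  rw [tb, Nat.testBit_eq_decide_div_mod_eq, Nat.shiftRight_eq_div_pow, Nat.and_one_is_mod, Bool.eq_iff_iff,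
    Nat.beq_eq, decide_eq_true_iff]

theorem countP_eq_card {f : ℕ → Bool} (n : ℕ) : (List.range n).countP f = ((range n).filter fun i => f i = true).card := by
  rw [List.countP_eq_length_filter, Finset.card_def, Finset.filter_val, Finset.range_val]
  simp only [Multiset.range, Multiset.filter_coe, Multiset.coe_card]
  congr 1
  refine List.filter_congr fun k _ => ?_
  cases f k <;> rfl

theorem fiber_bound {F : Finset ℕ} (hF : Cls F) (f : ℕ → ℕ) (hf : ∀ a ∈ F, ∀ b ∈ F, f (a ^^^ b) = f a ^^^ f b) :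
    F.card ≤ (F.image f).card * (F.filter fun a => f a = 0).card := by
  rw [mul_comm]
  refine card_le_mul_card_image F _ fun y hy => ?_
  obtain ⟨a, ha, rfl⟩ := mem_image.1 hy
  refine card_le_card_of_injOn (fun b => a ^^^ b) (fun b hb => ?_) (fun b _ c _ h => ?_)
  · rw [mem_coe, mem_filter] at hb
    rw [mem_coe, mem_filter]
    exact ⟨hF.2 a ha b hb.1, by rw [hf a ha b hb.1, hb.2, Nat.xor_self]⟩
  · have := congrArg (fun x => a ^^^ x) h
    simpa [← Nat.xor_assoc] using this

theorem par9_two : ∀ j < 9, par9 (2 ^ j) = 1 := by decide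

theorem diff_bit {a b i : ℕ} (h : (a ^^^ b).testBit i = true) : a.testBit i ≠ b.testBit i := by
  rw [Nat.testBit_xor] at h
  intro e
  rw [e] at h
  cases hb : b.testBit i <;> simp [hb] at h

theorem perp_bound (W Y : Finset ℕ) (hW : Cls W) (hY : Cls Y) (hWlt : ∀ w ∈ W, w < 512) (hYlt : ∀ y ∈ Y, y < 512)
    (h : ∀ w ∈ W, ∀ y ∈ Y, par9 (w &&& y) = 0) : W.card * Y.card ≤ 512 := by
  classical
  let J := (range 9).filter fun j => ∃ w ∈ W, w.testBit j = true ∧ w < 2 ^ (j + 1)
  have h1 : W.card ≤ 2 ^ J.card := by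
    rw [← card_powerset]
    refine card_le_card_of_injOn (fun w => J.filter fun j => w.testBit j = true)
      (fun w _ => by rw [mem_coe, mem_powerset]; exact filter_subset _ _) fun a ha b hb hab => ?_
    by_contra hne
    have hd0 : a ^^^ b ≠ 0 := fun e => hne (Nat.xor_eq_zero_iff.1 e)
    obtain ⟨j, hj, hj'⟩ := Nat.exists_most_significant_bit hd0
    have hjW : j ∈ J := by
      refine mem_filter.2 ⟨mem_range.2 ?_, _, hW.2 a ha b hb, hj, Nat.lt_pow_two_of_testBit _ fun i hi => hj' i (by omega)⟩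
      by_contra h9
      rw [Nat.testBit_lt_two_pow] at hj
      · exact Bool.noConfusion hj
      · exact (Nat.xor_lt_two_pow (n := 9) (hWlt a ha) (hWlt b hb)).trans_le (Nat.pow_le_pow_right (by norm_num) (by omega))
    have := Finset.ext_iff.1 hab j
    simp only [mem_filter, hjW, true_and] at this
    exact diff_bit hj (Bool.eq_iff_iff.2 this)
  have h2 : Y.card ≤ 2 ^ ((range 9) \ J).card := by
    rw [← card_powerset]
    refine card_le_card_of_injOn (fun y => ((range 9) \ J).filter fun j => y.testBit j = true)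
      (fun w _ => by rw [mem_coe, mem_powerset]; exact filter_subset _ _) fun a ha b hb hab => ?_
    by_contra hne
    have hd0 : a ^^^ b ≠ 0 := fun e => hne (Nat.xor_eq_zero_iff.1 e)
    obtain ⟨i₀, hi₀, -⟩ := Nat.exists_most_significant_bit hd0
    have hex : ∃ i, (a ^^^ b).testBit i = true := ⟨i₀, hi₀⟩
    have hj := Nat.find_spec hex
    have hmin := fun i hi => Nat.find_min hex (m := i) hi
    revert hj hmin
    generalize Nat.find hex = j
    intro hj hmin
    have h9 : j < 9 := by
      by_contra h9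
      rw [Nat.testBit_lt_two_pow] at hj
      · exact Bool.noConfusion hj
      · exact (Nat.xor_lt_two_pow (n := 9) (hYlt a ha) (hYlt b hb)).trans_le (Nat.pow_le_pow_right (by norm_num) (by omega))
    by_cases hJ : j ∈ J
    · obtain ⟨-, w, hw, hwj, hwlt⟩ := mem_filter.1 hJ
      have e : w &&& (a ^^^ b) = 2 ^ j := by
        refine Nat.eq_of_testBit_eq fun i => ?_
        rw [Nat.testBit_and, Nat.testBit_two_pow]
        rcases lt_trichotomy i j with hi | rfl | hi
        · rw [Bool.eq_false_iff.2 (hmin i hi)]; simp [show ¬ j = i by omega]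
        · simp [hwj, hj]
        · rw [Nat.testBit_lt_two_pow (hwlt.trans_le (Nat.pow_le_pow_right (by norm_num) hi))]
          simp [show ¬ j = i by omega]
      have := h w hw _ (hY.2 a ha b hb)
      rw [e, par9_two j h9] at this
      omega
    · have := Finset.ext_iff.1 hab j
      simp only [mem_filter, mem_sdiff, mem_range, h9, hJ, not_false_eq_true, and_self, true_and] at this
      exact diff_bit hj (Bool.eq_iff_iff.2 this)
  have hc : J.card + ((range 9) \ J).card = 9 := by
    rw [card_sdiff_of_subset (filter_subset _ _), card_range]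
    exact Nat.add_sub_cancel' ((card_filter_le _ _).trans (le_of_eq (card_range 9)))
  calc W.card * Y.card ≤ 2 ^ J.card * 2 ^ ((range 9) \ J).card := Nat.mul_le_mul h1 h2
    _ = 512 := by rw [← pow_add, hc]; norm_num

/-- The nonzero bits of a number are at most one more than those left by removing the lowest. -/
theorem clr_card (n N : ℕ) : ((range N).filter fun i => n.testBit i = true).card ≤
    ((range N).filter fun i => (clr n).testBit i = true).card + 1 := by
  classical
  rcases eq_or_ne n 0 with rfl | hn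
  · simp
  obtain ⟨i₀, hi₀, -⟩ := Nat.exists_most_significant_bit hn
  have hex : ∃ i, n.testBit i = true := ⟨i₀, hi₀⟩
  have hj := Nat.find_spec hex
  have hmin := fun i hi => Nat.find_min hex (m := i) hi
  revert hj hmin
  generalize Nat.find hex = j
  intro hj hmin
  have hlow : n % 2 ^ (j + 1) = 2 ^ j := by
    refine Nat.eq_of_testBit_eq fun i => ?_
    rw [Nat.testBit_mod_two_pow, Nat.testBit_two_pow]
    rcases lt_trichotomy i j with h | rfl | h
    · rw [Bool.eq_false_iff.2 (hmin i h)]; simp [show ¬ j = i by omega]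
    · simp [hj]
    · simp [show ¬ i < j + 1 by omega, show ¬ j = i by omega]
  have hp := Nat.two_pow_pos j
  have e1 : n = 2 ^ (j + 1) * (n / 2 ^ (j + 1)) + 2 ^ j := by rw [← hlow, Nat.div_add_mod]
  have e2 : n - 1 = 2 ^ (j + 1) * (n / 2 ^ (j + 1)) + (2 ^ j - 1) := by omega
  have hsub : ((range N).filter fun i => n.testBit i = true) ⊆
      insert j ((range N).filter fun i => (clr n).testBit i = true) := by
    intro i hi
    rw [mem_filter] at hi
    rw [mem_insert, mem_filter]
    rcases eq_or_ne i j with rfl | hne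
    · exact Or.inl rfl
    · refine Or.inr ⟨hi.1, ?_⟩
      have hij : j + 1 ≤ i := by
        by_contra h
        exact hmin i (by omega) hi.2
      rw [clr, Nat.testBit_and, hi.2, Bool.true_and, e2,
        Nat.testBit_two_pow_mul_add _ (by have : 2 ^ j ≤ 2 ^ (j + 1) := Nat.pow_le_pow_right (by norm_num) (by omega); omega),
        if_neg (by omega)]
      have := hi.2
      rwa [e1, Nat.testBit_two_pow_mul_add _ (Nat.pow_lt_pow_right (by norm_num) (by omega)), if_neg (by omega)] at this
  exact (card_le_card hsub).trans (card_insert_le _ _)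

/-- An element annihilated by a radical element. -/
theorem mulS_comm {s x : ℕ} (hs : s < 512) (hx : x < 512) : mulS s x = mulS x s := by
  have h := mulX_sym
  simp only [List.all_eq_true, Nat.beq_eq, List.mem_range] at h
  have hadd : ∀ (c : List (List ℕ)) (a b : ℕ), c.map (fun L => app L (a ^^^ b)) =
      List.zipWith (· ^^^ ·) (c.map fun L => app L a) (c.map fun L => app L b) := fun c a b => by
    induction c with
    | nil => rfl
    | cons L c ih => simp [ih, app_add]
  have appz : ∀ (p q : List ℕ) (v : ℕ), p.length = q.length →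
      app (List.zipWith (· ^^^ ·) p q) v = app p v ^^^ app q v := by
    intro p
    induction p with
    | nil => intro q v hl; cases q <;> simp_all [app]
    | cons a p ih =>
      intro q v hl
      cases q with
      | nil => simp at hl
      | cons b q =>
        simp only [List.zipWith_cons_cons, app, ih q _ (by simpa using hl)]
        cases Nat.beq (v &&& 1) 1 <;> simp <;> ac_rfl
  have right : ∀ c a b, mulS c (a ^^^ b) = mulS c a ^^^ mulS c b := fun c a b => by
    rw [mulS, hadd, appz _ _ _ (by simp)]; rfl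
  refine ext_bits (· ^^^ ·) (fun s => mulS s x) (fun s => mulS x s) 9 (fun _ _ _ _ => mulS_add _ _ _)
    (fun _ _ _ _ => right _ _ _) ?_ (fun i hi => ?_) s hs
  · show mulS 0 x = mulS x 0
    rw [mulS, app_zero]
    have := right x 0 0
    rw [Nat.xor_self, Nat.xor_self] at this
    exact this.symm
  refine ext_bits (· ^^^ ·) (fun x => mulS (1 <<< i) x) (fun x => mulS x (1 <<< i)) 9 (fun _ _ _ _ => right _ _ _)
    (fun _ _ _ _ => mulS_add _ _ _) ?_ (fun j hj => ?_) x hx
  · show mulS (1 <<< i) 0 = mulS 0 (1 <<< i)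
    rw [mulS_bit, app_zero, mulS, app_zero]
  show mulS (1 <<< i) (1 <<< j) = mulS (1 <<< j) (1 <<< i)
  rw [mulS_bit, mulS_bit, h i hi j hj]

theorem ann_facts {x : ℕ} (hx : x < 512) (hx0 : x ≠ 0) :
    (∀ S < 512, mulS S x = 0 → (ak x).testBit S = true) ∧
    ((range 512).filter fun S => mulS S x = 0).card ≤ 32 := by
  have h := List.all_eq_true.1 ann_cert x (List.mem_range.2 hx)
  simp only [Bool.or_eq_true, Nat.beq_eq, hx0, false_or, Bool.and_eq_true, Nat.ble_eq, List.all_eq_true, Nat.blt_eq,
    List.mem_range, tb_eq] at h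
  obtain ⟨⟨⟨hk, hE⟩, hid⟩, hmask⟩ := h
  generalize unp 9 9 (annCert.getD x (0, 0, 0, 0)).2.2.2 = R at hid
  generalize unp 9 9 (annCert.getD x (0, 0, 0, 0)).2.2.1 = E at hE hid
  generalize (annCert.getD x (0, 0, 0, 0)).1 = k at *
  generalize unp 9 k (annCert.getD x (0, 0, 0, 0)).2.1 = B at *
  have hm : ∀ S, mulS S x = app (mc x) S := fun S => by
    have h := List.all_eq_true.1 mC_ok x (List.mem_range.2 hx)
    simp only [List.all_eq_true, Nat.beq_eq, List.mem_range] at h
    have hl : ∀ (n N : ℕ), (unp 9 n N).length = n := fun n => by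
      induction n with
      | zero => intro N; rfl
      | succ n ih => intro N; simp [unp, ih]
    rw [mulS]
    congr 1
    refine List.ext_getElem (by simp [mc, hl, UAct.lens.2.2.2]) fun j hj1 hj2 => ?_
    rw [List.getElem_map]
    have hj : j < 9 := by simpa [mc, hl] using hj2
    have := h j hj
    rw [List.getD_eq_getElem _ _ hj2, List.getD_eq_getElem _ _ (by simpa using hj1)] at this
    exact this.symm
  have key : ∀ S < 512, mulS S x = 0 → app B (app E S) = S ∧ app E S < 2 ^ k := fun S hS h0 => by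
    have e : S ^^^ app R (app (mc x) S) = app B (app E S) :=
      ext_bits (· ^^^ ·) (fun S => S ^^^ app R (app (mc x) S)) (fun S => app B (app E S)) 9
        (fun _ _ _ _ => by simp only [app_add]; ac_rfl) (fun _ _ _ _ => by simp only [app_add]) (by simp [app_zero])
        hid S hS
    rw [← hm, h0, app_zero, Nat.xor_zero] at e
    exact ⟨e.symm, app_lt E k hE S⟩
  refine ⟨fun S hS h0 => ?_, ?_⟩
  · obtain ⟨e, hn⟩ := key S hS h0
    have := hmask _ hn
    rwa [e] at this
  · refine le_trans (card_le_card_of_injOn (t := range (2 ^ k)) (app E) (fun S hS => ?_) fun a ha b hb hab => ?_)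
      (by rw [card_range]; exact le_trans (Nat.pow_le_pow_right (by norm_num) hk) (by norm_num))
    · rw [mem_coe, mem_filter, mem_range] at hS
      rw [mem_coe, mem_range]
      exact (key S hS.1 hS.2).2
    · rw [mem_coe, mem_filter, mem_range] at ha hb
      rw [← (key a ha.1 ha.2).1, ← (key b hb.1 hb.2).1, hab]

theorem ann_pair {x z : ℕ} (hx : x < 512) (hx0 : x ≠ 0) (hz : z < 512) (hz0 : z ≠ 0) (hne : x ≠ z) :
    ((range 512).filter fun S => mulS S x = 0 ∧ mulS S z = 0).card ≤ 4 := by
  wlog hlt : z < x generalizing x z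
  · have := this hz hz0 hx hx0 hne.symm (by omega)
    convert this using 3
    exact and_comm
  have h := pair_all (x / 32) (by omega)
  simp only [pairOK, List.all_eq_true, Bool.or_eq_true, Nat.beq_eq, List.mem_range] at h
  have h := ((h (x % 32) (Nat.mod_lt _ (by norm_num))).resolve_left (by omega)) z (by omega)
  rw [show 32 * (x / 32) + x % 32 = x from Nat.div_add_mod x 32] at h
  have h := h.resolve_left hz0
  generalize hn : ak x &&& ak z = n at h
  have c1 := clr_card n 512
  have c2 := clr_card (clr n) 512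
  have c3 := clr_card (clr (clr n)) 512
  have c4 := clr_card (clr (clr (clr n))) 512
  rw [h] at c4
  simp only [Nat.zero_testBit, Bool.false_eq_true, filter_false, card_empty] at c4
  refine le_trans (card_le_card fun S hS => ?_) (show ((range 512).filter fun i => n.testBit i = true).card ≤ 4 by omega)
  rw [mem_filter, mem_range] at hS ⊢
  refine ⟨hS.1, ?_⟩
  rw [← hn, Nat.testBit_and, (ann_facts hx hx0).1 S hS.1 hS.2.1, (ann_facts hz hz0).1 S hS.1 hS.2.2]
  rfl

/-- Mutual annihilators in the layers. -/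
theorem ann_bounds (W B : Finset ℕ) (hWlt : ∀ w ∈ W, w < 512) (hBlt : ∀ b ∈ B, b < 512)
    (h : ∀ w ∈ W, ∀ b ∈ B, mulS w b = 0) :
    ((∃ w ∈ W, w ≠ 0) → B.card ≤ 32) ∧ ((∃ w ∈ W, ∃ w' ∈ W, w ≠ 0 ∧ w' ≠ 0 ∧ w ≠ w') → B.card ≤ 4) ∧
    ((∃ b ∈ B, b ≠ 0) → W.card ≤ 32) ∧ ((∃ b ∈ B, ∃ b' ∈ B, b ≠ 0 ∧ b' ≠ 0 ∧ b ≠ b') → W.card ≤ 4) := by
  have hs : ∀ w ∈ W, ∀ b ∈ B, mulS b w = 0 := fun w hw b hb => (mulS_comm (hBlt b hb) (hWlt w hw)).trans (h w hw b hb)
  refine ⟨?_, ?_, ?_, ?_⟩
  · rintro ⟨w, hw, hw0⟩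
    refine le_trans (card_le_card fun b hb => ?_) (ann_facts (hWlt w hw) hw0).2
    exact mem_filter.2 ⟨mem_range.2 (hBlt b hb), hs w hw b hb⟩
  · rintro ⟨w, hw, w', hw', h1, h2, h3⟩
    refine le_trans (card_le_card fun b hb => ?_) (ann_pair (hWlt w hw) h1 (hWlt w' hw') h2 h3)
    exact mem_filter.2 ⟨mem_range.2 (hBlt b hb), hs w hw b hb, hs w' hw' b hb⟩
  · rintro ⟨b, hb, hb0⟩
    refine le_trans (card_le_card fun w hw => ?_) (ann_facts (hBlt b hb) hb0).2
    exact mem_filter.2 ⟨mem_range.2 (hWlt w hw), h w hw b hb⟩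
  · rintro ⟨b, hb, b', hb', h1, h2, h3⟩
    refine le_trans (card_le_card fun w hw => ?_) (ann_pair (hBlt b hb) h1 (hBlt b' hb') h2 h3)
    exact mem_filter.2 ⟨mem_range.2 (hWlt w hw), h w hw b hb, h w hw b' hb'⟩

/-- The set of a mask. -/
def setOf16 (S : ℕ) : Finset ℕ := (range 16).filter fun n => S.testBit n = true

/-- A closed set of sixteen local indices is one of the listed masks. -/
theorem sub_cover {P : Finset ℕ} (hP : Cls P) (hlt : ∀ n ∈ P, n < 16) :
    ∃ k < 67, setOf16 (subMask.getD k 0) = P := by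
  classical
  have h := sub_closed
  simp only [Bool.and_eq_true, List.all_eq_true, Nat.beq_eq, List.mem_range, memN_iff, tb_eq] at h
  obtain ⟨⟨hcl, h1⟩, hlen⟩ := h
  have hne : (subMask.toFinset.filter fun S => setOf16 S ⊆ P).Nonempty :=
    ⟨1, mem_filter.2 ⟨List.mem_toFinset.2 h1, fun n hn => by
      rw [setOf16, mem_filter, show (1 : ℕ) = 2 ^ 0 from rfl, Nat.testBit_two_pow, decide_eq_true_iff] at hn
      rw [← hn.2]; exact hP.1⟩⟩
  obtain ⟨S, hS, hmax⟩ := exists_max_image _ (fun S => (setOf16 S).card) hne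
  rw [mem_filter, List.mem_toFinset] at hS
  obtain ⟨k, hk, hke⟩ := List.getElem_of_mem hS.1
  refine ⟨k, hlen ▸ hk, ?_⟩
  rw [List.getD_eq_getElem _ _ hk, hke]
  refine subset_antisymm hS.2 fun n hn => ?_
  by_contra hnS
  have hT : ∀ (L : List ℕ) (T₀ i : ℕ),
      (L.foldr (fun m T => bif S.testBit m then T ||| (1 <<< (m ^^^ n)) else T) T₀).testBit i = true ↔
        T₀.testBit i = true ∨ ∃ m ∈ L, S.testBit m = true ∧ m ^^^ n = i := by
    intro L T₀ i
    induction L with
    | nil => simp
    | cons a L ih =>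
      rw [List.foldr_cons]
      cases ha : S.testBit a
      · simp only [cond_false, ih, List.mem_cons, exists_eq_or_imp, ha, Bool.false_eq_true, false_and, false_or]
      · rw [cond_true, Nat.testBit_or, Bool.or_eq_true, ih, Nat.one_shiftLeft, Nat.testBit_two_pow, decide_eq_true_iff]
        simp only [List.mem_cons, exists_eq_or_imp, ha, true_and]
        rw [or_assoc, or_comm (a := ∃ m ∈ L, _)]
  have hS' := hcl S hS.1 n (hlt n hn)
  generalize hTd : (List.range 16).foldr (fun m T => bif S.testBit m then T ||| (1 <<< (m ^^^ n)) else T) S = T at hS'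
  have hTm : ∀ i, T.testBit i = true ↔ S.testBit i = true ∨ ∃ m < 16, S.testBit m = true ∧ m ^^^ n = i := fun i => by
    rw [← hTd, hT]; simp only [List.mem_range]
  have h0S : S.testBit 0 = true := by
    by_contra h0
    have hS0 : ∀ S ∈ subMask, S.testBit 0 = true := by decide +kernel
    exact h0 (hS0 S hS.1)
  have hsub : setOf16 S ⊆ setOf16 T := fun i hi => by
    rw [setOf16, mem_filter] at hi ⊢; exact ⟨hi.1, (hTm i).2 (Or.inl hi.2)⟩
  have hTP : setOf16 T ⊆ P := fun i hi => by
    rw [setOf16, mem_filter, hTm] at hi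
    rcases hi.2 with h | ⟨m, hm, hmS, rfl⟩
    · exact hS.2 (mem_filter.2 ⟨hi.1, h⟩)
    · exact hP.2 m (hS.2 (mem_filter.2 ⟨mem_range.2 hm, hmS⟩)) n hn
  have hnT : n ∈ setOf16 T := mem_filter.2 ⟨mem_range.2 (hlt n hn), (hTm n).2 (Or.inr ⟨0, by norm_num, h0S, Nat.zero_xor n⟩)⟩
  have := hmax T (mem_filter.2 ⟨List.mem_toFinset.2 hS', hTP⟩)
  have hlt' : (setOf16 S).card < (setOf16 T).card := card_lt_card ⟨hsub, fun h => hnS (h hnT)⟩
  omega

end CfsgU6Mod
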