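/-
Descent for an elementary abelian 2-subgroup `A` of order 2^20 with a normaliser `H` of U₆(2) type:
if centralisers of 3-elements of `H` stay in `H`, then `H` is the whole group.
-/
import Mathlib

set_option autoImplicit false

namespace CfsgU6Mod

open Subgroup

variable {X : Type*} [Group X]

/-- The facts about the action of `H` on `A` that the descent uses. -/
structure Facts (A H H₀ : Subgroup X) : Prop where
  card : Nat.card A = 2 ^ 20
  sq : ∀ a ∈ A, a * a = 1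
  comm : ∀ a ∈ A, ∀ b ∈ A, a * b = b * a
  norm : ∀ h : X, h ∈ H ↔ ∀ a, a ∈ A ↔ h * a * h⁻¹ ∈ A
  cent : ∀ h : X, (∀ a ∈ A, h * a = a * h) → h ∈ A
  leA : A ≤ H₀
  le : H₀ ≤ H
  normal : ∀ h ∈ H, ∀ g ∈ H₀, h * g * h⁻¹ ∈ H₀
  idx : ∀ x ∈ H, ∀ y ∈ H, x ∉ H₀ → y ∉ H₀ → x * y ∈ H₀
  central : ∀ s ∈ H, (∀ g ∈ H₀, s * g * s⁻¹ * g⁻¹ ∈ A) → s ∈ H₀
  prime : ∀ p : ℕ, p.Prime → p ∣ Nat.card H → p ≤ 11
  elem : ∀ U : Subgroup X, U ≤ H₀ → (∀ u ∈ U, ∀ v ∈ U, u * v = v * u) → (∀ u ∈ U, u * u = 1) → ¬ U ≤ A →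
    ∀ p : ℕ, p * Nat.card ↥(U ⊓ A) = Nat.card U →
      4 * p ^ 2 * Nat.card ↥(A ⊓ centralizer (U : Set X)) < 2 ^ 20 ∨
        ∃ v ∈ U, Nat.card ↥(A ⊓ centralizer ({v} : Set X)) = 2 ^ 14 ∧
          2 * p * Nat.card ↥(A ⊓ centralizer (U : Set X)) ≤ 2 ^ 13
  fix : ∀ h ∈ H₀, h ∉ A → Nat.card ↥(A ⊓ centralizer ({h} : Set X)) ≤ 2 ^ 15
  three : ∀ h ∈ H₀, orderOf h = 3 → Nat.card ↥(A ⊓ centralizer ({h} : Set X)) ≤ 2 ^ 13
  seven : ∀ h ∈ H₀, orderOf h = 7 → Nat.card ↥(A ⊓ centralizer ({h} : Set X)) ≤ 2 ^ 16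
  stab : ∀ B : Subgroup X, B ≤ A → 2 * Nat.card B = 2 ^ 20 → ∃ e₁ ∈ H, ∃ e₂ ∈ H,
    orderOf e₁ = 3 ∧ orderOf e₂ = 3 ∧ e₁ * e₂ = e₂ * e₁ ∧ e₂ ∉ zpowers e₁ ∧
      (∀ b, b ∈ B ↔ e₁ * b * e₁⁻¹ ∈ B) ∧ (∀ b, b ∈ B ↔ e₂ * b * e₂⁻¹ ∈ B)

/-- The conjugate of `A` by `n`. -/
abbrev cj (A : Subgroup X) (n : X) : Subgroup X := A.map (MulAut.conj n).toMonoidHom

theorem mem_cj {A : Subgroup X} {n x : X} : x ∈ cj A n ↔ n⁻¹ * x * n ∈ A := by
  rw [cj, mem_map_equiv, MulAut.conj_symm_apply]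

theorem card_cj (A : Subgroup X) (n : X) : Nat.card ↥(cj A n) = Nat.card A :=
  Subgroup.card_map_of_injective (MulEquiv.injective _)

theorem mem_cent {v x : X} : x ∈ centralizer ({v} : Set X) ↔ x * v = v * x :=
  ⟨fun h => (h v rfl).symm, fun h y hy => by rw [Set.mem_singleton_iff.1 hy]; exact h.symm⟩

variable {A H H₀ : Subgroup X} (F : Facts A H H₀)
include F

theorem inv_mem_A {a : X} (ha : a ∈ A) : a⁻¹ = a := inv_eq_of_mul_eq_one_right (F.sq a ha)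

theorem A_le : A ≤ H := F.leA.trans F.le

theorem conj_mem {h a : X} (hh : h ∈ H) (ha : a ∈ A) : h * a * h⁻¹ ∈ A := ((F.norm h).1 hh a).1 ha

variable [Finite X]

theorem mem_H_of_le {n : X} (h : cj A n ≤ A) : n ∈ H := by
  have e : cj A n = A := eq_of_le_of_card_ge h (le_of_eq (card_cj A n).symm)
  refine (F.norm n).2 fun a => ?_
  rw [← e, mem_cj, mem_cj]
  constructor
  · intro ha
    rw [show n⁻¹ * (n * a * n⁻¹) * n = a by group]
    rw [← e, mem_cj]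
    exact ha
  · intro ha
    rw [show n⁻¹ * (n * a * n⁻¹) * n = a by group] at ha
    rw [← e, mem_cj] at ha
    exact ha

/-- An element outside `H₀` fixing a subgroup of index at most 4 in `A` does not exist. -/
theorem sigma {s : X} (hs : s ∈ H) (hs0 : s ∉ H₀) :
    4 * Nat.card ↥(A ⊓ centralizer ({s} : Set X)) < 2 ^ 20 := by
  by_contra hlt
  refine hs0 (F.central s hs fun g hg => ?_)
  by_contra hA
  have h1 : s * g * s⁻¹ * g⁻¹ ∈ H₀ := mul_mem (F.normal s hs g hg) (inv_mem hg)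
  have h2 := F.fix _ h1 hA
  set C := A ⊓ centralizer ({s} : Set X)
  set D := cj C g
  have hD : D ≤ A := by
    intro x hx
    have h := (mem_cj.1 hx).1
    have h' := conj_mem F (F.le hg) h
    rwa [show g * (g⁻¹ * x * g) * g⁻¹ = x by group] at h'
  have hCD : C ⊓ D ≤ A ⊓ centralizer ({s * g * s⁻¹ * g⁻¹} : Set X) := by
    rintro x ⟨⟨hxA, hxs⟩, hxD⟩
    refine ⟨hxA, mem_cent.2 ?_⟩
    have e1 : Commute x s := mem_cent.1 hxs
    have e2 : Commute (g⁻¹ * x * g) s := mem_cent.1 (mem_cj.1 hxD).2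
    have e3 : Commute x (g * s⁻¹ * g⁻¹) := by
      have := (Commute.inv_right e2).map (MulAut.conj g).toMonoidHom
      simpa [mul_assoc] using this
    have : Commute x (s * (g * s⁻¹ * g⁻¹)) := e1.mul_right e3
    calc x * (s * g * s⁻¹ * g⁻¹) = x * (s * (g * s⁻¹ * g⁻¹)) := by group
      _ = s * (g * s⁻¹ * g⁻¹) * x := this.eq
      _ = _ := by group
  have hm : Nat.card C * Nat.card D ≤ 2 ^ 20 * Nat.card ↥(C ⊓ D) := by
    rw [← F.card]
    have hC : ((C.subgroupOf A) ⊓ D.subgroupOf A).index ≤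
        (C.subgroupOf A).index * (D.subgroupOf A).index := index_inf_le
    have a1 := (C.subgroupOf A).card_mul_index
    have a2 := (D.subgroupOf A).card_mul_index
    have a3 := ((C.subgroupOf A) ⊓ D.subgroupOf A).card_mul_index
    have c1 : Nat.card (C.subgroupOf A) = Nat.card C :=
      Nat.card_congr (subgroupOfEquivOfLe (inf_le_left : C ≤ A)).toEquiv
    have c2 : Nat.card (D.subgroupOf A) = Nat.card D := Nat.card_congr (subgroupOfEquivOfLe hD).toEquiv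
    have c3 : Nat.card ↥((C.subgroupOf A) ⊓ D.subgroupOf A) = Nat.card ↥(C ⊓ D) := by
      rw [show (C.subgroupOf A) ⊓ D.subgroupOf A = (C ⊓ D).subgroupOf A from (comap_inf _ _ _).symm]
      exact Nat.card_congr (subgroupOfEquivOfLe (inf_le_left.trans inf_le_left)).toEquiv
    rw [c1] at a1
    rw [c2] at a2
    rw [c3] at a3
    set i := ((C.subgroupOf A) ⊓ D.subgroupOf A).index
    set ic := (C.subgroupOf A).index
    set id' := (D.subgroupOf A).index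
    have hpos : 0 < Nat.card A := Nat.card_pos
    have : Nat.card C * Nat.card D * (ic * id') ≤ Nat.card A * Nat.card ↥(C ⊓ D) * (ic * id') := by
      calc Nat.card C * Nat.card D * (ic * id') = (Nat.card C * ic) * (Nat.card D * id') := by ring
        _ = Nat.card A * (Nat.card ↥(C ⊓ D) * i) := by rw [a1, a2, a3]
        _ ≤ Nat.card A * (Nat.card ↥(C ⊓ D) * (ic * id')) := by gcongr
        _ = _ := by ring
    exact Nat.le_of_mul_le_mul_right this
      (Nat.mul_pos (Nat.pos_of_ne_zero index_ne_zero_of_finite) (Nat.pos_of_ne_zero index_ne_zero_of_finite))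
  rw [show Nat.card D = Nat.card C from card_cj C g] at hm
  have h3 : Nat.card ↥(C ⊓ D) ≤ 2 ^ 15 := le_trans (Finite.card_le_of_embedding
    ⟨Subgroup.inclusion hCD, Subgroup.inclusion_injective hCD⟩) h2
  nlinarith

omit [Finite X] in
theorem card_le_two {U : Subgroup X} (hU : U ≤ H) :
    Nat.card U ≤ 2 * Nat.card ↥(U ⊓ H₀) := by
  have h := (H₀.subgroupOf U).card_mul_index
  have hi : (H₀.subgroupOf U).index ≤ 2 := by
    by_cases hsub : U ≤ H₀
    · rw [subgroupOf_eq_top.2 hsub, index_top]; omega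
    · obtain ⟨x, hx, hx0⟩ := SetLike.not_le_iff_exists.1 hsub
      refine le_of_eq (index_eq_two_iff.2 ⟨⟨x, hx⟩, fun b => ?_⟩)
      by_cases hb : (b : X) ∈ H₀
      · refine Or.inr ⟨mem_subgroupOf.2 hb, fun h => hx0 ?_⟩
        simpa using mul_mem (inv_mem hb) (mem_subgroupOf.1 h)
      · exact Or.inl ⟨mem_subgroupOf.2 (F.idx b (hU b.2) x (hU hx) hb hx0), fun h => hb (mem_subgroupOf.1 h)⟩
  have hc : Nat.card (H₀.subgroupOf U) = Nat.card ↥(U ⊓ H₀) := by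
    rw [← subgroupOf_map_subtype H₀ U |>.trans (inf_comm _ _),
      card_map_of_injective U.subtype_injective]
  rw [hc] at h
  calc Nat.card U = Nat.card ↥(U ⊓ H₀) * (H₀.subgroupOf U).index := h.symm
    _ ≤ Nat.card ↥(U ⊓ H₀) * 2 := by gcongr
    _ = _ := by ring

/-- `A` is weakly closed in `H`. -/
theorem weak {g : X} (hg : cj A g ≤ H) : g ∈ H := by
  by_contra hgH
  set U := cj A g ⊓ H₀ with hU
  have hsq : ∀ u ∈ cj A g, u * u = 1 := fun u hu => by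
    have h := F.sq _ (mem_cj.1 hu)
    calc u * u = g * ((g⁻¹ * u * g) * (g⁻¹ * u * g)) * g⁻¹ := by group
      _ = 1 := by rw [h]; group
  have hcomm : ∀ u ∈ cj A g, ∀ v ∈ cj A g, u * v = v * u := fun u hu v hv => by
    have h := F.comm _ (mem_cj.1 hu) _ (mem_cj.1 hv)
    calc u * v = g * ((g⁻¹ * u * g) * (g⁻¹ * v * g)) * g⁻¹ := by group
      _ = g * ((g⁻¹ * v * g) * (g⁻¹ * u * g)) * g⁻¹ := by rw [h]
      _ = v * u := by group
  have h2 : 2 ^ 20 ≤ 2 * Nat.card U := by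
    rw [← F.card, ← card_cj A g]
    exact card_le_two F hg
  have hI : U ⊓ A ≤ A ⊓ centralizer (U : Set X) := fun x hx =>
    ⟨hx.2, fun u hu => hcomm u hu.1 x hx.1.1⟩
  have hIc : Nat.card ↥(U ⊓ A) ≤ Nat.card ↥(A ⊓ centralizer (U : Set X)) :=
    Finite.card_le_of_embedding ⟨inclusion hI, inclusion_injective hI⟩
  by_cases hUA : U ≤ A
  · obtain ⟨s, hs, hsA⟩ := SetLike.not_le_iff_exists.1 (fun h : cj A g ≤ A => hgH (mem_H_of_le F h))
    have hs0 : s ∉ H₀ := fun h => hsA (hUA ⟨hs, h⟩)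
    have := sigma F (hg hs) hs0
    have hle : U ≤ A ⊓ centralizer ({s} : Set X) := fun x hx => ⟨hUA hx, mem_cent.2 (hcomm x hx.1 s hs)⟩
    have := Finite.card_le_of_embedding (f := ⟨inclusion hle, inclusion_injective hle⟩)
    omega
  obtain ⟨p, hp⟩ : Nat.card ↥(U ⊓ A) ∣ Nat.card U := card_dvd_of_le inf_le_left
  have hp' : p * Nat.card ↥(U ⊓ A) = Nat.card U := by rw [hp, Nat.mul_comm]
  have hp1 : 1 ≤ p := by
    rcases Nat.eq_zero_or_pos p with h | h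
    · rw [h, Nat.zero_mul] at hp'
      exact absurd hp'.symm Nat.card_pos.ne'
    · exact h
  have h4 : 2 * p * Nat.card ↥(A ⊓ centralizer (U : Set X)) ≤
      4 * p ^ 2 * Nat.card ↥(A ⊓ centralizer (U : Set X)) := by gcongr ?_ * _; nlinarith
  have h5 : 2 * Nat.card U ≤ 2 * p * Nat.card ↥(A ⊓ centralizer (U : Set X)) := by
    rw [← hp', ← Nat.mul_assoc]; gcongr
  rcases F.elem U inf_le_right (fun u hu v hv => hcomm u hu.1 v hv.1) (fun u hu => hsq u hu.1) hUA p hp' with h | ⟨v, -, -, h⟩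
  · omega
  · omega

end CfsgU6Mod
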