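/-
Fixed spaces of elementary abelian two-subgroups.
-/
import Cfsg.Agent.Lib.U6Mod.Comb

set_option autoImplicit false
set_option maxRecDepth 100000

namespace CfsgU6Mod

open Finset CfsgLib.G24 CfsgLib.SUSixSub

theorem eI_bound : (∀ h < 2, ∀ n < 16, eI h n < 64) ∧ (∀ h < 2, eI h 0 = 0) ∧
    (∀ h < 2, ∀ a < 16, ∀ b < 16, eI h a = eI h b → a = b) ∧ (∀ h < 2, ∀ i < 4, ∀ b < 16,
      (muG.getD (i + 2 * h) []).getD (eI h b) 0 = eI h ((1 <<< i) ^^^ b) ∧ eI h (1 <<< i) = 1 <<< (i + 2 * h)) ∧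
    (∀ u < 64, u < 16 → eI 0 u = u) ∧ ∀ u < 64, u % 4 = 0 → eI 1 (u / 4) = u := by decide +kernel

/-- The common fixed points. -/
def fixV {M : Type*} [AddCommGroup M] (U : UAct M) (V : Set PG) : Set M := {m | ∀ g ∈ V, U.actQ g m = m}

namespace UAct

variable {M : Type*} [AddCommGroup M] (U : UAct M)

include U in
theorem eI_mul {h : ℕ} (hh : h < 2) : ∀ a < 16, ∀ b < 16, ue (eI h a) * ue (eI h b) = ue (eI h (a ^^^ b)) := by
  obtain ⟨hlt, h0, -, habel, -, -⟩ := eI_bound
  refine xor_closed_bits (fun a => ∀ b < 16, ue (eI h a) * ue (eI h b) = ue (eI h (a ^^^ b)))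
    (fun b _ => by rw [h0 h hh, ue_zero, one_mul, Nat.zero_xor]) 4 (fun s hs t ht Ps Pt b hb => ?_) (fun i hi b hb => ?_)
  · rw [← Ps t ht, mul_assoc, Pt b hb, Ps _ (Nat.xor_lt_two_pow (n := 4) ht hb), Nat.xor_assoc]
  · obtain ⟨e1, e2⟩ := habel h hh i hi b hb
    rw [e2, ue_bit _ (by omega), (U.gen_ue (by omega) (hlt h hh b hb)).2, e1]

include U in
theorem ux_of_mul {u v w : ℕ} (hu : u < 64) (hv : v < 64) (hw : w < 64) (e : ue u * ue v = ue w) :
    ∀ s < 512, app (ux u) (app (ux v) s) = app (ux w) s := by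
  intro s hs
  have h1 : ue w * qe s = qe (app (ux u) (app (ux v) s)) * ue w := by
    rw [← e, mul_assoc, U.ue_qe v hv s hs, ← mul_assoc, U.ue_qe u hu _ (ux_lt hv s hs), mul_assoc]
  rw [U.ue_qe w hw s hs] at h1
  exact (U.su_inj (ux_lt hw s hs) (ux_lt hu _ (ux_lt hv s hs)) hw hw h1).1.symm

include U in
theorem su_mul {s t u v : ℕ} (hs : s < 512) (ht : t < 512) (hu : u < 64) :
    (s ^^^ app (ux u) t) < 512 ∧ qe s * ue u * (qe t * ue v) = qe (s ^^^ app (ux u) t) * (ue u * ue v) := by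
  refine ⟨Nat.xor_lt_two_pow (n := 9) hs (ux_lt hu t ht), ?_⟩
  rw [U.qe_xor, mul_assoc, mul_assoc, ← mul_assoc (ue u), U.ue_qe u hu t ht]
  group

theorem fixV_bridge (V : Set PG) [DecidablePred fun z => U.ψL z ∈ fixV U V] :
    Nat.card (fixV U V) = ((range (2 ^ 20)).filter fun z => U.ψL z ∈ fixV U V).card := by
  rw [← Nat.card_eq_finsetCard]
  refine (Nat.card_congr (Equiv.ofBijective (fun z => ⟨U.ψL z, (mem_filter.1 z.2).2⟩) ⟨fun a b h => ?_, fun m => ?_⟩)).symm
  · exact Subtype.ext (U.ψL_inj (mem_range.1 (mem_filter.1 a.2).1) (mem_range.1 (mem_filter.1 b.2).1)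
      (congrArg Subtype.val h))
  · obtain ⟨z, hz, e⟩ := U.ψL_surj m
    exact ⟨⟨z, mem_filter.2 ⟨mem_range.2 hz, by rw [e]; exact m.2⟩⟩, Subtype.ext e⟩

theorem unp_len (w : ℕ) : ∀ n N, (unp w n N).length = n
  | 0, _ => rfl
  | n + 1, N => by simp [unp, unp_len w n]

theorem one_card {r : ℕ} (hr : isOne r = true) : Nat.card (fixV U {qe r}) = 2 ^ 14 := by
  classical
  simp only [isOne, List.any_eq_true] at hr
  refine (U.fixV_bridge _).trans ?_
  obtain ⟨e, he, her⟩ := hr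
  rw [Nat.beq_eq] at her
  have h := List.all_eq_true.1 one_ok e he
  simp only [Bool.and_eq_true, List.all_eq_true, Nat.blt_eq, Nat.beq_eq, List.mem_range, and_assoc] at h
  obtain ⟨-, -, hE, hid, hfix⟩ := h
  rw [her] at hid hfix
  generalize unp 20 20 e.2.2.2 = R at *
  generalize unp 20 20 e.2.2.1 = Ec at *
  have hB : (unp 20 14 e.2.1).length = 14 := unp_len _ _ _
  have hBlt : ∀ c ∈ unp 20 14 e.2.1, c < 2 ^ 20 := by
    have : ∀ n N, ∀ c ∈ unp 20 n N, c < 2 ^ 20 := fun n => by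
      induction n with
      | zero => simp [unp]
      | succ n ih =>
        intro N c hc
        rw [unp, List.mem_cons] at hc
        rcases hc with rfl | hc
        · exact Nat.lt_succ_of_le Nat.and_le_right
        · exact ih _ c hc
    exact this 14 _
  generalize unp 20 14 e.2.1 = B at *
  have hadd := appSel_add qC r
  have hmem : ∀ z < 2 ^ 20, (U.ψL z ∈ fixV U {qe r} ↔ appSel qC r z = z) := fun z hz => by
    obtain ⟨h1, h2⟩ := U.qe_Fn r z hz
    constructor
    · intro h; exact U.ψL_inj h1 hz (by rw [← h2]; exact h (qe r) rfl)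
    · rintro h g rfl; rw [h2, h]
  have hid' : ∀ z < 2 ^ 20, z ^^^ app R (z ^^^ appSel qC r z) = app B (app Ec z) :=
    ext_bits (· ^^^ ·) (fun z => z ^^^ app R (z ^^^ appSel qC r z)) (fun z => app B (app Ec z)) 20
      (fun a _ b _ => by simp only [hadd, app_add]; ac_rfl) (fun _ _ _ _ => by simp only [app_add])
      (by simp [app_zero, U.qe_Fn r |>.map_zero']) hid
  have hBfix : ∀ n < 2 ^ 14, appSel qC r (app B n) = app B n ∧ app Ec (app B n) = n := fun n hn => by
    have hb : ∀ k < 14, app B (1 <<< k) = B.getD k 0 := fun k _ => app_bit B k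
    refine ⟨ext_bits (· ^^^ ·) (fun n => appSel qC r (app B n)) (app B) 14
      (fun _ _ _ _ => by simp only [app_add, hadd]) (fun _ _ _ _ => app_add _ _ _)
      (by simp [app_zero, U.qe_Fn r |>.map_zero']) (fun k hk => ?_) n hn,
      ext_bits (· ^^^ ·) (fun n => app Ec (app B n)) id 14
      (fun _ _ _ _ => by simp only [app_add]) (fun _ _ _ _ => rfl) (by simp [app_zero]) (fun k hk => ?_) n hn⟩
    · rw [hb k hk]; exact (hfix k hk).1
    · show app Ec (app B (1 <<< k)) = _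
      rw [hb k hk]; exact (hfix k hk).2
  rw [← card_range (2 ^ 14)]
  refine card_bij' (fun z _ => app Ec z) (fun n _ => app B n) (fun z hz => ?_) (fun n hn => ?_) (fun z hz => ?_)
    (fun n hn => (hBfix n (mem_range.1 hn)).2)
  · exact mem_range.2 (app_lt Ec 14 hE z)
  · rw [mem_filter, mem_range]
    exact ⟨app_lt B 20 hBlt n, (hmem _ (app_lt B 20 hBlt n)).2 (hBfix n (mem_range.1 hn)).1⟩
  · rw [mem_filter, mem_range] at hz
    show app B (app Ec z) = z
    rw [← hid' z hz.1, (hmem z hz.1).1 hz.2, Nat.xor_self, app_zero, Nat.xor_zero]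

theorem fix_layers (V : Set PG) [DecidablePred fun z => U.ψL z ∈ fixV U V] (W P : Finset ℕ)
    (hW : ∀ w ∈ W, w < 512 ∧ qe w ∈ V) (hP : ∀ u ∈ P, u < 64 ∧ ∃ s < 512, qe s * ue u ∈ V) :
    ((range (2 ^ 20)).filter fun z => U.ψL z ∈ fixV U V).card ≤
      (if ∃ w ∈ W, w ≠ 0 then 1 else 2) *
        (((range 512).filter fun x => (∀ u ∈ P, app (ux u) x = x) ∧ ∀ w ∈ W, mulS w x = 0).card *
          (((range 512).filter fun y => (∀ u ∈ P, app (uy u) y = y) ∧ ∀ w ∈ W, par9 (w &&& y) = 0).card * 2)) := by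
  classical
  set F := (range (2 ^ 20)).filter fun z => U.ψL z ∈ fixV U V with hFdef
  have hmem : ∀ z ∈ F, z < 2 ^ 20 ∧ ∀ g ∈ V, U.actQ g (U.ψL z) = U.ψL z := fun z hz => by
    rw [hFdef, mem_filter, mem_range] at hz; exact hz
  have hF : Cls F := by
    refine ⟨mem_filter.2 ⟨mem_range.2 (by norm_num), fun g _ => by rw [U.ψL_zero, map_zero]⟩, fun a ha b hb => ?_⟩
    exact mem_filter.2 ⟨mem_range.2 (Nat.xor_lt_two_pow (hmem a ha).1 (hmem b hb).1), fun g hg => by
      rw [U.ψL_xor, map_add, (hmem a ha).2 g hg, (hmem b hb).2 g hg]⟩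
  have hq : ∀ w ∈ W, ∀ z ∈ F, appSel qC w z = z := fun w hw z hz => by
    obtain ⟨h1, h2⟩ := U.qe_Fn w z (hmem z hz).1
    exact U.ψL_inj h1 (hmem z hz).1 (by rw [← h2]; exact (hmem z hz).2 _ (hW w hw).2)
  have hu : ∀ u ∈ P, ∃ s < 512, ∀ z ∈ F, appSel qC s (app (uc u) z) = z := fun u hu => by
    obtain ⟨hu', s, hs, hsv⟩ := hP u hu
    refine ⟨s, hs, fun z hz => ?_⟩
    obtain ⟨h1, h2⟩ := (U.qe_Fn s).mul (U.ue_Fn hu') z (hmem z hz).1
    exact U.ψL_inj h1 (hmem z hz).1 (by rw [← h2]; exact (hmem z hz).2 _ hsv)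
  have hsub : ∀ (f : ℕ → ℕ) {G : Finset ℕ}, Cls G → (∀ a b, f (a ^^^ b) = f a ^^^ f b) →
      Cls (G.filter fun z => f z = 0) := fun f G hG hf => by
    refine ⟨mem_filter.2 ⟨hG.1, ?_⟩, fun a ha b hb => ?_⟩
    · have := hf 0 0; rwa [Nat.xor_self, Nat.xor_self] at this
    · rw [mem_filter] at ha hb ⊢
      exact ⟨hG.2 a ha.1 b hb.1, by rw [hf, ha.2, hb.2, Nat.xor_self]⟩
  have h1 := hsub (fun z => z >>> 19) hF fun a b => Nat.shiftRight_xor_distrib ..
  have h2 := hsub xL h1 xL_add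
  refine le_trans (fiber_bound hF (fun z => z >>> 19) fun a _ b _ => Nat.shiftRight_xor_distrib ..) (Nat.mul_le_mul ?_ ?_)
  · have himg : F.image (fun z => z >>> 19) ⊆ range 2 := fun t ht => by
      obtain ⟨z, hz, rfl⟩ := mem_image.1 ht
      have := (hmem z hz).1
      rw [mem_range, Nat.shiftRight_eq_div_pow]; omega
    split_ifs with hw
    · obtain ⟨w, hw, hw0⟩ := hw
      refine le_trans (card_le_card (t := {0}) fun t ht => ?_) (le_of_eq (card_singleton 0))
      have ht2 := himg ht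
      obtain ⟨z, hz, rfl⟩ := mem_image.1 ht
      rw [mem_singleton]
      by_contra h
      have hz1 : z >>> 19 = 1 := by rw [mem_range] at ht2; omega
      have hlt : z ^^^ (1 <<< 19) < 2 ^ 19 := by
        have : (z ^^^ (1 <<< 19)) >>> 19 = 0 := by rw [Nat.shiftRight_xor_distrib, hz1]; rfl
        rw [Nat.shiftRight_eq_div_pow] at this
        omega
      obtain ⟨q1, -, q3⟩ := U.qe_layers w (hW w hw).1
      obtain ⟨a1, a2, -⟩ := q1 _ hlt
      have e := hq w hw z hz
      have ez : z = (1 <<< 19) ^^^ (z ^^^ (1 <<< 19)) := by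
        rw [Nat.xor_comm z, ← Nat.xor_assoc, Nat.xor_self, Nat.zero_xor]
      generalize z ^^^ (1 <<< 19) = d at ez hlt a1 a2
      rw [ez, appSel_add] at e
      have e' := congrArg xL e
      rw [xL_add, xL_add, a2] at e'
      have e2 : xL (appSel qC w (1 <<< 19)) = w := by
        rw [xL, q3, show (511 : ℕ) = 2 ^ 9 - 1 from rfl, Nat.and_two_pow_sub_one_eq_mod, show (512 : ℕ) = 2 ^ 9 from rfl]
        refine Nat.eq_of_testBit_eq fun i => ?_
        rw [Nat.testBit_mod_two_pow, Nat.testBit_or, Nat.testBit_two_pow]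
        rcases Nat.lt_or_ge i 9 with hi | hi
        · simp [hi, show ¬ 9 = i by omega]
        · simp [show ¬ i < 9 by omega, Nat.testBit_lt_two_pow ((hW w hw).1.trans_le (Nat.pow_le_pow_right (by norm_num) hi : (2:ℕ) ^ 9 ≤ 2 ^ i))]
      rw [e2, show xL (1 <<< 19) = 0 from rfl, Nat.zero_xor] at e'
      refine hw0 ?_
      have := congrArg (· ^^^ xL d) e'
      simpa [Nat.xor_assoc] using this
    · exact (card_le_card himg).trans (le_of_eq (card_range 2))
  refine le_trans (fiber_bound h1 xL fun a _ b _ => xL_add a b) (Nat.mul_le_mul ?_ ?_)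
  · refine card_le_card fun t ht => ?_
    obtain ⟨z, hz, rfl⟩ := mem_image.1 ht
    rw [mem_filter] at hz
    have hz19 : z < 2 ^ 19 := by
      have := hz.2
      simp only [Nat.shiftRight_eq_div_pow] at this
      omega
    refine mem_filter.2 ⟨mem_range.2 (xL_lt z), fun u huP => ?_, fun w hw => ?_⟩
    · obtain ⟨s, hs, he⟩ := hu u huP
      have := ((U.su_layers hs (hP u huP).1).1 z hz19).2
      rw [he z hz.1] at this
      exact this.symm
    · obtain ⟨-, -, hy⟩ := (U.qe_layers w (hW w hw).1).1 z hz19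
      rw [hq w hw z hz.1] at hy
      have := congrArg (fun t => yL z ^^^ t) hy
      simpa [← Nat.xor_assoc] using this.symm
  refine le_trans (fiber_bound h2 yL fun a _ b _ => yL_add a b) (Nat.mul_le_mul ?_ ?_)
  · refine card_le_card fun t ht => ?_
    obtain ⟨z, hz, rfl⟩ := mem_image.1 ht
    rw [mem_filter, mem_filter] at hz
    have hz10 : z < 2 ^ 10 := by
      have h19 := hz.1.2
      have hx := hz.2
      rw [xL, show (511 : ℕ) = 2 ^ 9 - 1 from rfl, Nat.and_two_pow_sub_one_eq_mod, Nat.shiftRight_eq_div_pow] at hx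
      simp only [Nat.shiftRight_eq_div_pow] at h19
      omega
    have hpar : ∀ v, yL (par9 v) = 0 := fun v => by
      have : par9 v < 2 ^ 1 := app_lt _ 1 (by decide) _
      rw [yL, Nat.shiftRight_eq_div_pow, Nat.div_eq_of_lt this, Nat.zero_and]
    refine mem_filter.2 ⟨mem_range.2 (yL_lt z), fun u huP => ?_, fun w hw => ?_⟩
    · obtain ⟨s, hs, he⟩ := hu u huP
      have h := (U.su_layers hs (hP u huP).1).2 z hz10
      rw [he z hz.1.1] at h
      have := congrArg yL h
      rw [yL_add, hpar, Nat.xor_zero, ((ue_layers (hP u huP).1).2.2 z hz10).2] at this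
      exact this.symm
    · have h := (U.qe_layers w (hW w hw).1).2.1 z hz10
      rw [hq w hw z hz.1.1] at h
      have := congrArg (fun t => z ^^^ t) h
      simpa [← Nat.xor_assoc] using this.symm
  · refine le_trans (card_le_card (t := range 2) fun z hz => ?_) (le_of_eq (card_range 2))
    rw [mem_filter, mem_filter, mem_filter] at hz
    obtain ⟨⟨⟨-, h19⟩, hx⟩, hy⟩ := hz
    rw [mem_range]
    rw [xL, show (511 : ℕ) = 2 ^ 9 - 1 from rfl, Nat.and_two_pow_sub_one_eq_mod, Nat.shiftRight_eq_div_pow] at hx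
    rw [yL, show (511 : ℕ) = 2 ^ 9 - 1 from rfl, Nat.and_two_pow_sub_one_eq_mod, Nat.shiftRight_eq_div_pow] at hy
    simp only [Nat.shiftRight_eq_div_pow] at h19
    omega

/-- The bound for an elementary abelian subgroup of the Sylow two-subgroup. -/
theorem elem_model (V : Subgroup PG) (hV : V ≤ S2 U) (hc : ∀ a ∈ V, ∀ b ∈ V, a * b = b * a)
    (hsq : ∀ a ∈ V, a * a = 1) (hne : V ≠ ⊥) :
    4 * Nat.card V ^ 2 * Nat.card (fixV U (V : Set PG)) < 2 ^ 20 ∨
      ∃ v ∈ V, Nat.card (fixV U {v}) = 2 ^ 14 ∧ 2 * Nat.card V * Nat.card (fixV U (V : Set PG)) ≤ 2 ^ 13 := by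
  classical
  set W := (range 512).filter fun s => qe s ∈ V with hWdef
  set P := (range 64).filter fun u => ∃ s < 512, qe s * ue u ∈ V with hPdef
  have hWm : ∀ w ∈ W, w < 512 ∧ qe w ∈ V := fun w hw => by rwa [hWdef, mem_filter, mem_range] at hw
  have hPm : ∀ u ∈ P, u < 64 ∧ ∃ s < 512, qe s * ue u ∈ V := fun u hu => by rwa [hPdef, mem_filter, mem_range] at hu
  have hWc : Cls W := ⟨mem_filter.2 ⟨mem_range.2 (by norm_num), by rw [qe_zero]; exact one_mem _⟩, fun a ha b hb =>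
    mem_filter.2 ⟨mem_range.2 (Nat.xor_lt_two_pow (n := 9) (hWm a ha).1 (hWm b hb).1),
      by rw [U.qe_xor]; exact mul_mem (hWm a ha).2 (hWm b hb).2⟩⟩
  have hPW : ∀ u ∈ P, ∀ w ∈ W, app (ux u) w = w := fun u hu w hw => by
    obtain ⟨hu', s, hs, hsv⟩ := hPm u hu
    have e := hc _ hsv _ (hWm w hw).2
    rw [mul_assoc, U.ue_qe u hu' w (hWm w hw).1, ← mul_assoc, ← U.qe_xor, ← mul_assoc, ← U.qe_xor] at e
    have := (U.su_inj (Nat.xor_lt_two_pow (n := 9) hs (ux_lt hu' w (hWm w hw).1))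
      (Nat.xor_lt_two_pow (n := 9) (hWm w hw).1 hs) hu' hu' e).1
    have := congrArg (fun t => s ^^^ t) this
    simpa [← Nat.xor_assoc, Nat.xor_comm w s] using this
  have hPP : ∀ u ∈ P, ∀ v ∈ P, ∀ x < 512, app (ux u) (app (ux v) x) = app (ux v) (app (ux u) x) := by
    intro u hu v hv x hx
    obtain ⟨hu', s, hs, hsv⟩ := hPm u hu
    obtain ⟨hv', t, ht, htv⟩ := hPm v hv
    obtain ⟨a, ha, ea⟩ := U.ue_mul u hu' v hv'
    obtain ⟨b, hb, eb⟩ := U.ue_mul v hv' u hu'
    have e := hc _ hsv _ htv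
    rw [(U.su_mul hs ht hu').2, (U.su_mul ht hs hv').2, ea, eb] at e
    have hab := (U.su_inj (U.su_mul (v := v) hs ht hu').1 (U.su_mul (v := u) ht hs hv').1 ha hb e).2
    rw [U.ux_of_mul hu' hv' ha ea x hx, U.ux_of_mul hv' hu' hb eb x hx, hab]
  have hinv : ∀ u ∈ P, invU u = true := fun u hu => by
    obtain ⟨hu', s, hs, hsv⟩ := hPm u hu
    obtain ⟨a, ha, ea⟩ := U.ue_mul u hu' u hu'
    have e := hsq _ hsv
    rw [(U.su_mul hs hs hu').2, ea, ← one_mul (1 : PG)] at e
    conv_rhs at e => arg 1; rw [← qe_zero]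
    conv_rhs at e => arg 2; rw [← ue_zero]
    have ha0 := (U.su_inj (U.su_mul (v := u) hs hs hu').1 (by norm_num) ha (by norm_num) e).2
    rw [invU, List.all_eq_true]
    intro j hj
    rw [List.mem_range] at hj
    have hj' : (1 <<< j) < 512 := by rw [Nat.one_shiftLeft]; exact Nat.pow_lt_pow_right (m := j) (n := 9) (by norm_num) hj
    rw [Nat.beq_eq, U.ux_of_mul hu' hu' ha ea _ hj', ha0, step_facts.2.1 _ hj']
  obtain ⟨hIlt, hI0, hIinj, -, hA, hC⟩ := eI_bound
  obtain ⟨h, hh, hcov⟩ : ∃ h < 2, ∀ u ∈ P, ∃ n < 16, eI h n = u := by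
    by_cases hall : ∀ u ∈ P, u < 16
    · exact ⟨0, by norm_num, fun u hu => ⟨u, hall u hu, hA u (hPm u hu).1 (hall u hu)⟩⟩
    · push Not at hall
      obtain ⟨u₀, hu₀, hu₀16⟩ := hall
      refine ⟨1, by norm_num, fun v hv => ⟨v / 4, by have := (hPm v hv).1; omega, hC v (hPm v hv).1 ?_⟩⟩
      have hh := List.all_eq_true.1 u_elem u₀ (List.mem_range.2 (hPm u₀ hu₀).1)
      rw [hinv u₀ hu₀] at hh
      simp only [Bool.not_true, Bool.false_or, List.all_eq_true] at hh
      have hh := hh v (List.mem_range.2 (hPm v hv).1)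
      rw [hinv v hv] at hh
      simp only [Bool.not_true, Bool.false_or, Bool.or_eq_true, Bool.and_eq_true, Nat.blt_eq, Nat.beq_eq,
        Bool.not_eq_true'] at hh
      rcases hh with h' | h' | h'
      · rw [Bool.eq_false_iff] at h'
        refine absurd (List.all_eq_true.2 fun j hj => ?_) h'
        rw [List.mem_range] at hj
        exact Nat.beq_eq.mpr (hPP u₀ hu₀ v hv _ (by rw [Nat.one_shiftLeft]; exact Nat.pow_lt_pow_right (m := j) (n := 9) (by norm_num) hj))
      · omega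
      · exact h'.2
  set Pl := (range 16).filter fun n => eI h n ∈ P with hPldef
  have hPlc : Cls Pl := by
    refine ⟨mem_filter.2 ⟨mem_range.2 (by norm_num), ?_⟩, fun a ha b hb => ?_⟩
    · rw [hI0 h hh, hPdef, mem_filter, mem_range]
      exact ⟨by norm_num, 0, by norm_num, by rw [qe_zero, ue_zero, one_mul]; exact one_mem _⟩
    · rw [hPldef, mem_filter, mem_range] at ha hb
      obtain ⟨hu', s, hs, hsv⟩ := hPm _ ha.2
      obtain ⟨hv', t, ht, htv⟩ := hPm _ hb.2
      have hab : a ^^^ b < 16 := Nat.xor_lt_two_pow (n := 4) ha.1 hb.1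
      refine mem_filter.2 ⟨mem_range.2 hab, ?_⟩
      rw [hPdef, mem_filter, mem_range]
      obtain ⟨hlt', e⟩ := U.su_mul (v := eI h b) hs ht hu'
      refine ⟨hIlt h hh _ hab, _, hlt', ?_⟩
      rw [← U.eI_mul hh a ha.1 b hb.1, ← e]
      exact mul_mem hsv htv
  have hcardP : Pl.card = P.card := card_bij (fun n _ => eI h n) (fun n hn => (mem_filter.1 hn).2)
    (fun a ha b hb e => hIinj h hh a (mem_range.1 (mem_filter.1 ha).1) b (mem_range.1 (mem_filter.1 hb).1) e)
    (fun u hu => by obtain ⟨n, hn, rfl⟩ := hcov u hu; exact ⟨n, mem_filter.2 ⟨mem_range.2 hn, hu⟩, rfl⟩)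
  obtain ⟨k, hk, hset⟩ := sub_cover hPlc fun n hn => mem_range.1 (mem_filter.1 hn).1
  have hrow := List.all_eq_true.1 (List.all_eq_true.1 rows_ok h (List.mem_range.2 hh)) k (List.mem_range.2 hk)
  generalize hrd : subRow.getD (67 * h + k) (0, 0, 0, 0, [], []) = row at hrow
  obtain ⟨rh, rS, d0, d1, one, od⟩ := row
  generalize subMask.getD k 0 = S at hrow hset
  simp only [Bool.and_eq_true, Bool.or_eq_true, Nat.beq_eq, Nat.ble_eq, List.any_eq_true, List.all_eq_true,
    List.mem_range, Nat.blt_eq, and_assoc, tb_eq, Bool.not_eq_true'] at hrow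
  obtain ⟨-, -, hd0, hd1, ⟨l, -, hl, hcrit⟩, hone, hod, hodd⟩ := hrow
  have hSP : ∀ n < 16, S.testBit n = true → eI h n ∈ P := fun n hn hb => by
    have : n ∈ Pl := by rw [← hset]; exact mem_filter.2 ⟨mem_range.2 hn, hb⟩
    exact (mem_filter.1 this).2
  have hPS : ∀ u ∈ P, ∃ n < 16, S.testBit n = true ∧ eI h n = u := fun u hu => by
    obtain ⟨n, hn, rfl⟩ := hcov u hu
    have : n ∈ Pl := mem_filter.2 ⟨mem_range.2 hn, hu⟩
    rw [← hset] at this
    exact ⟨n, hn, (mem_filter.1 this).2, rfl⟩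
  have hmask : ∀ (L : List ℕ) (X : ℕ → List ℕ), (∀ u < 64, ∀ v < 512, app (X u) v = v → (L.getD u 0).testBit v = true) →
      ∀ v < 512, (∀ u ∈ P, app (X u) v = v) → (fixM L h S).testBit v = true := by
    intro L X hX v hv hfix
    have key : ∀ l : List ℕ, (∀ n ∈ l, n < 16) →
        (l.foldr (fun n F => bif tb S n then L.getD (eI h n) 0 &&& F else F) (2 ^ 512 - 1)).testBit v = true := by
      intro l
      induction l with
      | nil => intro _; rw [List.foldr_nil, Nat.testBit_two_pow_sub_one]; simpa using hv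
      | cons n l ih =>
        intro hl
        rw [List.foldr_cons, tb_eq]
        have hn := hl n List.mem_cons_self
        cases hb : S.testBit n
        · exact ih fun m hm => hl m (List.mem_cons_of_mem _ hm)
        · rw [cond_true, Nat.testBit_and, ih fun m hm => hl m (List.mem_cons_of_mem _ hm),
            hX _ (hIlt h hh n hn) v hv (hfix _ (hSP n hn hb))]
          rfl
    exact key _ fun n hn => List.mem_range.1 hn
  have hfm := fix_masks
  simp only [List.all_eq_true, Bool.and_eq_true, Bool.or_eq_true, Bool.not_eq_true', List.mem_range, tb_eq] at hfm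
  have hfmX : ∀ u < 64, ∀ v < 512, app (ux u) v = v → (fixX.getD u 0).testBit v = true := fun u hu v hv e =>
    (hfm u hu v hv).1.resolve_left (by rw [e, Nat.beq_refl]; simp)
  have hfmY : ∀ u < 64, ∀ v < 512, app (uy u) v = v → (fixY.getD u 0).testBit v = true := fun u hu v hv e =>
    (hfm u hu v hv).2.resolve_left (by rw [e, Nat.beq_refl]; simp)
  set G0 := (range 512).filter fun x => ∀ u ∈ P, app (ux u) x = x with hG0
  have hG0c : G0.card ≤ 2 ^ d0 := by
    refine le_trans (card_le_card fun x hx => ?_) (countP_eq_card (f := fun v => (fixM fixX h S).testBit v) 512 ▸ hd0)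
    rw [hG0, mem_filter, mem_range] at hx
    exact mem_filter.2 ⟨mem_range.2 hx.1, hmask fixX ux hfmX x hx.1 hx.2⟩
  set B := (range 512).filter fun x => (∀ u ∈ P, app (ux u) x = x) ∧ ∀ w ∈ W, mulS w x = 0 with hBdef
  set Y := (range 512).filter fun y => (∀ u ∈ P, app (uy u) y = y) ∧ ∀ w ∈ W, par9 (w &&& y) = 0 with hYdef
  have hB0 : B.card ≤ 2 ^ d0 := le_trans (card_le_card fun x hx => by
    rw [hBdef, mem_filter] at hx; exact mem_filter.2 ⟨hx.1, hx.2.1⟩) hG0c
  have hY1 : Y.card ≤ 2 ^ d1 := by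
    refine le_trans (card_le_card fun x hx => ?_) (countP_eq_card (f := fun v => (fixM fixY h S).testBit v) 512 ▸ hd1)
    rw [hYdef, mem_filter, mem_range] at hx
    exact mem_filter.2 ⟨mem_range.2 hx.1, hmask fixY uy hfmY x hx.1 hx.2.1⟩
  have hWG : W ⊆ G0 := fun w hw => mem_filter.2 ⟨mem_range.2 (hWm w hw).1, fun u hu => hPW u hu w hw⟩
  have hPcard : P.card = 2 ^ l := by
    rw [← hcardP, ← hset, ← hl, size16, countP_eq_card, setOf16]
    simp only [tb_eq]
  have hVcard : Nat.card V = W.card * P.card := by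
    rw [← Nat.card_eq_finsetCard W, ← Nat.card_eq_finsetCard P, ← Nat.card_prod]
    choose sec hsec1 hsec2 using fun u : P => (hPm u.1 u.2).2
    refine (Nat.card_congr (Equiv.ofBijective
      (fun p : W × P => (⟨qe (p.1.1 ^^^ sec p.2) * ue p.2.1, by
        rw [U.qe_xor, mul_assoc]; exact mul_mem (hWm _ p.1.2).2 (hsec2 _)⟩ : V)) ⟨fun a b e => ?_, fun g => ?_⟩)).symm
    · obtain ⟨e1, e2⟩ := U.su_inj (Nat.xor_lt_two_pow (n := 9) (hWm _ a.1.2).1 (hsec1 _))
        (Nat.xor_lt_two_pow (n := 9) (hWm _ b.1.2).1 (hsec1 _)) (hPm _ a.2.2).1 (hPm _ b.2.2).1 (congrArg Subtype.val e)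
      have h2 : a.2 = b.2 := Subtype.ext e2
      rw [h2] at e1
      refine Prod.ext (Subtype.ext ?_) h2
      have := congrArg (· ^^^ sec b.2) e1
      simpa [Nat.xor_assoc] using this
    · obtain ⟨s, hs, u, hu, hg⟩ := hV g.2
      have huP : u ∈ P := mem_filter.2 ⟨mem_range.2 hu, s, hs, hg ▸ g.2⟩
      have hw : s ^^^ sec ⟨u, huP⟩ ∈ W := by
        refine mem_filter.2 ⟨mem_range.2 (Nat.xor_lt_two_pow (n := 9) hs (hsec1 _)), ?_⟩
        have h1 : qe s * ue u * (qe (sec ⟨u, huP⟩) * ue u)⁻¹ ∈ V := mul_mem (hg ▸ g.2) (inv_mem (hsec2 ⟨u, huP⟩))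
        rw [mul_inv_rev, mul_assoc, mul_inv_cancel_left] at h1
        have hq : (qe (sec ⟨u, huP⟩))⁻¹ = qe (sec ⟨u, huP⟩) :=
          inv_eq_of_mul_eq_one_right (by rw [← U.qe_xor, Nat.xor_self, qe_zero])
        rwa [hq, ← U.qe_xor] at h1
      refine ⟨(⟨_, hw⟩, ⟨u, huP⟩), Subtype.ext ?_⟩
      show qe (s ^^^ sec ⟨u, huP⟩ ^^^ sec ⟨u, huP⟩) * ue u = _
      rw [Nat.xor_assoc, Nat.xor_self, Nat.xor_zero, hg]
  obtain ⟨e, he⟩ : ∃ e, Nat.card V = 2 ^ e := by
    have hp : IsPGroup 2 V := fun g => ⟨1, Subtype.ext (by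
      rw [pow_one, pow_two]; exact hsq _ g.2)⟩
    haveI : Fact (Nat.Prime 2) := ⟨Nat.prime_two⟩
    exact hp.exists_card_eq
  obtain ⟨q, -, hWcard⟩ := (Nat.dvd_prime_pow Nat.prime_two).1 (⟨P.card, by rw [← hVcard, he]⟩ : W.card ∣ 2 ^ e)
  have hq0 : 2 ^ q ≤ 2 ^ d0 := hWcard ▸ (card_le_card hWG).trans hG0c
  have hqd : q ≤ d0 := (Nat.pow_le_pow_iff_right (by norm_num)).1 hq0
  have hqne : q + l ≠ 0 := fun h0 => by
    refine hne (Subgroup.card_eq_one.1 ?_)
    rw [hVcard, hWcard, hPcard, show q = 0 by omega, show l = 0 by omega]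
    norm_num
  have hwit : ∀ (T : Finset ℕ), 0 ∈ T → 2 < T.card → ∃ a ∈ T, ∃ b ∈ T, a ≠ 0 ∧ b ≠ 0 ∧ a ≠ b := fun T h0 hT => by
    obtain ⟨a, ha, b, hb, hab⟩ := one_lt_card.1 (show 1 < (T.erase 0).card by rw [card_erase_of_mem h0]; omega)
    rw [mem_erase] at ha hb
    exact ⟨a, ha.2, b, hb.2, ha.1, hb.1, hab⟩
  have hwit1 : ∀ (T : Finset ℕ), 1 < T.card → ∃ a ∈ T, a ≠ 0 := fun T hT => by
    obtain ⟨a, ha, b, hb, hab⟩ := one_lt_card.1 hT
    by_cases h0 : a = 0
    · exact ⟨b, hb, fun hb0 => hab (h0.trans hb0.symm)⟩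
    · exact ⟨a, ha, h0⟩
  have hBlt : ∀ b ∈ B, b < 512 := fun b hb => mem_range.1 (mem_filter.1 hb).1
  have hYlt : ∀ b ∈ Y, b < 512 := fun b hb => mem_range.1 (mem_filter.1 hb).1
  have h0B : (0 : ℕ) ∈ B := mem_filter.2 ⟨mem_range.2 (by norm_num), fun u _ => app_zero _,
    fun w hw => by rw [mulS_comm (hWm w hw).1 (by norm_num), mulS, app_zero]⟩
  obtain ⟨b1, b2, b3, b4⟩ := ann_bounds W B (fun w hw => (hWm w hw).1) hBlt (fun w hw b hb => (mem_filter.1 hb).2.2 w hw)
  have hBann : B.card ≤ 2 ^ annB q := by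
    unfold annB
    rcases eq_or_ne q 0 with h0 | h0
    · rw [h0, Nat.beq_refl, cond_true]
      exact le_trans (card_le_card fun b hb => mem_range.2 (hBlt b hb)) (le_of_eq (card_range 512))
    rw [show Nat.beq q 0 = false from Bool.eq_false_iff.2 fun e => h0 (Nat.eq_of_beq_eq_true e), cond_false]
    rcases eq_or_ne q 1 with h1 | h1
    · rw [h1, Nat.beq_refl, cond_true]
      exact b1 (hwit1 W (by rw [hWcard, h1]; norm_num))
    rw [show Nat.beq q 1 = false from Bool.eq_false_iff.2 fun e => h1 (Nat.eq_of_beq_eq_true e), cond_false]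
    have h4 : 2 ^ 2 ≤ W.card := hWcard ▸ Nat.pow_le_pow_right (by norm_num) (by omega)
    rcases eq_or_ne q 2 with h2 | h2
    · rw [h2, Nat.beq_refl, cond_true]
      exact b2 (hwit W hWc.1 (by omega))
    rw [show Nat.beq q 2 = false from Bool.eq_false_iff.2 fun e => h2 (Nat.eq_of_beq_eq_true e), cond_false]
    rcases Nat.lt_or_ge 5 q with h5 | h5
    · rw [show Nat.ble q 5 = false from Bool.eq_false_iff.2 fun e => by have := Nat.le_of_ble_eq_true e; omega, cond_false]
      by_contra hcon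
      have := b3 (hwit1 B (by simpa using hcon))
      have : 2 ^ 6 ≤ W.card := hWcard ▸ Nat.pow_le_pow_right (by norm_num) (by omega)
      omega
    · rw [Nat.ble_eq_true_of_le h5, cond_true]
      by_contra hcon
      have := b4 (hwit B h0B (by simpa using hcon))
      have : 2 ^ 3 ≤ W.card := hWcard ▸ Nat.pow_le_pow_right (by norm_num) (by omega)
      omega
  have hYq : Y.card ≤ 2 ^ (9 - q) := by
    have hYc : Cls Y := by
      refine ⟨mem_filter.2 ⟨mem_range.2 (by norm_num), fun u _ => app_zero _, fun w _ => by rw [Nat.and_zero, par9, app_zero]⟩,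
        fun a ha b hb => ?_⟩
      rw [hYdef, mem_filter, mem_range] at ha hb ⊢
      exact ⟨Nat.xor_lt_two_pow (n := 9) ha.1 hb.1, fun u hu => by rw [app_add, ha.2.1 u hu, hb.2.1 u hu],
        fun w hw => by rw [Nat.and_xor_distrib_left, par9_add, ha.2.2 w hw, hb.2.2 w hw, Nat.xor_self]⟩
    have hpb := perp_bound W Y hWc hYc (fun w hw => (hWm w hw).1) hYlt fun w hw y hy => (mem_filter.1 hy).2.2 w hw
    have hq9 : q ≤ 9 := by
      have : W.card ≤ 512 := (card_le_card fun w hw => mem_range.2 (hWm w hw).1).trans (le_of_eq (card_range 512))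
      rw [hWcard, show (512 : ℕ) = 2 ^ 9 from rfl] at this
      exact (Nat.pow_le_pow_iff_right (by norm_num)).1 this
    rw [hWcard, show (512 : ℕ) = 2 ^ q * 2 ^ (9 - q) by rw [← pow_add, Nat.add_sub_cancel' hq9]; norm_num] at hpb
    exact Nat.le_of_mul_le_mul_left hpb (Nat.two_pow_pos q)
  have hfix : Nat.card (fixV U (V : Set PG)) ≤ 2 ^ capB q d0 d1 := by
    rw [U.fixV_bridge]
    refine le_trans (U.fix_layers (V : Set PG) W P hWm hPm) ?_
    rw [capB, add_assoc, add_assoc, pow_add, pow_add, pow_add]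
    refine Nat.mul_le_mul ?_ (Nat.mul_le_mul ?_ (Nat.mul_le_mul ?_ (le_of_eq (pow_one 2).symm)))
    · rcases eq_or_ne q 0 with h0 | h0
      · rw [h0, Nat.beq_refl, cond_true]; split_ifs <;> norm_num
      · rw [show Nat.beq q 0 = false from Bool.eq_false_iff.2 fun e => h0 (Nat.eq_of_beq_eq_true e), cond_false,
          if_pos (hwit1 W (by rw [hWcard]; exact Nat.one_lt_two_pow h0))]
        norm_num
    · rcases le_total (annB q) d0 with hle | hle
      · rw [min_eq_left hle]; exact hBann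
      · rw [min_eq_right hle]; exact hB0
    · rcases le_total (9 - q) d1 with hle | hle
      · rw [min_eq_left hle]; exact hYq
      · rw [min_eq_right hle]; exact hY1
  have hc' := hcrit
  simp only [rowOK, List.all_eq_true, List.mem_range, Bool.or_eq_true, Nat.beq_eq, Nat.blt_eq, Bool.and_eq_true,
    Nat.ble_eq, Bool.not_eq_true', List.isEmpty_eq_false_iff] at hc'
  have hVc : Nat.card V = 2 ^ (q + l) := by rw [hVcard, hWcard, hPcard, pow_add]
  rcases (hc' q (by omega)).resolve_left hqne with hfirst | ⟨hwitc, hsecond⟩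
  · left
    rw [hVc]
    calc 4 * (2 ^ (q + l)) ^ 2 * Nat.card (fixV U (V : Set PG)) ≤ 2 ^ 2 * (2 ^ (q + l)) ^ 2 * 2 ^ capB q d0 d1 :=
          Nat.mul_le_mul le_rfl hfix
      _ = 2 ^ (2 * (q + l + 1) + capB q d0 d1) := by rw [← pow_mul, ← pow_add, ← pow_add]; congr 1; omega
      _ < 2 ^ 20 := Nat.pow_lt_pow_right (by norm_num) hfirst
  right
  suffices hr : ∃ r ∈ W, isOne r = true by
    obtain ⟨r, hr, hr1⟩ := hr
    refine ⟨qe r, (hWm r hr).2, U.one_card hr1, ?_⟩
    rw [hVc]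
    calc 2 * 2 ^ (q + l) * Nat.card (fixV U (V : Set PG)) ≤ 2 ^ 1 * 2 ^ (q + l) * 2 ^ capB q d0 d1 :=
          Nat.mul_le_mul le_rfl hfix
      _ = 2 ^ (capB q d0 d1 + q + l + 1) := by rw [← pow_add, ← pow_add]; congr 1; omega
      _ ≤ 2 ^ 13 := Nat.pow_le_pow_right (by norm_num) hsecond
  have hG : ∀ r, r < 512 → (∀ n < 16, S.testBit n = false ∨ app (ux (eI h n)) r = r) → r ∈ G0 := fun r hr hf =>
    mem_filter.2 ⟨mem_range.2 hr, fun u hu => by
      obtain ⟨n, hn, hb, rfl⟩ := hPS u hu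
      exact (hf n hn).resolve_left (by rw [hb]; simp)⟩
  rcases hwitc with ⟨hqeq, hne1⟩ | ⟨hqeq, hne1⟩
  · have hEq : W = G0 := eq_of_subset_of_card_le hWG (hWcard ▸ hqeq ▸ hG0c)
    obtain ⟨r, hr⟩ := List.exists_mem_of_ne_nil _ hne1
    obtain ⟨hr1, hr2, hr3⟩ := hone r hr
    exact ⟨r, hEq ▸ hG r hr2 hr3, hr1⟩
  · by_contra hnone
    push Not at hnone
    obtain ⟨hzero, hlen⟩ := hodd.resolve_left (by simp [hne1])
    have hmem : ∀ r ∈ od, r ∈ G0 ∧ r ∉ W := fun r hr => by
      obtain ⟨hr1, hr2, hr3⟩ := hod r hr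
      exact ⟨hG r hr2 hr3, fun hW' => hnone r hW' hr1⟩
    have hG0cls : ∀ a ∈ G0, ∀ b ∈ G0, a ^^^ b ∈ G0 := fun a ha b hb => by
      rw [hG0, mem_filter, mem_range] at ha hb ⊢
      exact ⟨Nat.xor_lt_two_pow (n := 9) ha.1 hb.1, fun u hu => by rw [app_add, ha.2 u hu, hb.2 u hu]⟩
    have two : ∀ a ∈ G0, a ∉ W → ∀ b ∈ G0, b ∉ W → a ^^^ b ∈ W := by
      intro a ha haW b hb hbW
      by_contra habW
      have hsub : W ∪ W.image (a ^^^ ·) ∪ W.image (b ^^^ ·) ⊆ G0 := by
        refine union_subset (union_subset hWG ?_) ?_ <;>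
          (intro t ht; obtain ⟨w, hw, rfl⟩ := mem_image.1 ht)
        · exact hG0cls a ha w (hWG hw)
        · exact hG0cls b hb w (hWG hw)
      have hinj : ∀ c : ℕ, (W.image (c ^^^ ·)).card = W.card := fun c =>
        card_image_of_injective _ fun x y e => by
          have := congrArg (fun t => c ^^^ t) e
          simpa [← Nat.xor_assoc] using this
      have d1' : Disjoint W (W.image (a ^^^ ·)) := disjoint_left.2 fun t ht ht' => by
        obtain ⟨w, hw, rfl⟩ := mem_image.1 ht'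
        exact haW (by simpa [Nat.xor_assoc] using hWc.2 _ ht w hw)
      have d2' : Disjoint (W ∪ W.image (a ^^^ ·)) (W.image (b ^^^ ·)) := disjoint_left.2 fun t ht ht' => by
        obtain ⟨w, hw, rfl⟩ := mem_image.1 ht'
        rcases mem_union.1 ht with ht | ht
        · exact hbW (by simpa [Nat.xor_assoc] using hWc.2 _ ht w hw)
        · obtain ⟨w', hw', e'⟩ := mem_image.1 ht
          have e2 : a ^^^ b = w ^^^ w' := by
            have := congrArg (fun t => t ^^^ b ^^^ w') e'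
            simpa [Nat.xor_assoc, Nat.xor_comm, Nat.xor_left_comm] using this
          exact habW (e2 ▸ hWc.2 w hw w' hw')
      have := card_le_card hsub
      rw [card_union_of_disjoint d2', card_union_of_disjoint d1', hinj, hinj] at this
      have h2q : 2 ^ d0 = 2 ^ q * 2 := by rw [← hqeq, pow_succ]
      have := Nat.two_pow_pos q
      omega
    have par : ∀ L : List ℕ, (∀ r ∈ L, r ∈ G0 ∧ r ∉ W) →
        L.foldr (fun a b => a ^^^ b) 0 ∈ G0 ∧ (L.foldr (fun a b => a ^^^ b) 0 ∈ W ↔ L.length % 2 = 0) := by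
      intro L
      induction L with
      | nil => intro _; exact ⟨hWG hWc.1, iff_of_true hWc.1 rfl⟩
      | cons a L ih =>
        intro hL
        obtain ⟨i1, i2⟩ := ih fun r hr => hL r (List.mem_cons_of_mem _ hr)
        obtain ⟨a1, a2⟩ := hL a List.mem_cons_self
        rw [List.foldr_cons, List.length_cons]
        refine ⟨hG0cls a a1 _ i1, ?_⟩
        by_cases hx : L.foldr (fun a b => a ^^^ b) 0 ∈ W
        · have := i2.1 hx
          refine iff_of_false (fun hcon => a2 ?_) (by omega)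
          simpa [Nat.xor_assoc] using hWc.2 _ hcon _ hx
        · have : ¬ L.length % 2 = 0 := fun e => hx (i2.2 e)
          exact iff_of_true (two a a1 a2 _ i1 hx) (by omega)
    have := (par od hmem).2.1 (by rw [hzero]; exact hWc.1)
    omega

end UAct

end CfsgU6Mod
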