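/-
Kernel checks for the odd primes and for the orbit trees.
-/
import Cfsg.Agent.Lib.U6Mod.CombChecks
import Cfsg.Agent.Lib.U6Mod.OddData
import Cfsg.Agent.Lib.U6Mod.StabData

set_option autoImplicit false
set_option maxRecDepth 100000

namespace CfsgU6Mod

/-- A word of the three-group of three-cycles. -/
def pw (j : ℕ) : List ℕ := (List.replicate (j / 3) [0, 1]).flatten ++ (List.replicate (j % 3) [3, 4]).flatten

/-- The product in that group. -/
def mul9 (j k : ℕ) : ℕ := 3 * ((j / 3 + k / 3) % 3) + (j % 3 + k % 3) % 3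

/-- A word of the Sylow three-subgroup. -/
def w3 (j x : ℕ) : List ℕ := dW x ++ pw j

/-- A fixed-space certificate for a word. -/
def certOK (w : List ℕ) (bound : ℕ) (c : ℕ × ℕ × ℕ × ℕ) : Bool :=
  Nat.ble c.1 bound && ((unp 20 20 c.2.2.1).all fun a => Nat.blt a (2 ^ c.1)) &&
    (List.range 20).all fun i =>
      Nat.beq ((1 <<< i) ^^^ app (unp 20 20 c.2.2.2) ((1 <<< i) ^^^ appW (gA 9) w (1 <<< i)))
        (app (unp 20 c.1 c.2.1) (app (unp 20 20 c.2.2.1) (1 <<< i)))

theorem pw_mul : ((List.range 9).all fun j => (pw j).all (fun i => Nat.blt i 5) && (List.range 9).all fun k =>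
    relOK (pw j ++ pw k) (pw (mul9 j k))) = true := by decide +kernel

theorem five_ok : (certOK fiveW 15 fiveC && fiveW.all (fun i => Nat.blt i 10) &&
    relOK (fiveW ++ fiveW ++ fiveW ++ fiveW ++ fiveW) []) = true := by decide +kernel

theorem seven_ok : (certOK sevenW 16 sevenC && sevenW.all (fun i => Nat.blt i 10) &&
    relOK (sevenW ++ sevenW ++ sevenW ++ sevenW ++ sevenW ++ sevenW ++ sevenW) []) = true := by decide +kernel

/-- The certificates of a block of the three-group. -/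
def blockOK (j : ℕ) : Bool := (List.range 81).all fun x =>
  (Nat.beq j 0 && Nat.beq x 0) || certOK (w3 j x) 13 ((threeC.getD j []).getD x (0, 0, 0, 0))

theorem block0 : blockOK 0 = true := by decide +kernel
theorem block1 : blockOK 1 = true := by decide +kernel
theorem block2 : blockOK 2 = true := by decide +kernel
theorem block3 : blockOK 3 = true := by decide +kernel
theorem block4 : blockOK 4 = true := by decide +kernel
theorem block5 : blockOK 5 = true := by decide +kernel
theorem block6 : blockOK 6 = true := by decide +kernel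
theorem block7 : blockOK 7 = true := by decide +kernel
theorem block8 : blockOK 8 = true := by decide +kernel

/-- A tree generator in layered coordinates. -/
def tg (k : ℕ) : List ℕ := bif Nat.blt k 9 then qc k else bif Nat.blt k 15 then gc (k - 9) else lowC.getD (k - 15) []

/-- An entry of a packed tree. -/
def ent (T n : ℕ) : ℕ := (T >>> (20 * n)) &&& (2 ^ 20 - 1)

/-- The vector is a listed representative. -/
def isRoot (v : ℕ) : Bool := rootCert.any fun e => Nat.beq e.1 v

/-- A tree on a slice of 1024 vectors. -/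
def treeOK (T base : ℕ) : Bool := (List.range 1024).all fun n => Nat.beq (base ^^^ n) 0 ||
  bif Nat.beq (ent T n >>> 15) 0 then isRoot (base ^^^ n)
  else Nat.blt ((ent T n >>> 10) &&& 31) 21 &&
    Nat.beq (app (tg ((ent T n >>> 10) &&& 31)) (base ^^^ n)) (base ^^^ (ent T n &&& 1023)) &&
    !Nat.beq (base ^^^ (ent T n &&& 1023)) 0 &&
    Nat.blt (ent T (ent T n &&& 1023) >>> 15) (ent T n >>> 15)

theorem low_ok : (Nat.beq lowC.length 6 && (List.range 6).all fun j =>
    (wLow.getD j []).all (fun k => Nat.blt k 10) && okC (lowC.getD j []) &&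
      (List.range 20).all fun i => Nat.beq (layW' (wLow.getD j []) (1 <<< i)) (app (lowC.getD j []) (1 <<< i))) = true := by
  decide +kernel

theorem tg_layers : ((List.range 21).all fun k => Nat.blt k 9 ||
    (((List.range 19).all fun i => Nat.blt (app (tg k) (1 <<< i)) (2 ^ 19)) &&
      (List.range 10).all fun i => Nat.blt (app (tg k) (1 <<< i)) (2 ^ 10))) = true := by decide +kernel

theorem treeX_ok : ((List.range 512).all fun x => Nat.beq x 0 ||
    bif Nat.beq (ent treeX x >>> 15) 0 then memN x rootX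
    else Nat.blt ((ent treeX x >>> 10) &&& 31) 21 && !Nat.blt ((ent treeX x >>> 10) &&& 31) 9 &&
      Nat.beq (xL (app (tg ((ent treeX x >>> 10) &&& 31)) (x <<< 10))) (ent treeX x &&& 1023) &&
      !Nat.beq (ent treeX x &&& 1023) 0 && Nat.blt (ent treeX (ent treeX x &&& 1023) >>> 15) (ent treeX x >>> 15)) = true := by
  decide +kernel

theorem treeA_ok : treeOK treeA (1 <<< 19) = true := by decide +kernel
theorem treeC_ok : treeOK treeC 0 = true := by decide +kernel
theorem treeB_ok : (Nat.beq rootX.length 3 && treeOK treeB0 (rootX.getD 0 0 <<< 10) &&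
    treeOK treeB1 (rootX.getD 1 0 <<< 10) && treeOK treeB2 (rootX.getD 2 0 <<< 10)) = true := by decide +kernel

/-- A word applied to all basis vectors. -/
def imgs (w : List ℕ) : List ℕ := (List.range 20).map fun i => appW (gA 9) w (1 <<< i)

theorem root_ok : (rootCert.all fun e => e.2.1.all (fun k => Nat.blt k 10) &&
    Nat.blt e.2.2.1 9 && Nat.blt e.2.2.2.1 81 && Nat.blt e.2.2.2.2.1 9 && Nat.blt e.2.2.2.2.2 81 &&
    !(Nat.beq e.2.2.1 0 && Nat.beq e.2.2.2.1 0) && !(Nat.beq e.2.2.2.2.1 0 && Nat.beq e.2.2.2.2.2 0) &&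
    beqC (imgs (w3 e.2.2.1 e.2.2.2.1 ++ (w3 e.2.2.1 e.2.2.2.1 ++ w3 e.2.2.1 e.2.2.2.1))) idC &&
    beqC (imgs (w3 e.2.2.2.2.1 e.2.2.2.2.2 ++ (w3 e.2.2.2.2.1 e.2.2.2.2.2 ++ w3 e.2.2.2.2.1 e.2.2.2.2.2))) idC &&
    beqC (imgs (w3 e.2.2.1 e.2.2.2.1 ++ w3 e.2.2.2.2.1 e.2.2.2.2.2))
      (imgs (w3 e.2.2.2.2.1 e.2.2.2.2.2 ++ w3 e.2.2.1 e.2.2.2.1)) &&
    !beqC (imgs (w3 e.2.2.2.2.1 e.2.2.2.2.2)) (imgs (w3 e.2.2.1 e.2.2.2.1)) &&
    !beqC (imgs (w3 e.2.2.2.2.1 e.2.2.2.2.2)) (imgs (w3 e.2.2.1 e.2.2.2.1 ++ w3 e.2.2.1 e.2.2.2.1)) &&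
    Nat.beq (appW (gA 9) (w3 e.2.2.1 e.2.2.2.1) (appW (gA 9) e.2.1 (app layT e.1))) (appW (gA 9) e.2.1 (app layT e.1)) &&
    Nat.beq (appW (gA 9) (w3 e.2.2.2.2.1 e.2.2.2.2.2) (appW (gA 9) e.2.1 (app layT e.1)))
      (appW (gA 9) e.2.1 (app layT e.1))) = true := by decide +kernel

end CfsgU6Mod
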