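/-
Fixed spaces of elements of prime order.
-/
import Cfsg.Agent.Lib.U6Mod.Elem
import Cfsg.Agent.Lib.U6Mod.OddChecks
import Cfsg.Agent.S0280

set_option autoImplicit false
set_option maxRecDepth 100000

namespace CfsgU6Mod

open CfsgLib.G24 CfsgLib.SUSixSub Subgroup

theorem card_PG : Nat.card PG = 9196830720 := by
  have hK : Fintype.card K = 2 ^ 2 := by rw [K.card_eq]; norm_num
  have h := Cfsg.Agent.S0280.result hK 6 (by norm_num)
  rw [show Nat.gcd 6 (2 + 1) = 3 from rfl] at h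
  norm_num [Finset.prod_range_succ, Nat.even_iff] at h ⊢
  show Nat.card (Cfsg.PSU 6 K 2) = _
  linarith

theorem fact_PG : (9196830720 : ℕ).factorization 2 = 15 ∧ (9196830720 : ℕ).factorization 3 = 6 ∧
    (9196830720 : ℕ).factorization 5 = 1 ∧ (9196830720 : ℕ).factorization 7 = 1 := by
  refine ⟨?_, ?_, ?_, ?_⟩
  · rw [show (9196830720 : ℕ) = 2 ^ 15 * 280665 by norm_num, Nat.factorization_mul (by norm_num) (by norm_num),
      Finsupp.add_apply, Nat.Prime.factorization_pow Nat.prime_two, Finsupp.single_eq_same,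
      Nat.factorization_eq_zero_of_not_dvd (by norm_num)]
  · rw [show (9196830720 : ℕ) = 3 ^ 6 * 12615680 by norm_num, Nat.factorization_mul (by norm_num) (by norm_num),
      Finsupp.add_apply, Nat.Prime.factorization_pow Nat.prime_three, Finsupp.single_eq_same,
      Nat.factorization_eq_zero_of_not_dvd (by norm_num)]
  · rw [show (9196830720 : ℕ) = 5 ^ 1 * 1839366144 by norm_num, Nat.factorization_mul (by norm_num) (by norm_num),
      Finsupp.add_apply, Nat.Prime.factorization_pow Nat.prime_five, Finsupp.single_eq_same,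
      Nat.factorization_eq_zero_of_not_dvd (by norm_num)]
  · rw [show (9196830720 : ℕ) = 7 ^ 1 * 1313832960 by norm_num, Nat.factorization_mul (by norm_num) (by norm_num),
      Finsupp.add_apply, Nat.Prime.factorization_pow (by norm_num : Nat.Prime 7), Finsupp.single_eq_same,
      Nat.factorization_eq_zero_of_not_dvd (by norm_num)]

/-- A p-subgroup is conjugate into a subgroup of full p-order. -/
theorem conj_into {G : Type*} [Group G] [Finite G] {p : ℕ} [Fact p.Prime] {P Q : Subgroup G}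
    (hP : Nat.card P = p ^ (Nat.card G).factorization p) (hQ : IsPGroup p Q) :
    ∃ h : G, ∀ q ∈ Q, h * q * h⁻¹ ∈ P := by
  obtain ⟨T, hT⟩ := hQ.exists_le_sylow
  obtain ⟨h, hh⟩ := MulAction.exists_smul_eq G T (Sylow.ofCard P hP)
  refine ⟨h, fun q hq => ?_⟩
  have e := congrArg (fun S : Sylow p G => (S : Subgroup G)) hh
  simp only [Sylow.coe_subgroup_smul] at e
  show _ ∈ ((Sylow.ofCard P hP : Sylow p G) : Subgroup G)
  rw [← e]
  exact Subgroup.mem_map_of_mem _ (hT hq)

namespace UAct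

variable {M : Type*} [AddCommGroup M] (U : UAct M)

theorem wP_append (u v : List ℕ) : wP (u ++ v) = wP u * wP v := by
  rw [wP, wP, wP, wG_append, QuotientGroup.mk_mul]

theorem wP_nil : wP [] = 1 := QuotientGroup.mk_one _

theorem wP_rel {u v : List ℕ} (h : relOK u v = true) : wP u = wP v := (QuotientGroup.eq.2 (rel_center h)).symm

include U in
theorem wP_ext {u v : List ℕ} (h : ∀ m, U.wA u m = U.wA v m) : wP u = wP v := by
  refine (inv_mul_eq_one.1 (U.actQ_faith (g := (wP v)⁻¹ * wP u) fun m => ?_)).symm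
  rw [U.actQ_mul, show wP u = QuotientGroup.mk (wG u) from rfl, U.actQ_mk, show U.act (wG u) m = U.wA u m from rfl, h,
    show U.wA v m = U.act (wG v) m from rfl, ← U.actQ_mk, ← U.actQ_mul, show (QuotientGroup.mk (wG v) : PG) = wP v from rfl,
    inv_mul_cancel, U.actQ_one]

/-- The stabiliser of a vector. -/
def stabM (m : M) : Subgroup PG where
  carrier := {g | U.actQ g m = m}
  one_mem' := U.actQ_one m
  mul_mem' {a b} (ha : U.actQ a m = m) (hb : U.actQ b m = m) := by show U.actQ (a * b) m = m; rw [U.actQ_mul, hb, ha]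
  inv_mem' {a} (ha : U.actQ a m = m) := by
    show U.actQ a⁻¹ m = m
    conv_lhs => rw [← ha]
    rw [← U.actQ_mul, inv_mul_cancel, U.actQ_one]

theorem fixV_le {g q : PG} (h : g ∈ zpowers q) : Nat.card (fixV U {q}) ≤ Nat.card (fixV U {g}) := by
  have := U.finite_M
  refine Nat.card_mono (Set.toFinite _) fun m hm => ?_
  intro x hx
  rw [Set.mem_singleton_iff.1 hx]
  exact (zpowers_le.2 (show q ∈ U.stabM m from hm q rfl)) h

theorem fixV_conj (h g : PG) : Nat.card (fixV U {h * g * h⁻¹}) = Nat.card (fixV U {g}) := by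
  refine (Nat.card_congr ((U.actQ h).toEquiv.subtypeEquiv fun m => ?_)).symm
  constructor
  · rintro hm _ rfl
    show U.actQ (h * g * h⁻¹) (U.actQ h m) = U.actQ h m
    rw [← U.actQ_mul, inv_mul_cancel_right, U.actQ_mul, hm g rfl]
  · intro hm x hx
    rw [Set.mem_singleton_iff.1 hx]
    have e : U.actQ (h * g * h⁻¹) (U.actQ h m) = U.actQ h m := hm _ rfl
    rw [← U.actQ_mul, inv_mul_cancel_right, U.actQ_mul] at e
    exact (U.actQ h).injective e

theorem unp20_lt : ∀ (n N : ℕ), ∀ c ∈ unp 20 n N, c < 2 ^ 20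
  | 0, _, c, hc => by simp [unp] at hc
  | n + 1, N, c, hc => by
    rw [unp, List.mem_cons] at hc
    rcases hc with rfl | hc
    · exact Nat.lt_succ_of_le Nat.and_le_right
    · exact unp20_lt n _ c hc

theorem cert_bound {w : List ℕ} (hw : ∀ k ∈ w, k < 10) {b : ℕ} {c : ℕ × ℕ × ℕ × ℕ} (h : certOK w b c = true) :
    Nat.card (fixV U {wP w}) ≤ 2 ^ b := by
  simp only [certOK, Bool.and_eq_true, List.all_eq_true, Nat.ble_eq, Nat.blt_eq, Nat.beq_eq, List.mem_range] at h
  obtain ⟨⟨hk, hE⟩, hid⟩ := h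
  generalize unp 20 20 c.2.2.2 = R at *
  generalize unp 20 20 c.2.2.1 = E at *
  generalize unp 20 c.1 c.2.1 = B at *
  have hid' : ∀ z < 2 ^ 20, z ^^^ app R (z ^^^ appW (gA 9) w z) = app B (app E z) :=
    ext_bits (· ^^^ ·) (fun z => z ^^^ app R (z ^^^ appW (gA 9) w z)) (fun z => app B (app E z)) 20
      (fun a _ b _ => by simp only [appW_add, app_add]; ac_rfl) (fun _ _ _ _ => by simp only [app_add])
      (by simp [app_zero, appW_zero]) hid
  choose code hcode1 hcode2 using U.ψ_surj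
  have key : ∀ m : fixV U {wP w}, app B (app E (code m)) = code m := fun m => by
    obtain ⟨h1, h2⟩ := U.word_rep hw (hcode1 m)
    have hm : U.wA w (m : M) = m := by
      have := m.2 (wP w) rfl
      exact (U.actQ_mk (wG w) _).symm.trans this
    have hf : appW (gA 9) w (code m) = code m :=
      U.ψ_inj h1 (hcode1 m) (by rw [← h2, hcode2, hm])
    rw [← hid' _ (hcode1 m), hf, Nat.xor_self, app_zero, Nat.xor_zero]
  refine le_trans ?_ (Nat.pow_le_pow_right (by norm_num) hk)
  rw [← Nat.card_fin (2 ^ c.1)]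
  refine Nat.card_le_card_of_injective (fun m => ⟨app E (code m), app_lt E c.1 hE _⟩) fun a b e => Subtype.ext ?_
  have e' : app E (code a) = app E (code b) := congrArg Fin.val e
  rw [← hcode2 a, ← hcode2 b, ← key a, ← key b, e']

include U in
theorem cert_ne {w : List ℕ} (hw : ∀ k ∈ w, k < 10) {b : ℕ} (hb : b < 20) {c : ℕ × ℕ × ℕ × ℕ}
    (h : certOK w b c = true) : wP w ≠ 1 := fun e => by
  have := U.finite_M
  have h1 := U.cert_bound hw h
  have hall : fixV U {wP w} = Set.univ := Set.eq_univ_of_forall fun m g hg => by rw [hg, e, U.actQ_one]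
  rw [hall, Nat.card_univ, U.card] at h1
  have := Nat.pow_lt_pow_right (a := 2) (by norm_num) hb
  omega

theorem wA_perm : ∀ (w : List ℕ), (∀ i ∈ w, i < 5) → ∀ x < 81, w.foldr (fun i x => sx i x) x < 81 ∧
    ∀ m, U.wA w (U.wA (dW x) m) = U.wA (dW (w.foldr (fun i x => sx i x) x)) (U.wA w m)
  | [], _, x, hx => ⟨hx, fun m => by rw [U.wA_nil, U.wA_nil]; rfl⟩
  | i :: w, h, x, hx => by
    obtain ⟨h1, h2⟩ := wA_perm w (fun j hj => h j (List.mem_cons_of_mem _ hj)) x hx
    have hi := h i List.mem_cons_self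
    refine ⟨((DiagAct.sig_facts (k := 0) hi (by norm_num)).2 _ h1).1, fun m => ?_⟩
    rw [U.cons_wA i w, h2, U.cons_wA i w m]
    exact U.diagAct.β_s i _ hi h1 _

theorem pw_lt {j : ℕ} (hj : j < 9) : ∀ i ∈ pw j, i < 5 := by
  have h := List.all_eq_true.1 pw_mul j (List.mem_range.2 hj)
  simp only [Bool.and_eq_true, List.all_eq_true, Nat.blt_eq] at h
  exact h.1

theorem dW_lt (x : ℕ) : ∀ k ∈ dW x, k < 10 := by
  intro k hk
  simp only [dW, List.mem_append, List.mem_replicate] at hk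
  omega

theorem w3_lt {j : ℕ} (hj : j < 9) (x : ℕ) : ∀ k ∈ w3 j x, k < 10 := fun k hk => by
  rcases List.mem_append.1 hk with h | h
  · exact dW_lt x k h
  · have := pw_lt hj k h; omega

include U in
theorem w3_mul {j k : ℕ} (hj : j < 9) (hk : k < 9) (x : ℕ) {y : ℕ} (hy : y < 81) :
    mul9 j k < 9 ∧ wP (w3 j x) * wP (w3 k y) = wP (w3 (mul9 j k) (add81 x ((pw j).foldr (fun i x => sx i x) y))) := by
  refine ⟨by unfold mul9; omega, ?_⟩
  rw [← wP_append]
  refine U.wP_ext fun m => ?_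
  have h := List.all_eq_true.1 pw_mul j (List.mem_range.2 hj)
  simp only [Bool.and_eq_true, List.all_eq_true, List.mem_range] at h
  rw [w3, w3, w3, U.wA_append, U.wA_append, U.wA_append, U.wA_append, (U.wA_perm _ (pw_lt hj) y hy).2, U.dW_add,
    ← U.wA_append (pw j), U.wA_rel (h.2 k hk)]

theorem block_all : ∀ j < 9, blockOK j = true := by
  intro j hj
  interval_cases j
  exacts [block0, block1, block2, block3, block4, block5, block6, block7, block8]

theorem w3_bound {j x : ℕ} (hj : j < 9) (hx : x < 81) (hne : ¬(j = 0 ∧ x = 0)) :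
    Nat.card (fixV U {wP (w3 j x)}) ≤ 2 ^ 13 ∧ wP (w3 j x) ≠ 1 := by
  have h := List.all_eq_true.1 (block_all j hj) x (List.mem_range.2 hx)
  simp only [Bool.or_eq_true, Bool.and_eq_true, Nat.beq_eq] at h
  have h := h.resolve_left hne
  exact ⟨U.cert_bound (w3_lt hj x) h, U.cert_ne (w3_lt hj x) (by norm_num) h⟩

theorem w3_zero : wP (w3 0 0) = 1 := wP_nil

theorem mul9_facts : (∀ j < 9, ∀ k < 9, mul9 j (mul9 k k) = 0 → j = k) ∧ (∀ k < 9, mul9 k (mul9 k k) = 0) ∧
    (∀ k < 9, mul9 0 k = k) ∧ pw 0 = [] := by decide +kernel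

include U in
theorem w3_inj {j k x y : ℕ} (hj : j < 9) (hk : k < 9) (hx : x < 81) (hy : y < 81)
    (e : wP (w3 j x) = wP (w3 k y)) : j = k ∧ x = y := by
  obtain ⟨m1, m2, m3, m4⟩ := mul9_facts
  have hk' : mul9 k k < 9 := by unfold mul9; omega
  have e1 := congrArg (fun g => wP (w3 0 (neg81 y)) * (g * wP (w3 (mul9 k k) 0))) e
  have z : ∀ i : ℕ, i < 9 → (pw i).foldr (fun i x => sx i x) 0 = 0 := by decide +kernel
  have a0 : ∀ v < 81, add81 v 0 = v := by decide +kernel
  rw [(U.w3_mul hj hk' x (by norm_num)).2, (U.w3_mul hk hk' y (by norm_num)).2, m2 k hk, z j hj, z k hk, a0 x hx,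
    a0 y hy, (U.w3_mul (j := 0) (by norm_num) (U.w3_mul hj hk' x (y := 0) (by norm_num)).1 _ hx).2,
    (U.w3_mul (j := 0) (k := 0) (by norm_num) (by norm_num) _ hy).2, m4, m3 _ (U.w3_mul hj hk' x (y := 0) (by norm_num)).1,
    m3 0 (by norm_num)] at e1
  simp only [List.foldr_nil] at e1
  have hc := (add81_cancel y (show 0 < 81 by norm_num)).1
  have h00 : add81 (neg81 y) y = 0 := by
    have := hc
    rwa [a0 y hy] at this
  rw [h00, w3_zero] at e1
  by_cases hne : mul9 j (mul9 k k) = 0 ∧ add81 (neg81 y) x = 0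
  · refine ⟨m1 j hj k hk hne.1, ?_⟩
    have := (add81_cancel y hx).2
    rw [hne.2, a0 y hy] at this
    exact this.symm
  · exact absurd e1 (U.w3_bound (U.w3_mul hj hk' x (y := 0) (by norm_num)).1 (add81_lt _ _) hne).2

/-- The products of the Sylow three-subgroup. -/
def S3set : Set PG := {g | ∃ j < 9, ∃ x < 81, g = wP (w3 j x)}

include U in
theorem S3_mul {a b : PG} (ha : a ∈ S3set) (hb : b ∈ S3set) : a * b ∈ S3set := by
  obtain ⟨j, hj, x, -, rfl⟩ := ha
  obtain ⟨k, hk, y, hy, rfl⟩ := hb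
  exact ⟨_, (U.w3_mul hj hk x hy).1, _, add81_lt _ _, (U.w3_mul hj hk x hy).2⟩

/-- The Sylow three-subgroup. -/
noncomputable def S3 : Subgroup PG where
  carrier := S3set
  one_mem' := ⟨0, by norm_num, 0, by norm_num, w3_zero.symm⟩
  mul_mem' := U.S3_mul
  inv_mem' := by
    intro g hg
    have hpow : ∀ n : ℕ, g ^ n ∈ S3set := by
      intro n
      induction n with
      | zero => exact ⟨0, by norm_num, 0, by norm_num, by rw [pow_zero, w3_zero]⟩
      | succ n ih => rw [pow_succ]; exact U.S3_mul ih hg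
    rw [← zpow_neg_one, ← zpow_mod_orderOf, ← Int.toNat_of_nonneg (Int.emod_nonneg _ (by
      exact_mod_cast (orderOf_pos g).ne')), zpow_natCast]
    exact hpow _

theorem card_S3 : Nat.card (S3 U) = 3 ^ 6 := by
  have e : Fin 9 × Fin 81 ≃ S3 U := Equiv.ofBijective
    (fun p => ⟨wP (w3 p.1 p.2), p.1, p.1.2, p.2, p.2.2, rfl⟩)
    ⟨fun a b h => by
      obtain ⟨h1, h2⟩ := U.w3_inj a.1.2 b.1.2 a.2.2 b.2.2 (congrArg Subtype.val h)
      exact Prod.ext (Fin.ext h1) (Fin.ext h2),
    fun ⟨g, j, hj, x, hx, hg⟩ => ⟨(⟨j, hj⟩, ⟨x, hx⟩), Subtype.ext hg.symm⟩⟩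
  rw [← Nat.card_congr e]; simp

theorem fix3 {g : PG} (hg : orderOf g = 3) : Nat.card (fixV U {g}) ≤ 2 ^ 13 := by
  haveI : Fact (Nat.Prime 3) := ⟨Nat.prime_three⟩
  obtain ⟨h, hh⟩ := conj_into (p := 3) (P := S3 U) (Q := zpowers g) (by rw [card_PG, fact_PG.2.1, U.card_S3])
    (IsPGroup.of_card (n := 1) (by rw [Nat.card_zpowers, hg, pow_one]))
  obtain ⟨j, hj, x, hx, e⟩ := hh g (mem_zpowers g)
  rw [← U.fixV_conj h g, e]
  refine (U.w3_bound hj hx ?_).1
  rintro ⟨rfl, rfl⟩
  rw [w3_zero, mul_inv_eq_one, mul_eq_left] at e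
  rw [e, orderOf_one] at hg
  norm_num at hg

theorem fix_prime {p b : ℕ} [Fact p.Prime] (hfac : (9196830720 : ℕ).factorization p = 1) {w : List ℕ}
    (hw : ∀ k ∈ w, k < 10) (hb : b < 20) {c : ℕ × ℕ × ℕ × ℕ} (hc : certOK w b c = true) (hpw : wP w ^ p = 1)
    {g : PG} (hg : orderOf g = p) : Nat.card (fixV U {g}) ≤ 2 ^ b := by
  have hord : orderOf (wP w) = p := orderOf_eq_prime hpw (U.cert_ne hw hb hc)
  obtain ⟨h, hh⟩ := conj_into (p := p) (P := zpowers (wP w)) (Q := zpowers g)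
    (by rw [card_PG, hfac, Nat.card_zpowers, hord, pow_one])
    (IsPGroup.of_card (n := 1) (by rw [Nat.card_zpowers, hg, pow_one]))
  have hmem := hh g (mem_zpowers g)
  have hle : zpowers (h * g * h⁻¹) = zpowers (wP w) := by
    refine eq_of_le_of_card_ge (zpowers_le.2 hmem) (le_of_eq ?_)
    rw [Nat.card_zpowers, Nat.card_zpowers, hord]
    rw [show h * g * h⁻¹ = MulAut.conj h g from rfl, MulEquiv.orderOf_eq, hg]
  rw [← U.fixV_conj h g]
  exact (U.fixV_le (hle ▸ mem_zpowers (wP w))).trans (U.cert_bound hw hc)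

theorem fix5 {g : PG} (hg : orderOf g = 5) : Nat.card (fixV U {g}) ≤ 2 ^ 15 := by
  haveI : Fact (Nat.Prime 5) := ⟨Nat.prime_five⟩
  have h := five_ok
  simp only [Bool.and_eq_true, List.all_eq_true, Nat.blt_eq] at h
  refine U.fix_prime fact_PG.2.2.1 h.1.2 (by norm_num) h.1.1 ?_ hg
  have := wP_rel h.2
  simp only [wP_append, wP_nil] at this
  rw [← this]; simp [pow_succ, mul_assoc]

theorem fix7 {g : PG} (hg : orderOf g = 7) : Nat.card (fixV U {g}) ≤ 2 ^ 16 := by
  haveI : Fact (Nat.Prime 7) := ⟨by norm_num⟩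
  have h := seven_ok
  simp only [Bool.and_eq_true, List.all_eq_true, Nat.blt_eq] at h
  refine U.fix_prime fact_PG.2.2.2 h.1.2 (by norm_num) h.1.1 ?_ hg
  have := wP_rel h.2
  simp only [wP_append, wP_nil] at this
  rw [← this]; simp [pow_succ, mul_assoc]

theorem fix7' {g : PG} (hg : orderOf g = 7) : Nat.card (fixV U {g}) ≤ 2 ^ 15 := by
  haveI : Fact (Nat.Prime 7) := ⟨by norm_num⟩
  have h := seven_ok
  simp only [Bool.and_eq_true, List.all_eq_true, Nat.blt_eq] at h
  have hc : certOK sevenW 15 sevenC = true := by decide +kernel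
  refine U.fix_prime fact_PG.2.2.2 h.1.2 (by norm_num) hc ?_ hg
  have := wP_rel h.2
  simp only [wP_append, wP_nil] at this
  rw [← this]; simp [pow_succ, mul_assoc]

include U in
theorem card_sub_two (S : AddSubgroup M) : ∃ f ≤ 20, Nat.card S = 2 ^ f :=
  (Nat.dvd_prime_pow Nat.prime_two).1 (U.card ▸ AddSubgroup.card_addSubgroup_dvd_card S)

theorem fix11 {g : PG} (hg : orderOf g = 11) : Nat.card (fixV U {g}) ≤ 2 ^ 15 := by
  haveI : Fact (Nat.Prime 11) := ⟨by norm_num⟩
  have := U.finite_M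
  let actMA : MulAction PG M :=
    { smul := fun g m => U.actQ g m, one_smul := U.actQ_one, mul_smul := U.actQ_mul }
  letI : MulAction (zpowers g) M := MulAction.compHom M (zpowers g).subtype
  have hp : IsPGroup 11 (zpowers g) := IsPGroup.of_card (n := 1) (by rw [Nat.card_zpowers, hg, pow_one])
  have hmod := hp.card_modEq_card_fixedPoints M
  have hfix : MulAction.fixedPoints (zpowers g) M = fixV U {g} := by
    ext m
    constructor
    · intro h x hx; rw [Set.mem_singleton_iff.1 hx]; exact h ⟨g, mem_zpowers g⟩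
    · intro h x; exact (zpowers_le.2 (show g ∈ U.stabM m from h g rfl)) x.2
  rw [hfix, U.card] at hmod
  let S : AddSubgroup M :=
    { carrier := fixV U {g}
      add_mem' := fun {a b} ha hb x hx => by rw [map_add, ha x hx, hb x hx]
      zero_mem' := fun x _ => map_zero _
      neg_mem' := fun {a} ha x hx => by rw [map_neg, ha x hx] }
  obtain ⟨f, hf, hfc⟩ := U.card_sub_two S
  have hS : Nat.card (fixV U {g}) = 2 ^ f := hfc
  rw [hS] at hmod ⊢
  refine Nat.pow_le_pow_right (by norm_num) ?_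
  by_contra hlt
  have hlt : 16 ≤ f := by omega
  interval_cases f
  iterate 4 exact absurd hmod (by decide)
  have hall : S = ⊤ := AddSubgroup.eq_top_of_card_eq S (by rw [hfc, U.card])
  have h1 : g = 1 := U.actQ_faith fun m => (show m ∈ S by rw [hall]; trivial) g rfl
  rw [h1, orderOf_one] at hg
  norm_num at hg

theorem elem_conj (V : Subgroup PG) (hc : ∀ a ∈ V, ∀ b ∈ V, a * b = b * a) (hsq : ∀ a ∈ V, a * a = 1) (hne : V ≠ ⊥) :
    4 * Nat.card V ^ 2 * Nat.card (fixV U (V : Set PG)) < 2 ^ 20 ∨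
      ∃ v ∈ V, Nat.card (fixV U {v}) = 2 ^ 14 ∧ 2 * Nat.card V * Nat.card (fixV U (V : Set PG)) ≤ 2 ^ 13 := by
  haveI : Fact (Nat.Prime 2) := ⟨Nat.prime_two⟩
  obtain ⟨h, hh⟩ := conj_into (p := 2) (P := S2 U) (Q := V) (by rw [card_PG, fact_PG.1, U.card_S2])
    (fun g => ⟨1, Subtype.ext (by rw [pow_one, pow_two]; exact hsq _ g.2)⟩)
  let V' := V.map (MulAut.conj h).toMonoidHom
  have hV' : V' ≤ S2 U := fun x hx => by obtain ⟨q, hq, rfl⟩ := hx; exact hh q hq
  have hcard : Nat.card V' = Nat.card V := card_map_of_injective (MulEquiv.injective _)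
  have hfix : Nat.card (fixV U (V' : Set PG)) = Nat.card (fixV U (V : Set PG)) := by
    refine (Nat.card_congr ((U.actQ h).toEquiv.subtypeEquiv fun m => ?_)).symm
    constructor
    · rintro hm _ ⟨q, hq, rfl⟩
      show U.actQ (h * q * h⁻¹) (U.actQ h m) = U.actQ h m
      rw [← U.actQ_mul, inv_mul_cancel_right, U.actQ_mul, hm q hq]
    · intro hm q hq
      have e : U.actQ (h * q * h⁻¹) (U.actQ h m) = U.actQ h m := hm _ ⟨q, hq, rfl⟩
      rw [← U.actQ_mul, inv_mul_cancel_right, U.actQ_mul] at e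
      exact (U.actQ h).injective e
  have := U.elem_model V' hV'
    (by rintro _ ⟨a, ha, rfl⟩ _ ⟨b, hb, rfl⟩; rw [← map_mul, ← map_mul, hc a ha b hb])
    (by rintro _ ⟨a, ha, rfl⟩; rw [← map_mul, hsq a ha, map_one])
    (fun e => hne ((map_eq_bot_iff_of_injective V (MulEquiv.injective (MulAut.conj h))).1 e))
  rw [hcard, hfix] at this
  refine this.imp id ?_
  rintro ⟨_, ⟨q, hq, rfl⟩, h1, h2⟩
  exact ⟨q, hq, (U.fixV_conj h q).symm.trans h1, h2⟩

/-- Every nontrivial element moves five dimensions. -/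
theorem fix_le {g : PG} (hg : g ≠ 1) : Nat.card (fixV U {g}) ≤ 2 ^ 15 := by
  obtain ⟨p, hp, hd⟩ := Nat.exists_prime_and_dvd (show orderOf g ≠ 1 from fun e => hg (orderOf_eq_one_iff.1 e))
  have hq : orderOf (g ^ (orderOf g / p)) = p := orderOf_pow_orderOf_div (orderOf_pos g).ne' hd
  refine (U.fixV_le (npow_mem_zpowers g (orderOf g / p))).trans ?_
  generalize g ^ (orderOf g / p) = q at hq
  have hdvd : p ∣ 9196830720 := by
    rw [← card_PG]; exact hd.trans (orderOf_dvd_natCard g)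
  have hp5 : p = 2 ∨ p = 3 ∨ p = 5 ∨ p = 7 ∨ p = 11 := by
    rw [show (9196830720 : ℕ) = 2 ^ 15 * 3 ^ 6 * 5 * 7 * 11 by norm_num] at hdvd
    rcases (Nat.Prime.dvd_mul hp).1 hdvd with h | h
    · rcases (Nat.Prime.dvd_mul hp).1 h with h | h
      · rcases (Nat.Prime.dvd_mul hp).1 h with h | h
        · rcases (Nat.Prime.dvd_mul hp).1 h with h | h
          · exact Or.inl ((Nat.prime_dvd_prime_iff_eq hp Nat.prime_two).1 (hp.dvd_of_dvd_pow h))
          · exact Or.inr (Or.inl ((Nat.prime_dvd_prime_iff_eq hp Nat.prime_three).1 (hp.dvd_of_dvd_pow h)))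
        · exact Or.inr (Or.inr (Or.inl ((Nat.prime_dvd_prime_iff_eq hp Nat.prime_five).1 h)))
      · exact Or.inr (Or.inr (Or.inr (Or.inl ((Nat.prime_dvd_prime_iff_eq hp (by norm_num)).1 h))))
    · exact Or.inr (Or.inr (Or.inr (Or.inr ((Nat.prime_dvd_prime_iff_eq hp (by norm_num)).1 h))))
  rcases hp5 with rfl | rfl | rfl | rfl | rfl
  · have := U.finite_M
    have hcard : Nat.card (zpowers q) = 2 := by rw [Nat.card_zpowers, hq]
    have hfix : fixV U (zpowers q : Set PG) = fixV U {q} := by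
      ext m
      constructor
      · intro h x hx; rw [Set.mem_singleton_iff.1 hx]; exact h q (mem_zpowers q)
      · intro h x hx; exact (zpowers_le.2 (show q ∈ U.stabM m from h q rfl)) hx
    have h := U.elem_conj (zpowers q)
      (fun a ha b hb => by obtain ⟨i, rfl⟩ := ha; obtain ⟨j, rfl⟩ := hb; exact zpow_mul_comm q i j)
      (fun a ha => by
        have h1 : (⟨a, ha⟩ : zpowers q) ^ 2 = 1 := (congrArg ((⟨a, ha⟩ : zpowers q) ^ ·) hcard).symm.trans pow_card_eq_one'
        rw [← pow_two]; exact congrArg Subtype.val h1)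
      (fun e => by rw [e, card_bot] at hcard; norm_num at hcard)
    rw [hfix, hcard] at h
    rcases h with h | ⟨v, -, -, h⟩
    · obtain ⟨f, -, hf⟩ := U.card_sub_two
        { carrier := fixV U {q}
          add_mem' := fun {a b} ha hb x hx => by rw [map_add, ha x hx, hb x hx]
          zero_mem' := fun x _ => map_zero _
          neg_mem' := fun {a} ha x hx => by rw [map_neg, ha x hx] }
      have hf' : Nat.card (fixV U {q}) = 2 ^ f := hf
      rw [hf'] at h ⊢
      refine Nat.pow_le_pow_right (by norm_num) ?_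
      have h4 : (2 : ℕ) ^ (4 + f) < 2 ^ 20 := by rw [pow_add]; exact h
      have := (Nat.pow_lt_pow_iff_right (by norm_num)).1 h4
      omega
    · omega
  · exact (U.fix3 hq).trans (Nat.pow_le_pow_right (by norm_num) (by norm_num))
  · exact U.fix5 hq
  · exact U.fix7' hq
  · exact U.fix11 hq

end UAct

end CfsgU6Mod
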