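/-
An invariant alternating form on the module.
-/
import Cfsg.Agent.Lib.U6Mod.Odd

set_option autoImplicit false
set_option maxRecDepth 100000

namespace CfsgU6Mod

open CfsgLib.G24 CfsgLib.SUSixSub Subgroup

/-- The exchange of paired coordinates. -/
def swC : List ℕ := (List.range 20).map fun i => 1 <<< (i ^^^ 1)

/-- The parity of twenty bits. -/
def par20 (v : ℕ) : ℕ := app (List.replicate 20 1) v

/-- The form. -/
def bet (u v : ℕ) : ℕ := par20 (app swC u &&& v)

theorem bet_gen : ((List.range 10).all fun g => (List.range 20).all fun i => (List.range 20).all fun j =>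
    Nat.beq (bet ((gA g).getD i 0) ((gA g).getD j 0)) (bet (1 <<< i) (1 <<< j))) = true := by decide +kernel

theorem bet_left (a b v : ℕ) : bet (a ^^^ b) v = bet a v ^^^ bet b v := by
  rw [bet, app_add, Nat.and_xor_distrib_right, par20, app_add]; rfl

theorem bet_right (u a b : ℕ) : bet u (a ^^^ b) = bet u a ^^^ bet u b := by
  rw [bet, Nat.and_xor_distrib_left, par20, app_add]; rfl

theorem bet_zero_left (v : ℕ) : bet 0 v = 0 := by rw [bet, app_zero, Nat.zero_and, par20, app_zero]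

theorem bet_zero_right (u : ℕ) : bet u 0 = 0 := by rw [bet, Nat.and_zero, par20, app_zero]

theorem bet_app {g : ℕ} (hg : g < 10) : ∀ u < 2 ^ 20, ∀ v < 2 ^ 20, bet (app (gA g) u) (app (gA g) v) = bet u v := by
  have h := List.all_eq_true.1 bet_gen g (List.mem_range.2 hg)
  simp only [List.all_eq_true, Nat.beq_eq, List.mem_range] at h
  intro u hu v hv
  refine ext_bits (· ^^^ ·) (fun u => bet (app (gA g) u) (app (gA g) v)) (fun u => bet u v) 20
    (fun _ _ _ _ => by simp only [app_add, bet_left]) (fun _ _ _ _ => bet_left _ _ _)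
    (by simp [app_zero, bet_zero_left]) (fun i hi => ?_) u hu
  refine ext_bits (· ^^^ ·) (fun v => bet (app (gA g) (1 <<< i)) (app (gA g) v)) (fun v => bet (1 <<< i) v) 20
    (fun _ _ _ _ => by simp only [app_add, bet_right]) (fun _ _ _ _ => bet_right _ _ _)
    (by simp [app_zero, bet_zero_right]) (fun j hj => ?_) v hv
  simp only [app_bit]
  exact h i hi j hj

namespace UAct

variable {M : Type*} [AddCommGroup M] (U : UAct M)

/-- The element preserves the form. -/
def Isom (g : PG) : Prop := ∀ u < 2 ^ 20, ∀ v < 2 ^ 20, ∀ u' < 2 ^ 20, ∀ v' < 2 ^ 20,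
  U.actQ g (U.ψ u) = U.ψ u' → U.actQ g (U.ψ v) = U.ψ v' → bet u' v' = bet u v

/-- The isometries. -/
def isoG : Subgroup PG where
  carrier := {g | U.Isom g}
  one_mem' := fun u hu v hv u' hu' v' hv' eu ev => by
    rw [U.actQ_one] at eu ev
    rw [U.ψ_inj hu hu' eu, U.ψ_inj hv hv' ev]
  mul_mem' {a b} (ha : U.Isom a) (hb : U.Isom b) := fun u hu v hv u' hu' v' hv' eu ev => by
    obtain ⟨u1, hu1, eu1⟩ := U.ψ_surj (U.actQ b (U.ψ u))
    obtain ⟨v1, hv1, ev1⟩ := U.ψ_surj (U.actQ b (U.ψ v))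
    rw [U.actQ_mul, ← eu1] at eu
    rw [U.actQ_mul, ← ev1] at ev
    exact (ha u1 hu1 v1 hv1 u' hu' v' hv' eu ev).trans (hb u hu v hv u1 hu1 v1 hv1 eu1.symm ev1.symm)
  inv_mem' {a} (ha : U.Isom a) := fun u hu v hv u' hu' v' hv' eu ev => by
    refine (ha u' hu' v' hv' u hu v hv ?_ ?_).symm
    · rw [← eu, ← U.actQ_mul, mul_inv_cancel, U.actQ_one]
    · rw [← ev, ← U.actQ_mul, mul_inv_cancel, U.actQ_one]

theorem isom_word : ∀ w : List ℕ, (∀ k ∈ w, k < 10) → wP w ∈ U.isoG
  | [], _ => by rw [wP_nil]; exact one_mem _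
  | k :: w, h => by
    rw [← List.singleton_append, wP_append]
    refine mul_mem ?_ (isom_word w fun i hi => h i (List.mem_cons_of_mem _ hi))
    have hk := h k List.mem_cons_self
    intro u hu v hv u' hu' v' hv' eu ev
    have e : ∀ z < 2 ^ 20, U.actQ (wP [k]) (U.ψ z) = U.ψ (app (gA k) z) := fun z hz =>
      (U.actQ_mk _ _).trans (U.rep_all hk z hz)
    rw [e u hu] at eu
    rw [e v hv] at ev
    rw [← U.ψ_inj (okC_lt (gA_ok hk) u) hu' eu, ← U.ψ_inj (okC_lt (gA_ok hk) v) hv' ev]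
    exact bet_app hk u hu v hv

end UAct

end CfsgU6Mod
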