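/-
Every nonzero vector is fixed by two commuting independent elements of order three.
-/
import Cfsg.Agent.Lib.U6Mod.Form

set_option autoImplicit false
set_option maxRecDepth 100000

namespace CfsgU6Mod

open CfsgLib.G24 CfsgLib.SUSixSub Subgroup

namespace UAct

variable {M : Type*} [AddCommGroup M] (U : UAct M)

/-- Fixed by two commuting independent elements of order three. -/
def PairM (m : M) : Prop :=
  ∃ e f : PG, orderOf e = 3 ∧ orderOf f = 3 ∧ e * f = f * e ∧ f ∉ zpowers e ∧ U.actQ e m = m ∧ U.actQ f m = m ∧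
    e ∈ U.isoG ∧ f ∈ U.isoG

theorem pair_move {g : PG} {m : M} (hg : g ∈ U.isoG) (h : U.PairM (U.actQ g m)) : U.PairM m := by
  obtain ⟨e, f, he, hf, hc, hn, h1, h2, h3, h4⟩ := h
  let φ : PG ≃* PG := MulAut.conj g⁻¹
  have fixd : ∀ x : PG, U.actQ x (U.actQ g m) = U.actQ g m → U.actQ (φ x) m = m := fun x hx => by
    show U.actQ (g⁻¹ * x * g⁻¹⁻¹) m = m
    rw [inv_inv, U.actQ_mul, U.actQ_mul, hx, ← U.actQ_mul, inv_mul_cancel, U.actQ_one]
  refine ⟨φ e, φ f, by rw [MulEquiv.orderOf_eq, he], by rw [MulEquiv.orderOf_eq, hf], by rw [← map_mul, ← map_mul, hc],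
    fun hmem => hn ?_, fixd e h1, fixd f h2, mul_mem (mul_mem (inv_mem hg) h3) (inv_mem (inv_mem hg)),
    mul_mem (mul_mem (inv_mem hg) h4) (inv_mem (inv_mem hg))⟩
  obtain ⟨k, hk⟩ := hmem
  refine ⟨k, φ.injective ?_⟩
  rw [map_zpow]
  exact hk

include U in
theorem imgs_eq {u v : List ℕ} (hu : ∀ k ∈ u, k < 10) (hv : ∀ k ∈ v, k < 10) :
    beqC (imgs u) (imgs v) = true ↔ wP u = wP v := by
  have hgen : ∀ j < 20, (imgs u).getD j 0 = appW (gA 9) u (1 <<< j) ∧ (imgs v).getD j 0 = appW (gA 9) v (1 <<< j) :=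
    fun j hj => ⟨getD_map_range hj, getD_map_range hj⟩
  have refl : ∀ L : List ℕ, beqC L L = true := fun L => by
    induction L with
    | nil => rfl
    | cons a L ih => simp [beqC, ih]
  constructor
  · intro h
    have e := beqC_eq h
    refine U.wP_ext fun m => ?_
    obtain ⟨z, hz, rfl⟩ := U.ψ_surj m
    rw [(U.word_rep hu hz).2, (U.word_rep hv hz).2]
    congr 1
    exact ext_bits (· ^^^ ·) (appW (gA 9) u) (appW (gA 9) v) 20 (fun _ _ _ _ => appW_add _ _ _ _)
      (fun _ _ _ _ => appW_add _ _ _ _) (by rw [appW_zero, appW_zero])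
      (fun j hj => by rw [← (hgen j hj).1, ← (hgen j hj).2, e]) z hz
  · intro h
    have : imgs u = imgs v := by
      refine List.map_congr_left fun j hj => ?_
      have hb := bit_lt (List.mem_range.1 hj)
      obtain ⟨a1, a2⟩ := U.word_rep hu hb
      obtain ⟨b1, b2⟩ := U.word_rep hv hb
      refine U.ψ_inj a1 b1 ?_
      rw [← a2, ← b2]
      show U.act (wG u) _ = U.act (wG v) _
      rw [← U.actQ_mk, ← U.actQ_mk]
      show U.actQ (wP u) _ = U.actQ (wP v) _
      rw [h]
    rw [this]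
    exact refl _

theorem imgs_nil : imgs [] = idC := by decide +kernel

theorem root_pair {v : ℕ} (hv : v < 2 ^ 20) (hr : isRoot v = true) : U.PairM (U.ψL v) := by
  classical
  obtain ⟨e, he, hev⟩ := List.any_eq_true.1 hr
  rw [Nat.beq_eq] at hev
  subst hev
  have h := List.all_eq_true.1 root_ok e he
  simp only [Bool.and_eq_true, List.all_eq_true, Nat.blt_eq, Nat.beq_eq, and_assoc, Bool.not_eq_true'] at h
  obtain ⟨hw, hj, hx, hk, hy, hne1, hne2, hc1, hc2, hcomm, hd1, hd2, hf1, hf2⟩ := h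
  generalize e.2.2.1 = j at *
  generalize e.2.2.2.1 = x at *
  generalize e.2.2.2.2.1 = k at *
  generalize e.2.2.2.2.2 = y at *
  have la := w3_lt hj x
  have lb := w3_lt hk y
  have app2 : ∀ {a b : List ℕ}, (∀ i ∈ a, i < 10) → (∀ i ∈ b, i < 10) → ∀ i ∈ a ++ b, i < 10 := fun ha hb i hi =>
    (List.mem_append.1 hi).elim (ha i) (hb i)
  have cube : ∀ {j x : ℕ}, j < 9 → x < 81 → (Nat.beq j 0 && Nat.beq x 0) = false →
      beqC (imgs (w3 j x ++ (w3 j x ++ w3 j x))) idC = true → orderOf (wP (w3 j x)) = 3 := by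
    intro j x hj hx hne hc
    haveI : Fact (Nat.Prime 3) := ⟨Nat.prime_three⟩
    rw [← imgs_nil] at hc
    have h := (U.imgs_eq (app2 (w3_lt hj x) (app2 (w3_lt hj x) (w3_lt hj x))) (by simp)).1 hc
    refine orderOf_eq_prime ?_ (U.w3_bound hj hx ?_).2
    · rw [wP_append, wP_append, wP_nil] at h
      rw [pow_succ, pow_succ, pow_one, mul_assoc]
      exact h
    · rintro ⟨rfl, rfl⟩; simp at hne
  have ha : orderOf (wP (w3 j x)) = 3 := cube hj hx hne1 hc1
  have hb : orderOf (wP (w3 k y)) = 3 := cube hk hy hne2 hc2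
  refine U.pair_move (g := wP e.2.1) (U.isom_word _ hw) ⟨wP (w3 j x), wP (w3 k y), ha, hb, ?_, ?_, ?_, ?_,
    U.isom_word _ la, U.isom_word _ lb⟩
  · rw [← wP_append, ← wP_append]
    exact (U.imgs_eq (app2 la lb) (app2 lb la)).1 hcomm
  · intro hmem
    have hfin := mem_zpowers_iff_mem_range_orderOf.1 hmem
    rw [ha] at hfin
    obtain ⟨i, hi, hie⟩ := Finset.mem_image.1 hfin
    rw [Finset.mem_range] at hi
    interval_cases i
    · rw [pow_zero] at hie
      rw [← hie, orderOf_one] at hb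
      norm_num at hb
    · rw [pow_one] at hie
      have := (U.imgs_eq lb la).2 hie.symm
      rw [hd1] at this
      exact Bool.noConfusion this
    · rw [pow_two, ← wP_append] at hie
      have := (U.imgs_eq lb (app2 la la)).2 hie.symm
      rw [hd2] at this
      exact Bool.noConfusion this
  all_goals
    obtain ⟨h1, h2⟩ := U.word_rep (v := app layT e.1) hw (layT_lt _)
    have e0 : U.actQ (wP e.2.1) (U.ψL e.1) = U.ψ (appW (gA 9) e.2.1 (app layT e.1)) := (U.actQ_mk _ _).trans h2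
    rw [e0]
  · exact ((U.actQ_mk _ _).trans (U.word_rep la h1).2).trans (by rw [hf1])
  · exact ((U.actQ_mk _ _).trans (U.word_rep lb h1).2).trans (by rw [hf2])

theorem gens_isom : (∀ j < 9, qg.getD j 1 ∈ U.isoG) ∧ ∀ j < 6, ug.getD j 1 ∈ U.isoG := by
  have h := word_codes
  simp only [Bool.and_eq_true, List.all_eq_true, Nat.blt_eq, Nat.beq_eq] at h
  constructor
  · intro j hj
    rw [qg, List.getD_eq_getElem _ _ (by simpa using hj), List.getElem_map, List.getElem_range]
    exact U.isom_word _ (h.1.1.1.1.1 j (List.mem_range.2 hj)).1.1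
  · intro j hj
    rw [ug, List.getD_eq_getElem _ _ (by simpa using hj), List.getElem_map, List.getElem_range]
    exact U.isom_word _ (h.1.1.1.1.2 j (List.mem_range.2 hj)).1.1

theorem qe_isom : ∀ s < 512, qe s ∈ U.isoG :=
  xor_closed_bits (fun s => qe s ∈ U.isoG) (by rw [qe_zero]; exact one_mem _) 9
    (fun a _ b _ ha hb => by rw [U.qe_xor]; exact mul_mem ha hb) (fun j hj => by rw [qe_bit j hj]; exact U.gens_isom.1 j hj)

theorem tg_Fn {k : ℕ} (hk : k < 21) : ∃ g : PG, g ∈ U.isoG ∧ U.Fn g (app (tg k)) := by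
  unfold tg
  rcases Nat.lt_or_ge k 9 with h | h
  · rw [show Nat.blt k 9 = true from Nat.blt_eq.mpr h, cond_true]
    exact ⟨_, U.gens_isom.1 k h, (U.gen_code.1 k h).2⟩
  rw [show Nat.blt k 9 = false from Bool.eq_false_iff.2 fun e => by rw [Nat.blt_eq] at e; omega, cond_false]
  rcases Nat.lt_or_ge k 15 with h' | h'
  · rw [show Nat.blt k 15 = true from Nat.blt_eq.mpr h', cond_true]
    exact ⟨_, U.gens_isom.2 (k - 9) (by omega), (U.gen_code.2 (k - 9) (by omega)).2⟩
  rw [show Nat.blt k 15 = false from Bool.eq_false_iff.2 fun e => by rw [Nat.blt_eq] at e; omega, cond_false]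
  have hl := low_ok
  simp only [Bool.and_eq_true, List.all_eq_true, Nat.blt_eq, Nat.beq_eq, List.mem_range] at hl
  obtain ⟨⟨hw, -⟩, hb⟩ := hl.2 (k - 15) (by omega)
  exact ⟨_, U.isom_word _ hw, (U.Fn_word hw).congr (app_add _) hb⟩

theorem tg_move {k z : ℕ} (hk : k < 21) (hz : z < 2 ^ 20) (h : U.PairM (U.ψL (app (tg k) z))) : U.PairM (U.ψL z) := by
  obtain ⟨g, hi, hg⟩ := U.tg_Fn hk
  exact U.pair_move (g := g) hi (by rw [(hg z hz).2]; exact h)

theorem slice_pair {T base : ℕ} (hT : treeOK T base = true) (hbase : base < 2 ^ 20) :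
    ∀ d, ∀ n < 1024, base ^^^ n ≠ 0 → ent T n >>> 15 ≤ d → U.PairM (U.ψL (base ^^^ n)) := by
  intro d
  induction d using Nat.strong_induction_on with
  | _ d ih =>
    intro n hn hne hd
    have hlt : base ^^^ n < 2 ^ 20 := Nat.xor_lt_two_pow hbase (hn.trans (by norm_num))
    have h := List.all_eq_true.1 hT n (List.mem_range.2 hn)
    simp only [Bool.or_eq_true, Nat.beq_eq] at h
    have h := h.resolve_left hne
    cases h0 : Nat.beq (ent T n >>> 15) 0
    · rw [h0, cond_false] at h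
      simp only [Bool.and_eq_true, Nat.blt_eq, Nat.beq_eq, Bool.not_eq_true'] at h
      obtain ⟨⟨⟨hk, happ⟩, hp0⟩, hdep⟩ := h
      refine U.tg_move hk hlt ?_
      rw [happ]
      refine ih (ent T (ent T n &&& 1023) >>> 15) (by omega) _ (Nat.lt_succ_of_le Nat.and_le_right) ?_ le_rfl
      exact fun e => by rw [e] at hp0; simp at hp0
    · rw [h0, cond_true] at h
      exact U.root_pair hlt h

theorem x_pair : ∀ d, ∀ x < 512, x ≠ 0 → ent treeX x >>> 15 ≤ d →
    ∀ z < 2 ^ 19, xL z = x → U.PairM (U.ψL z) := by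
  intro d
  induction d using Nat.strong_induction_on with
  | _ d ih =>
    intro x hx hx0 hd z hz hxz
    have h := List.all_eq_true.1 treeX_ok x (List.mem_range.2 hx)
    simp only [Bool.or_eq_true, Nat.beq_eq] at h
    have h := h.resolve_left hx0
    have hsplit : z = (x <<< 10) ^^^ (z % 2 ^ 10) := by
      refine Nat.eq_of_testBit_eq fun i => ?_
      rw [Nat.testBit_xor, Nat.testBit_shiftLeft, Nat.testBit_mod_two_pow, ← hxz, xL,
        show (511 : ℕ) = 2 ^ 9 - 1 from rfl, Nat.and_two_pow_sub_one_eq_mod, Nat.testBit_mod_two_pow, Nat.testBit_shiftRight]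
      rcases Nat.lt_or_ge i 10 with hi | hi
      · simp [hi, show ¬ 10 ≤ i by omega]
      · rcases Nat.lt_or_ge i 19 with hi' | hi'
        · simp [show ¬ i < 10 by omega, hi, show i - 10 < 9 by omega, show 10 + (i - 10) = i by omega]
        · simp [show ¬ i < 10 by omega, show ¬ i - 10 < 9 by omega,
            Nat.testBit_lt_two_pow (hz.trans_le (Nat.pow_le_pow_right (by norm_num) hi' : (2:ℕ) ^ 19 ≤ 2 ^ i))]
    cases h0 : Nat.beq (ent treeX x >>> 15) 0
    · rw [h0, cond_false] at h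
      simp only [Bool.and_eq_true, Nat.blt_eq, Nat.beq_eq, Bool.not_eq_true'] at h
      obtain ⟨⟨⟨⟨hk, hk9⟩, happ⟩, hp0⟩, hdep⟩ := h
      generalize (ent treeX x >>> 10) &&& 31 = k at *
      refine U.tg_move hk (hz.trans (by norm_num)) ?_
      have hl := List.all_eq_true.1 tg_layers k (List.mem_range.2 hk)
      simp only [Bool.or_eq_true, Bool.and_eq_true, List.all_eq_true, Nat.blt_eq, List.mem_range] at hl
      obtain ⟨hl19, hl10⟩ := hl.resolve_left (fun e => by rw [Bool.eq_false_iff] at hk9; exact hk9 (Nat.blt_eq.mpr e))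
      have hxl : xL (app (tg k) z) = ent treeX x &&& 1023 := by
        rw [hsplit, app_add, xL_add, below10 (app_lt_of hl10 _ (Nat.mod_lt _ (Nat.two_pow_pos _))), Nat.xor_zero, happ]
      have hplt : ent treeX x &&& 1023 < 512 := hxl ▸ xL_lt _
      refine ih (ent treeX (ent treeX x &&& 1023) >>> 15) (by omega) _ hplt ?_ le_rfl _ (app_lt_of hl19 z hz) hxl
      exact fun e => by rw [e] at hp0; simp at hp0
    · rw [h0, cond_true, memN_iff] at h
      have hB := treeB_ok
      simp only [Bool.and_eq_true, Nat.beq_eq] at hB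
      obtain ⟨⟨⟨hlen, t0⟩, t1⟩, t2⟩ := hB
      obtain ⟨i, hi, rfl⟩ := List.getElem_of_mem h
      have hbase : rootX[i] <<< 10 < 2 ^ 20 := by
        rw [Nat.shiftLeft_eq]; omega
      have hn : z % 2 ^ 10 < 1024 := Nat.mod_lt _ (by norm_num)
      have hne : (rootX[i] <<< 10) ^^^ (z % 2 ^ 10) ≠ 0 := by
        rw [← hsplit]
        intro e; rw [e] at hxz; exact hx0 hxz.symm
      rw [hsplit]
      have hi3 : i < 3 := hlen ▸ hi
      rw [← List.getD_eq_getElem rootX 0 hi] at hbase hne ⊢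
      interval_cases i
      · exact U.slice_pair t0 hbase _ _ hn hne le_rfl
      · exact U.slice_pair t1 hbase _ _ hn hne le_rfl
      · exact U.slice_pair t2 hbase _ _ hn hne le_rfl

/-- Every nonzero vector is fixed by two commuting independent elements of order three. -/
theorem pair_all {m : M} (hm : m ≠ 0) : U.PairM m := by
  obtain ⟨z, hz, rfl⟩ := U.ψL_surj m
  have hz0 : z ≠ 0 := fun e => hm (by rw [e, U.ψL_zero])
  rcases Nat.lt_or_ge z (2 ^ 19) with h | h
  · rcases eq_or_ne (xL z) 0 with hx | hx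
    · have h10 : z < 2 ^ 10 := by
        rw [xL, show (511 : ℕ) = 2 ^ 9 - 1 from rfl, Nat.and_two_pow_sub_one_eq_mod, Nat.shiftRight_eq_div_pow] at hx
        omega
      have := U.slice_pair treeC_ok (by norm_num) _ z h10 (by rwa [Nat.zero_xor]) le_rfl
      rwa [Nat.zero_xor] at this
    · exact U.x_pair _ (xL z) (xL_lt z) hx le_rfl z h rfl
  · refine U.pair_move (g := qe (xL z)) (U.qe_isom _ (xL_lt z)) ?_
    obtain ⟨hw, hwe⟩ := U.qe_Fn (xL z) z hz
    rw [hwe]
    obtain ⟨q1, -, q3⟩ := U.qe_layers (xL z) (xL_lt z)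
    have hd : z ^^^ (1 <<< 19) < 2 ^ 19 := by
      have : (z ^^^ (1 <<< 19)) >>> 19 = 0 := by
        rw [Nat.shiftRight_xor_distrib, show z >>> 19 = 1 by rw [Nat.shiftRight_eq_div_pow]; omega]; rfl
      rw [Nat.shiftRight_eq_div_pow] at this
      omega
    have ez : z = (1 <<< 19) ^^^ (z ^^^ (1 <<< 19)) := by
      rw [Nat.xor_comm z, ← Nat.xor_assoc, Nat.xor_self, Nat.zero_xor]
    obtain ⟨a1, a2, -⟩ := q1 _ hd
    have e : appSel qC (xL z) z = appSel qC (xL z) (1 <<< 19) ^^^ appSel qC (xL z) (z ^^^ (1 <<< 19)) := by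
      rw [← appSel_add, ← ez]
    have e2 : xL (appSel qC (xL z) (1 <<< 19)) = xL z := by
      show (appSel qC (xL z) (1 <<< 19) >>> 10) &&& 511 = xL z
      rw [q3, Nat.and_or_distrib_right, show 512 &&& 511 = 0 from rfl, Nat.zero_or,
        show (511 : ℕ) = 2 ^ 9 - 1 from rfl, Nat.and_two_pow_sub_one_eq_mod, Nat.mod_eq_of_lt (xL_lt z)]
    have hxz : xL (z ^^^ (1 <<< 19)) = xL z := by rw [xL_add, show xL (1 <<< 19) = 0 from rfl, Nat.xor_zero]
    have hx0 : xL (appSel qC (xL z) z) = 0 := by rw [e, xL_add, e2, a2, hxz, Nat.xor_self]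
    have hd2 : appSel qC (xL z) z >>> 19 = 1 := by
      rw [e, Nat.shiftRight_xor_distrib,
        show appSel qC (xL z) (z ^^^ (1 <<< 19)) >>> 19 = 0 by rw [Nat.shiftRight_eq_div_pow, Nat.div_eq_of_lt a1],
        Nat.xor_zero, show (19 : ℕ) = 10 + 9 from rfl, Nat.shiftRight_add, q3, Nat.shiftRight_eq_div_pow]
      refine Nat.div_eq_of_lt_le (by simpa using Nat.left_le_or) ?_
      simpa using Nat.or_lt_two_pow (n := 10) (x := 512) (y := xL z) (by norm_num) ((xL_lt z).trans (by norm_num))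
    generalize appSel qC (xL z) z = w at hw hx0 hd2
    rw [xL, show (511 : ℕ) = 2 ^ 9 - 1 from rfl, Nat.and_two_pow_sub_one_eq_mod, Nat.shiftRight_eq_div_pow] at hx0
    rw [Nat.shiftRight_eq_div_pow] at hd2
    have hlow : w % 2 ^ 10 < 1024 := Nat.mod_lt _ (by norm_num)
    have hw' : w = (1 <<< 19) ^^^ (w % 2 ^ 10) := by
      have e1 : w = 2 ^ 19 + w % 2 ^ 10 := by omega
      conv_lhs => rw [e1]
      rw [Nat.one_shiftLeft, show 2 ^ 19 + w % 2 ^ 10 = 2 ^ 19 * 1 + w % 2 ^ 10 by omega,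
        Nat.two_pow_add_eq_or_of_lt (hlow.trans (by norm_num)), mul_one]
      refine Nat.eq_of_testBit_eq fun i => ?_
      rw [Nat.testBit_or, Nat.testBit_xor, Nat.testBit_two_pow]
      rcases eq_or_ne i 19 with rfl | h
      · have : (w % 1024).testBit 19 = false := Nat.testBit_lt_two_pow (by omega)
        simp [this]
      · simp [Ne.symm h]
    rw [hw']
    refine U.slice_pair treeA_ok (by decide) _ _ hlow ?_ le_rfl
    rw [← hw']; omega

end UAct

end CfsgU6Mod
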