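/-
Every hyperplane is stabilised by two commuting independent elements of order three.
-/
import Cfsg.Agent.Lib.U6Mod.Stab

set_option autoImplicit false
set_option maxRecDepth 100000

namespace CfsgU6Mod

open CfsgLib.G24 CfsgLib.SUSixSub Subgroup

theorem exists_bits (p : ℕ → Bool) : ∀ n, ∃ w < 2 ^ n, ∀ j < n, w.testBit j = p j
  | 0 => ⟨0, by norm_num, fun j hj => absurd hj (Nat.not_lt_zero j)⟩
  | n + 1 => by
    obtain ⟨w, hw, hb⟩ := exists_bits p n
    refine ⟨w ||| (bif p n then 2 ^ n else 0), ?_, fun j hj => ?_⟩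
    · refine Nat.or_lt_two_pow (hw.trans (Nat.pow_lt_pow_right (by norm_num) (by omega))) ?_
      cases p n
      · exact Nat.two_pow_pos _
      · exact Nat.pow_lt_pow_right (by norm_num) (by omega)
    · rw [Nat.testBit_or]
      rcases eq_or_ne j n with rfl | h
      · rw [Nat.testBit_lt_two_pow hw]
        cases p j <;> simp
      · rw [hb j (by omega)]
        cases p n <;> simp [Ne.symm h]

theorem swC_inv : ((List.range 20).all fun i => Nat.beq (app swC (app swC (1 <<< i))) (1 <<< i) &&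
    Nat.blt (app swC (1 <<< i)) (2 ^ 20)) = true := by decide +kernel

theorem par20_two : ∀ j < 20, par20 (2 ^ j) = 1 := by decide +kernel

namespace UAct

variable {M : Type*} [AddCommGroup M] (U : UAct M)

theorem hyper_pair (χ : M → ℕ) (hadd : ∀ a b, χ (a + b) = χ a ^^^ χ b) (hle : ∀ a, χ a < 2) (hne : ∃ a, χ a ≠ 0) :
    ∃ e f : PG, orderOf e = 3 ∧ orderOf f = 3 ∧ e * f = f * e ∧ f ∉ zpowers e ∧
      (∀ m, χ (U.actQ e m) = χ m) ∧ ∀ m, χ (U.actQ f m) = χ m := by
  obtain ⟨w, hw, hb⟩ := exists_bits (fun j => decide (χ (U.ψ (1 <<< j)) = 1)) 20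
  have h0 : χ 0 = 0 := by have := hadd 0 0; rwa [add_zero, Nat.xor_self] at this
  have hrep : ∀ z < 2 ^ 20, χ (U.ψ z) = par20 (w &&& z) := by
    refine ext_bits (· ^^^ ·) (fun z => χ (U.ψ z)) (fun z => par20 (w &&& z)) 20
      (fun _ _ _ _ => by simp only [U.ψ_xor, hadd]) (fun _ _ _ _ => by simp only [Nat.and_xor_distrib_left, par20, app_add])
      (by simp [U.ψ_zero, h0, par20, app_zero]) fun j hj => ?_
    have hj' := hb j hj
    have hl := hle (U.ψ (1 <<< j))
    by_cases h1 : χ (U.ψ (1 <<< j)) = 1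
    · have e : w &&& (1 <<< j) = 2 ^ j := by
        refine Nat.eq_of_testBit_eq fun i => ?_
        rw [Nat.testBit_and, Nat.one_shiftLeft, Nat.testBit_two_pow]
        rcases eq_or_ne i j with rfl | h
        · simp [hj', h1]
        · simp [Ne.symm h]
      rw [h1, e, par20_two j hj]
    · have e : w &&& (1 <<< j) = 0 := by
        refine Nat.eq_of_testBit_eq fun i => ?_
        rw [Nat.testBit_and, Nat.one_shiftLeft, Nat.testBit_two_pow]
        rcases eq_or_ne i j with rfl | h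
        · simp [hj', h1]
        · simp [Ne.symm h]
      rw [e, par20, app_zero]
      omega
  have hsw : ∀ z < 2 ^ 20, app swC (app swC z) = z ∧ app swC z < 2 ^ 20 := by
    have h := swC_inv
    simp only [List.all_eq_true, Bool.and_eq_true, Nat.beq_eq, Nat.blt_eq, List.mem_range] at h
    exact fun z hz => ⟨ext_bits (· ^^^ ·) (fun z => app swC (app swC z)) id 20 (fun _ _ _ _ => by simp only [app_add])
      (fun _ _ _ _ => rfl) (by simp [app_zero]) (fun i hi => (h i hi).1) z hz, app_lt_of (fun i hi => (h i hi).2) z hz⟩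
  obtain ⟨hv2, hv⟩ := hsw w hw
  generalize hvd : app swC w = v at hv hv2
  have hχ : ∀ z < 2 ^ 20, χ (U.ψ z) = bet v z := fun z hz => by rw [hrep z hz, bet, hv2]
  have hm : U.ψ v ≠ 0 := fun e => by
    have hv0 : v = 0 := U.ψ_inj hv (by norm_num) (e.trans U.ψ_zero.symm)
    obtain ⟨a, ha⟩ := hne
    obtain ⟨z, hz, rfl⟩ := U.ψ_surj a
    exact ha (by rw [hχ z hz, hv0, bet_zero_left])
  obtain ⟨e, f, h1, h2, h3, h4, h5, h6, h7, h8⟩ := U.pair_all hm
  have key : ∀ g ∈ U.isoG, U.actQ g (U.ψ v) = U.ψ v → ∀ m, χ (U.actQ g m) = χ m := fun g hg hfix m => by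
    obtain ⟨z, hz, rfl⟩ := U.ψ_surj m
    obtain ⟨z', hz', e'⟩ := U.ψ_surj (U.actQ g (U.ψ z))
    rw [← e', hχ z' hz', hχ z hz]
    exact hg v hv z hz v hv z' hz' hfix e'.symm
  exact ⟨e, f, h1, h2, h3, h4, key e h7 h5, key f h8 h6⟩

end UAct

end CfsgU6Mod
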