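/-
A conjugate of `A` under the centraliser of a critical subgroup `B` meets `H` in `B` only.
-/
import Cfsg.Agent.Lib.U6Mod.Descent

set_option autoImplicit false

namespace CfsgU6Mod

open Subgroup

variable {X : Type*} [Group X]

/-- `B ≤ A` is maximal with centraliser not inside `H`. -/
structure Crit (A H B : Subgroup X) : Prop where
  le : B ≤ A
  esc : ¬ centralizer (B : Set X) ≤ H
  max : ∀ D : Subgroup X, D ≤ A → B ≤ D → D ≠ B → centralizer (D : Set X) ≤ H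

variable {A H H₀ B : Subgroup X} [Finite X]

omit [Finite X] in
theorem cinv {n b : X} (hn : n ∈ centralizer (B : Set X)) (hb : b ∈ B) : n⁻¹ * b * n = b := by
  rw [mul_assoc, hn b hb, inv_mul_cancel_left]

variable (F : Facts A H H₀) (K : Crit A H B)
include F K

omit [Finite X] in
theorem A_le_cent : A ≤ centralizer (B : Set X) := fun _ ha b hb => F.comm b (K.le hb) _ ha

/-- An element of `C(B)` fixing a coset of `B` in `A` lies in `H`. -/
theorem stay {n a : X} (hn : n ∈ centralizer (B : Set X)) (ha : a ∈ A) (haB : a ∉ B)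
    (hna : n * a * n⁻¹ * a⁻¹ ∈ B) : n ∈ H := by
  set S : Set X := insert a (B : Set X)
  have hS : S ⊆ A := Set.insert_subset ha K.le
  have hle := K.max (closure S) ((closure_le _).2 hS)
    (fun b hb => subset_closure (Set.mem_insert_of_mem _ hb))
    (fun h => haB (h ▸ subset_closure (Set.mem_insert _ _)))
  rw [centralizer_closure] at hle
  refine weak F fun x hx => hle ?_
  have hd : ∀ d ∈ S, n⁻¹ * d * n ∈ A := by
    intro d hd
    rcases Set.mem_insert_iff.1 hd with rfl | hd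
    · have e := cinv hn hna
      have : n⁻¹ * d * n = (n * d * n⁻¹ * d⁻¹)⁻¹ * d := by
        conv_rhs => rw [← e]
        group
      rw [this]
      exact mul_mem (inv_mem (K.le hna)) ha
    · rw [cinv hn hd]; exact K.le hd
  intro d hd'
  have h := F.comm _ (hd d hd') _ (mem_cj.1 hx)
  calc d * x = n * ((n⁻¹ * d * n) * (n⁻¹ * x * n)) * n⁻¹ := by group
    _ = n * ((n⁻¹ * x * n) * (n⁻¹ * d * n)) * n⁻¹ := by rw [h]
    _ = x * d := by group

theorem inter {n : X} (hn : n ∈ centralizer (B : Set X)) (hnH : n ∉ H) : A ⊓ cj A n = B := by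
  have hBle : B ≤ A ⊓ cj A n := fun b hb => ⟨K.le hb, mem_cj.2 (by rw [cinv hn hb]; exact K.le hb)⟩
  by_contra hne
  refine hnH (weak F fun x hx => K.max _ inf_le_left hBle hne fun d hd => ?_)
  have h := F.comm _ (mem_cj.1 hd.2) _ (mem_cj.1 hx)
  calc d * x = n * ((n⁻¹ * d * n) * (n⁻¹ * x * n)) * n⁻¹ := by group
    _ = n * ((n⁻¹ * x * n) * (n⁻¹ * d * n)) * n⁻¹ := by rw [h]
    _ = x * d := by group

omit [Finite X] K in
theorem cj_sq {n s : X} (hs : s ∈ cj A n) : s * s = 1 := by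
  have h := F.sq _ (mem_cj.1 hs)
  calc s * s = n * ((n⁻¹ * s * n) * (n⁻¹ * s * n)) * n⁻¹ := by group
    _ = 1 := by rw [h]; group

/-- The commutator map of `s`. -/
def dd (s c : X) : X := c * (s * c * s⁻¹)

theorem crit_iff {n s c : X} (hn : n ∈ centralizer (B : Set X)) (hnH : n ∉ H)
    (hs : s ∈ cj A n) (hsH : s ∈ H) (hsB : s ∉ B) (hc : c ∈ A) :
    dd s c ∈ B ↔ n⁻¹ * c * n ∈ H := by
  have hd : c * s * c⁻¹ * s⁻¹ = dd s c := by rw [dd, inv_mem_A F hc]; group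
  have ha : n⁻¹ * s * n ∈ A := mem_cj.1 hs
  have hC : n⁻¹ * c * n ∈ centralizer (B : Set X) :=
    mul_mem (mul_mem (inv_mem hn) (A_le_cent F K hc)) hn
  constructor
  · intro h
    refine stay F K hC ha (fun h' => hsB ?_) ?_
    · have := cinv (inv_mem hn) h'
      rw [show n⁻¹⁻¹ * (n⁻¹ * s * n) * n⁻¹ = s by group] at this
      rw [this]; exact h'
    · have e : n⁻¹ * c * n * (n⁻¹ * s * n) * (n⁻¹ * c * n)⁻¹ * (n⁻¹ * s * n)⁻¹ =
          n⁻¹ * (c * s * c⁻¹ * s⁻¹) * n := by group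
      rw [e, hd, cinv hn h]
      exact h
  · intro h
    have h1 : dd s c ∈ A := mul_mem hc (conj_mem F hsH hc)
    have h2 : c * s * c⁻¹ ∈ cj A n := mem_cj.2 (by
      have := conj_mem F h ha
      rwa [show n⁻¹ * c * n * (n⁻¹ * s * n) * (n⁻¹ * c * n)⁻¹ = n⁻¹ * (c * s * c⁻¹) * n by group] at this)
    have h3 : dd s c ∈ cj A n := by rw [← hd]; exact mul_mem h2 (inv_mem hs)
    rw [← inter F K hn hnH]
    exact ⟨h1, h3⟩

/-- The two counting inequalities. -/
theorem ineq {n : X} (hn : n ∈ centralizer (B : Set X)) (hnH : n ∉ H) (hT : cj A n ⊓ H ≠ B) :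
    Nat.card ↥(cj A n ⊓ H) ≤ Nat.card ↥(A ⊓ cj H n) ∧
      2 ^ 20 * Nat.card B ≤ Nat.card ↥(A ⊓ cj H n) ^ 2 ∧
      ∀ s ∈ cj A n ⊓ H, s ∉ B → ∀ c ∈ A, s * c = c * s → c ∈ cj H n := by
  set T := cj A n ⊓ H
  set W := A ⊓ cj H n
  have hBT : B ≤ T := fun b hb =>
    ⟨mem_cj.2 (by rw [cinv hn hb]; exact K.le hb), A_le F (K.le hb)⟩
  have hBW : B ≤ W := fun b hb =>
    ⟨K.le hb, mem_cj.2 (by rw [cinv hn hb]; exact A_le F (K.le hb))⟩
  have hcr : ∀ s ∈ T, s ∉ B → ∀ c ∈ A, dd s c ∈ B ↔ c ∈ W := fun s hs hsB c hc =>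
    (crit_iff F K hn hnH hs.1 hs.2 hsB hc).trans
      ⟨fun h => ⟨hc, mem_cj.2 h⟩, fun h => mem_cj.1 h.2⟩
  have hfix : ∀ s ∈ T, s ∉ B → ∀ c ∈ A, s * c = c * s → c ∈ cj H n := fun s hs hsB c hc h => by
    refine ((hcr s hs hsB c hc).1 ?_).2
    rw [dd, h, mul_inv_cancel_right, F.sq c hc]
    exact one_mem B
  have hdB : ∀ s ∈ B, ∀ c ∈ A, dd s c = 1 := fun s hs c hc => by
    rw [dd, F.comm s (K.le hs) c hc, mul_inv_cancel_right, F.sq c hc]
  have hdA : ∀ s ∈ T, ∀ c ∈ A, dd s c ∈ A := fun s hs c hc => mul_mem hc (conj_mem F hs.2 hc)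
  have hdW : ∀ s ∈ T, ∀ c ∈ A, dd s c ∈ W := fun s hs c hc => by
    by_cases hsB : s ∈ B
    · rw [hdB s hsB c hc]; exact one_mem W
    refine (hcr s hs hsB _ (hdA s hs c hc)).1 ?_
    have hs2 := cj_sq F hs.1
    have : dd s (dd s c) = dd s c * dd s c := by
      have e : s * dd s c * s⁻¹ = s * c * s⁻¹ * ((s * s) * c * (s * s)⁻¹) := by simp only [dd]; group
      conv_lhs => rw [dd, e, hs2]
      rw [inv_one, mul_one, one_mul, F.comm _ (conj_mem F hs.2 hc) c hc]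
      rfl
    rw [this, F.sq _ (hdA s hs c hc)]
    exact one_mem B
  have hadd : ∀ s ∈ T, ∀ c ∈ A, ∀ c' ∈ A, dd s (c * c') = dd s c * dd s c' := fun s hs c hc c' hc' => by
    have h := F.comm c' hc' _ (conj_mem F hs.2 hc)
    calc dd s (c * c') = c * (c' * (s * c * s⁻¹)) * (s * c' * s⁻¹) := by simp only [dd]; group
      _ = _ := by rw [h]; simp only [dd]; group
  obtain ⟨a, haA, haW⟩ : ∃ a ∈ A, a ∉ W := SetLike.not_le_iff_exists.1 fun h => by
    refine hnH ((inv_mem_iff (H := H)).1 (weak F fun x hx => ?_))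
    have h' := mem_cj.1 hx
    rw [inv_inv] at h'
    have := mem_cj.1 (h h').2
    rwa [show n⁻¹ * (n * x * n⁻¹) * n = x by group] at this
  obtain ⟨s₀, hs₀, hs₀B⟩ : ∃ s ∈ T, s ∉ B :=
    SetLike.not_le_iff_exists.1 fun h => hT (le_antisymm h hBT)
  have c1 : Nat.card ↥T = Nat.card (↥T ⧸ B.subgroupOf T) * Nat.card B := by
    rw [card_eq_card_quotient_mul_card_subgroup (B.subgroupOf T),
      Nat.card_congr (subgroupOfEquivOfLe hBT).toEquiv]
  have c2 : Nat.card ↥W = Nat.card (↥W ⧸ B.subgroupOf W) * Nat.card B := by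
    rw [card_eq_card_quotient_mul_card_subgroup (B.subgroupOf W),
      Nat.card_congr (subgroupOfEquivOfLe hBW).toEquiv]
  have hinv : ∀ x ∈ W, x⁻¹ = x := fun x hx => inv_mem_A F hx.1
  have i1 : Nat.card (↥T ⧸ B.subgroupOf T) ≤ Nat.card (↥W ⧸ B.subgroupOf W) := by
    refine Nat.card_le_card_of_injective
      (fun q => ((⟨dd (q.out : T).1 a, hdW _ (q.out : T).2 a haA⟩ : W) : ↥W ⧸ B.subgroupOf W))
      fun q q' h => ?_
    rw [← QuotientGroup.out_eq' q, ← QuotientGroup.out_eq' q', QuotientGroup.eq]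
    rw [QuotientGroup.eq, mem_subgroupOf] at h
    rw [mem_subgroupOf]
    simp only [Subgroup.coe_mul, InvMemClass.coe_inv] at h ⊢
    generalize (q.out : T) = u at h ⊢
    generalize (q'.out : T) = u' at h ⊢
    obtain ⟨s, hs⟩ := u
    obtain ⟨s', hs'⟩ := u'
    dsimp only at h ⊢
    rw [inv_mem_A F (hdA s hs a haA)] at h
    rw [inv_eq_of_mul_eq_one_right (cj_sq F hs.1)]
    by_contra hu
    refine haW ((hcr _ (mul_mem hs hs') hu a haA).1 ?_)
    have e : dd (s * s') a = dd s a * dd s' a * dd s (dd s' a) := by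
      have hA' := hdA s' hs' a haA
      have h1 : s * s' * a * (s * s')⁻¹ = s * (a * dd s' a) * s⁻¹ := by
        rw [dd, ← mul_assoc a a, F.sq a haA, one_mul]; group
      have h2 : dd s' a * dd s' a = 1 := F.sq _ hA'
      calc dd (s * s') a = a * (s * s' * a * (s * s')⁻¹) := rfl
        _ = dd s a * 1 * (s * dd s' a * s⁻¹) := by rw [h1]; simp only [dd]; group
        _ = _ := by rw [← h2]; simp only [dd]; group
    rw [e]
    refine mul_mem h ?_
    by_cases hsB : s ∈ B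
    · rw [hdB s hsB _ (hdA s' hs' a haA)]; exact one_mem B
    · exact (hcr s hs hsB _ (hdA s' hs' a haA)).2 (hdW s' hs' a haA)
  have i2 : Nat.card (↥A ⧸ W.subgroupOf A) ≤ Nat.card (↥W ⧸ B.subgroupOf W) := by
    refine Nat.card_le_card_of_injective
      (fun q => ((⟨dd s₀ (q.out : A).1, hdW _ hs₀ _ (q.out : A).2⟩ : W) : ↥W ⧸ B.subgroupOf W))
      fun q q' h => ?_
    rw [← QuotientGroup.out_eq' q, ← QuotientGroup.out_eq' q', QuotientGroup.eq]
    rw [QuotientGroup.eq, mem_subgroupOf] at h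
    rw [mem_subgroupOf]
    simp only [Subgroup.coe_mul, InvMemClass.coe_inv] at h ⊢
    generalize (q.out : A) = u at h ⊢
    generalize (q'.out : A) = u' at h ⊢
    obtain ⟨c, hc⟩ := u
    obtain ⟨c', hc'⟩ := u'
    dsimp only at h ⊢
    rw [inv_mem_A F (hdA s₀ hs₀ c hc), ← hadd s₀ hs₀ c hc c' hc'] at h
    rw [inv_mem_A F hc]
    exact (hcr s₀ hs₀ hs₀B _ (mul_mem hc hc')).1 h
  have c3 : Nat.card ↥A = Nat.card (↥A ⧸ W.subgroupOf A) * Nat.card ↥W := by
    rw [card_eq_card_quotient_mul_card_subgroup (W.subgroupOf A),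
      Nat.card_congr (subgroupOfEquivOfLe (inf_le_left : W ≤ A)).toEquiv]
  refine ⟨by rw [c1, c2]; gcongr, ?_, hfix⟩
  rw [← F.card, c3]
  calc _ ≤ Nat.card (↥W ⧸ B.subgroupOf W) * Nat.card ↥W * Nat.card B := by gcongr
    _ = Nat.card (↥W ⧸ B.subgroupOf W) * Nat.card B * Nat.card ↥W := by ring
    _ = _ := by rw [← c2, sq]

/-- `cj A n ∩ H = B`. -/
theorem meet {n : X} (hn : n ∈ centralizer (B : Set X)) (hnH : n ∉ H) : cj A n ⊓ H = B := by
  by_contra hT
  have heq : ∀ m : X, Nat.card ↥(A ⊓ cj H m) = Nat.card ↥(cj A m⁻¹ ⊓ H) := fun m => by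
    rw [show cj A m⁻¹ ⊓ H = (A ⊓ cj H m).map (MulAut.conj m⁻¹).toMonoidHom by
      ext x
      simp only [mem_inf, mem_map_equiv, MulAut.conj_symm_apply, inv_inv]
      rw [show m⁻¹ * (m * x * m⁻¹) * m = x by group],
      card_map_of_injective (MulEquiv.injective _)]
  obtain ⟨h1, h2, h3⟩ := ineq F K hn hnH hT
  have hn' : n⁻¹ ∈ centralizer (B : Set X) := inv_mem hn
  have hnH' : n⁻¹ ∉ H := fun h => hnH (inv_mem_iff.1 h)
  have hBle : ∀ m ∈ centralizer (B : Set X), B ≤ cj A m ⊓ H := fun m hm b hb =>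
    ⟨mem_cj.2 (by rw [cinv hm hb]; exact K.le hb), A_le F (K.le hb)⟩
  have hT' : cj A n⁻¹ ⊓ H ≠ B := fun h => hT (eq_of_le_of_card_ge (hBle n hn) (by
    rw [heq, h] at h1; exact h1)).symm
  obtain ⟨h1', -, -⟩ := ineq F K hn' hnH' hT'
  rw [heq, inv_inv] at h1'
  rw [heq] at h1 h2
  have hE : Nat.card ↥(cj A n⁻¹ ⊓ H) = Nat.card ↥(cj A n ⊓ H) := le_antisymm h1' h1
  rw [hE] at h2
  set T := cj A n ⊓ H with hTdef
  have hT2 : Nat.card T ≤ 2 * Nat.card ↥(T ⊓ H₀) := card_le_two F inf_le_right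
  set U := T ⊓ H₀ with hU
  have hUA : U ⊓ A = B := le_antisymm
    (fun x hx => by rw [← inter F K hn hnH]; exact ⟨hx.2, hx.1.1.1⟩)
    (le_inf (le_inf (hBle n hn) (K.le.trans F.leA)) K.le)
  have hcomm : ∀ u ∈ cj A n, ∀ v ∈ cj A n, u * v = v * u := fun u hu v hv => by
    have h := F.comm _ (mem_cj.1 hu) _ (mem_cj.1 hv)
    calc u * v = n * ((n⁻¹ * u * n) * (n⁻¹ * v * n)) * n⁻¹ := by group
      _ = n * ((n⁻¹ * v * n) * (n⁻¹ * u * n)) * n⁻¹ := by rw [h]
      _ = v * u := by group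
  have hBF : B ≤ A ⊓ centralizer (U : Set X) := fun b hb =>
    ⟨K.le hb, fun u hu => hcomm u hu.1.1 b (hBle n hn hb).1⟩
  have hBF' := Finite.card_le_of_embedding (f := ⟨inclusion hBF, inclusion_injective hBF⟩)
  by_cases hsub : U ≤ A
  · obtain ⟨s, hs, hsB⟩ := SetLike.not_le_iff_exists.1 fun h => hT (le_antisymm h (hBle n hn))
    have hs0 : s ∉ H₀ := fun h => hsB (hUA ▸ ⟨⟨hs, h⟩, hsub ⟨hs, h⟩⟩)
    have := sigma F hs.2 hs0
    have hUB : Nat.card U = Nat.card B := by rw [← hUA, inf_eq_left.2 hsub]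
    have hle : B ≤ A ⊓ centralizer ({s} : Set X) := fun b hb =>
      ⟨K.le hb, mem_cent.2 (hcomm b (hBle n hn hb).1 s hs.1)⟩
    have := Finite.card_le_of_embedding (f := ⟨inclusion hle, inclusion_injective hle⟩)
    have hpos : 0 < Nat.card B := Nat.card_pos
    nlinarith [Nat.pow_le_pow_left (hUB ▸ hT2) 2]
  obtain ⟨p, hp⟩ : Nat.card ↥(U ⊓ A) ∣ Nat.card U := card_dvd_of_le inf_le_left
  have hp' : p * Nat.card ↥(U ⊓ A) = Nat.card U := by rw [hp, Nat.mul_comm]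
  rcases F.elem U inf_le_right (fun u hu v hv => hcomm u hu.1.1 v hv.1.1)
      (fun u hu => cj_sq F hu.1.1) hsub p hp' with h | ⟨v, hv, hv14, h⟩
  · rw [hUA] at hp'
    have hT2' : Nat.card T ≤ 2 * (p * Nat.card B) := hp' ▸ hT2
    have h4 : Nat.card T ^ 2 ≤ 4 * p ^ 2 * Nat.card B * Nat.card B :=
      calc Nat.card T ^ 2 ≤ (2 * (p * Nat.card B)) ^ 2 := Nat.pow_le_pow_left hT2' 2
        _ = _ := by ring
    have h5 : 4 * p ^ 2 * Nat.card B * Nat.card B ≤
        4 * p ^ 2 * Nat.card ↥(A ⊓ centralizer (U : Set X)) * Nat.card B := by gcongr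
    have h6 := Nat.le_of_mul_le_mul_right (le_trans h2 (le_trans h4 h5)) Nat.card_pos
    omega
  · rw [hUA] at hp'
    have hvA : v ∉ B := by
      intro hvB
      have hall : A ⊓ centralizer ({v} : Set X) = A := inf_eq_left.2 fun x hx =>
        mem_cent.2 (F.comm x hx v (K.le hvB))
      rw [hall, F.card] at hv14
      norm_num at hv14
    have hle : A ⊓ centralizer ({v} : Set X) ≤ A ⊓ cj H n := fun c hc =>
      ⟨hc.1, h3 v hv.1 hvA c hc.1 (mem_cent.1 hc.2).symm⟩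
    have h7 := Finite.card_le_of_embedding (f := ⟨inclusion hle, inclusion_injective hle⟩)
    rw [heq, hE, hv14] at h7
    have h8 : Nat.card T ≤ 2 * p * Nat.card ↥(A ⊓ centralizer (U : Set X)) :=
      le_trans hT2 (by rw [← hp', ← Nat.mul_assoc]; gcongr)
    omega

end CfsgU6Mod
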