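/-
Two elementary facts: a trivial-intersection involution set is one orbit, and a group with a self-centralising
involution is an abelian group extended by it.
-/
import Mathlib

set_option autoImplicit false

namespace CfsgU6Mod

open Subgroup

variable {Y : Type*} [Group Y] [Finite Y]

theorem invol_pair {v w : Y} (hv : v * v = 1) (hw : w * w = 1) :
    (Odd (orderOf (v * w)) ∧ ∃ g : Y, g * v * g⁻¹ = w) ∨
      ∃ z : Y, z * z = 1 ∧ z ≠ 1 ∧ Commute v z ∧ Commute w z ∧
        ∃ g : Y, v * z = g * v * g⁻¹ ∨ v * z = g * w * g⁻¹ := by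
  set r := v * w
  have hinv : v * r * v⁻¹ = r⁻¹ := by
    simp only [r, mul_inv_rev, inv_eq_of_mul_eq_one_right hv, inv_eq_of_mul_eq_one_right hw, ← mul_assoc, hv, one_mul]
  have hpow : ∀ i : ℕ, v * r ^ (2 * i) = (r ^ i)⁻¹ * v * r ^ i := fun i => by
    have : v * r ^ i * v⁻¹ = (r ^ i)⁻¹ := by
      rw [← conj_pow, hinv, inv_pow]
    rw [← this, two_mul, pow_add]
    group
  have hpow1 : ∀ i : ℕ, v * r ^ (2 * i + 1) = (r ^ i)⁻¹ * w * r ^ i := fun i => by
    have : v * r = w := by rw [show v * r = v * v * w by simp only [r, mul_assoc], hv, one_mul]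
    rw [pow_succ, ← mul_assoc, hpow, mul_assoc _ (r ^ i) r, (Commute.refl r).pow_left i |>.eq, ← mul_assoc,
      mul_assoc (r ^ i)⁻¹, this]
  obtain ⟨m, hm⟩ | ⟨m, hm⟩ := Nat.even_or_odd (orderOf r)
  · have hm0 : m ≠ 0 := by have := orderOf_pos r; omega
    refine Or.inr ⟨r ^ m, by rw [← pow_add, ← hm, pow_orderOf_eq_one],
      fun h => by
        have := orderOf_dvd_of_pow_eq_one h
        exact absurd (Nat.le_of_dvd (Nat.pos_of_ne_zero hm0) this) (by omega), ?_, ?_, ?_⟩
    · have hz : (r ^ m)⁻¹ = r ^ m := inv_eq_of_mul_eq_one_right (by rw [← pow_add, ← hm, pow_orderOf_eq_one])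
      have : v * r ^ m * v⁻¹ = r ^ m := by rw [← conj_pow, hinv, inv_pow, hz]
      exact mul_inv_eq_iff_eq_mul.1 this
    · have hz : (r ^ m)⁻¹ = r ^ m := inv_eq_of_mul_eq_one_right (by rw [← pow_add, ← hm, pow_orderOf_eq_one])
      have h1 : v * r ^ m * v⁻¹ = r ^ m := by rw [← conj_pow, hinv, inv_pow, hz]
      have hw' : w = v * r := by rw [show v * r = v * v * w by simp only [r, mul_assoc], hv, one_mul]
      rw [hw']
      exact Commute.mul_left (mul_inv_eq_iff_eq_mul.1 h1) ((Commute.refl r).pow_right m)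
    · obtain ⟨i, hi⟩ | ⟨i, hi⟩ := Nat.even_or_odd m
      · exact ⟨(r ^ i)⁻¹, Or.inl (by rw [hi, ← two_mul, hpow, inv_inv])⟩
      · exact ⟨(r ^ i)⁻¹, Or.inr (by rw [hi, hpow1, inv_inv])⟩
  · refine Or.inl ⟨⟨m, hm⟩, (r ^ (m + 1))⁻¹, ?_⟩
    rw [inv_inv, ← hpow, show 2 * (m + 1) = orderOf r + 1 by omega, pow_succ, pow_orderOf_eq_one, one_mul,
      show v * r = v * v * w by simp only [r, mul_assoc], hv, one_mul]

theorem ti_transitive {V Hy : Subgroup Y} (hle : V ≤ Hy) (hsq : ∀ v ∈ V, v * v = 1)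
    (hnorm : ∀ h ∈ Hy, ∀ v ∈ V, h * v * h⁻¹ ∈ V)
    (hcent : ∀ v ∈ V, v ≠ 1 → ∀ y, Commute v y → y ∈ Hy)
    (hTI : ∀ y, y ∉ Hy → ∀ x ∈ Hy, y⁻¹ * x * y ∈ V → x = 1) (hne : Hy ≠ ⊤)
    {u v : Y} (hu : u ∈ V) (hu1 : u ≠ 1) (hv : v ∈ V) (hv1 : v ≠ 1) :
    ∃ h ∈ Hy, h * u * h⁻¹ = v := by
  obtain ⟨y, hy⟩ : ∃ y, y ∉ Hy := by
    by_contra h
    push Not at h
    exact hne (eq_top_iff.2 fun x _ => h x)
  set w := y * u * y⁻¹
  have hw : w * w = 1 := by
    calc w * w = y * (u * u) * y⁻¹ := by simp only [w]; group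
      _ = 1 := by rw [hsq u hu]; group
  have hw1 : w ≠ 1 := fun h => hu1 (conj_eq_one_iff.1 h)
  rcases invol_pair (hsq v hv) hw with ⟨-, g, hg⟩ | ⟨z, hz2, hz1, hvz, hwz, g, hg⟩
  · have e : (g⁻¹ * y) * u * (g⁻¹ * y)⁻¹ = v := by
      rw [show g⁻¹ * y * u * (g⁻¹ * y)⁻¹ = g⁻¹ * (y * u * y⁻¹) * g by group]
      calc g⁻¹ * w * g = g⁻¹ * (g * v * g⁻¹) * g := by rw [hg]
        _ = v := by group
    refine ⟨g⁻¹ * y, by_contra fun h => hv1 (hTI _ h v (hle hv) ?_), e⟩
    rw [← e]
    simpa [mul_assoc] using hu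
  · exfalso
    have hzH : z ∈ Hy := hcent v hv hv1 z hvz
    have hzV : z ∉ V := fun h => hw1 (hTI y hy w (hcent z h hz1 w hwz.symm) (by
      simpa [w, mul_assoc] using hu))
    have hvzH : v * z ∈ Hy := mul_mem (hle hv) hzH
    have key : ∀ (c : Y), c ∈ V → ∀ g' : Y, v * z = g' * c * g'⁻¹ → False := by
      intro c hc g' e
      by_cases hg' : g' ∈ Hy
      · apply hzV
        have h2 : v * z ∈ V := e ▸ hnorm g' hg' c hc
        simpa using mul_mem (inv_mem hv) h2
      · have h2 := hTI g' hg' _ hvzH (by rw [e]; simpa [mul_assoc] using hc)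
        exact hzV (inv_eq_of_mul_eq_one_right h2 ▸ inv_mem hv)
    rcases hg with hg | hg
    · exact key v hv g hg
    · exact key u hu (g * y) (by rw [hg]; simp only [w]; group)

/-- With a self-centralising involution, the products of two conjugates of it form an abelian subgroup
inverted by it and containing every element of odd order. -/
theorem self_cent {v : Y} (hv : v * v = 1) (hv1 : v ≠ 1) (hC : ∀ y, Commute v y → y = 1 ∨ y = v)
    (hne : ∃ y, ¬ Commute v y) :
    ∃ S : Subgroup Y, (∀ a ∈ S, ∀ b ∈ S, a * b = b * a) ∧ (∀ a ∈ S, Odd (orderOf a)) ∧ S ≠ ⊥ ∧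
      ∀ a : Y, Odd (orderOf a) → a ∈ S := by
  set I : Set Y := Set.range fun y : Y => y * v * y⁻¹
  have hI2 : ∀ t ∈ I, t * t = 1 := by
    rintro t ⟨y, rfl⟩
    calc y * v * y⁻¹ * (y * v * y⁻¹) = y * (v * v) * y⁻¹ := by group
      _ = 1 := by rw [hv]; group
  have hI1 : ∀ t ∈ I, t ≠ 1 := by
    rintro t ⟨y, rfl⟩ h
    exact hv1 (conj_eq_one_iff.1 h)
  have hodd : ∀ t ∈ I, ∀ t' ∈ I, Odd (orderOf (t * t')) := by
    rintro t ⟨y, rfl⟩ t' ht'
    have : orderOf (y * v * y⁻¹ * t') = orderOf (v * (y⁻¹ * t' * y)) := by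
      rw [← MulEquiv.orderOf_eq (MulAut.conj y) (v * (y⁻¹ * t' * y)), MulAut.conj_apply]
      congr 1
      group
    rw [this]
    set w := y⁻¹ * t' * y
    have hw : w * w = 1 := by
      calc w * w = y⁻¹ * (t' * t') * y := by simp only [w]; group
        _ = 1 := by rw [hI2 t' ht']; group
    rcases invol_pair hv hw with ⟨h, -⟩ | ⟨z, -, hz1, hvz, hwz, -⟩
    · exact h
    · obtain rfl : z = v := (hC z hvz).resolve_left hz1
      rcases hC w hwz.symm with h | h
      · exact absurd h (fun h => hI1 t' ht' (by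
          have : y⁻¹ * t' * y⁻¹⁻¹ = 1 := by simpa [w] using h
          exact conj_eq_one_iff.1 this))
      · rw [h, hv]; simp
  have heven : ∀ t ∈ I, ¬ Odd (orderOf t) := fun t ht h => by
    rw [orderOf_eq_prime (p := 2) (by rw [sq]; exact hI2 t ht) (hI1 t ht)] at h
    exact absurd h (by decide)
  have hcover : ∀ y : Y, y ∈ I ∨ v * y ∈ I := by
    classical
    have := Fintype.ofFinite Y
    let f : Y → Y := fun y => y * v * y⁻¹
    set J : Finset Y := Finset.univ.image f
    have hfib : ∀ t ∈ J, (Finset.univ.filter fun y => f y = t).card ≤ 2 := by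
      intro t ht
      obtain ⟨y₀, -, rfl⟩ := Finset.mem_image.1 ht
      refine le_trans (Finset.card_le_card (t := {y₀, y₀ * v}) fun y hy => ?_) (Finset.card_le_two)
      have e := (Finset.mem_filter.1 hy).2
      have : Commute v (y₀⁻¹ * y) := by
        show v * (y₀⁻¹ * y) = y₀⁻¹ * y * v
        calc v * (y₀⁻¹ * y) = y₀⁻¹ * f y₀ * y := by simp only [f]; group
          _ = y₀⁻¹ * f y * y := by rw [e]
          _ = _ := by simp only [f]; group
      rcases hC _ this with h | h
      · exact Finset.mem_insert.2 (Or.inl (inv_mul_eq_one.1 h).symm)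
      · refine Finset.mem_insert_of_mem (Finset.mem_singleton.2 ?_)
        rw [← h]; group
    have hc : Fintype.card Y ≤ 2 * J.card := by
      rw [← Finset.card_univ, Finset.card_eq_sum_card_image f Finset.univ]
      calc _ ≤ ∑ _t ∈ J, 2 := Finset.sum_le_sum hfib
        _ = _ := by rw [Finset.sum_const, smul_eq_mul, mul_comm]
    have hvmem : v ∈ I := ⟨1, by simp⟩
    have hdisj : Disjoint J (J.image (v * ·)) := by
      rw [Finset.disjoint_left]
      intro t ht ht'
      obtain ⟨t', ht'', rfl⟩ := Finset.mem_image.1 ht'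
      obtain ⟨a, -, rfl⟩ := Finset.mem_image.1 ht''
      obtain ⟨b, -, hb⟩ := Finset.mem_image.1 ht
      exact heven _ ⟨b, hb⟩ (hodd v hvmem _ ⟨a, rfl⟩)
    have huniv : J ∪ J.image (v * ·) = Finset.univ := by
      refine Finset.eq_univ_of_card _ (le_antisymm (Finset.card_le_univ _) ?_)
      rw [Finset.card_union_of_disjoint hdisj, Finset.card_image_of_injective _ (mul_right_injective v)]
      omega
    intro y
    have hy : y ∈ J ∪ J.image (v * ·) := by rw [huniv]; exact Finset.mem_univ y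
    rcases Finset.mem_union.1 hy with h | h
    · obtain ⟨a, -, ha⟩ := Finset.mem_image.1 h
      exact Or.inl ⟨a, ha⟩
    · obtain ⟨t, ht, rfl⟩ := Finset.mem_image.1 h
      obtain ⟨a, -, ha⟩ := Finset.mem_image.1 ht
      exact Or.inr ⟨a, by rw [← mul_assoc v v, hv, one_mul]; exact ha⟩
  have hvI : v ∈ I := ⟨1, by simp⟩
  have hin : ∀ a : Y, Odd (orderOf a) → ∀ t ∈ I, t * a ∈ I := by
    intro a ha t ⟨y, hy⟩
    have hconj : Odd (orderOf (y⁻¹ * a * y)) := by
      have := MulEquiv.orderOf_eq (MulAut.conj y⁻¹) a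
      rw [MulAut.conj_apply, inv_inv] at this
      rwa [this]
    rcases hcover (y⁻¹ * a * y) with h | ⟨g, hg⟩
    · exact absurd hconj (heven _ h)
    · refine ⟨y * g, ?_⟩
      subst hy
      dsimp only at hg ⊢
      calc y * g * v * (y * g)⁻¹ = y * (g * v * g⁻¹) * y⁻¹ := by group
        _ = y * (v * (y⁻¹ * a * y)) * y⁻¹ := by rw [hg]
        _ = _ := by group
  have hmul : ∀ a b : Y, Odd (orderOf a) → Odd (orderOf b) → Odd (orderOf (a * b)) := by
    intro a b ha hb
    have h1 : v * a ∈ I := hin a ha v hvI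
    have h2 : v * a * (a * b) ∈ I := by
      have h3 := hin a ha (v * a) h1
      have h4 := hin b hb _ h3
      rwa [mul_assoc] at h4
    have := hodd _ h1 _ h2
    rwa [← mul_assoc (v * a), hI2 _ h1, one_mul] at this
  have hflip : ∀ a : Y, Odd (orderOf a) → ∀ t ∈ I, t * a * t = a⁻¹ := fun a ha t ht =>
    eq_inv_of_mul_eq_one_left (by rw [mul_assoc _ t a]; exact hI2 _ (hin a ha t ht))
  refine ⟨{ carrier := {a | Odd (orderOf a)}, mul_mem' := fun ha hb => hmul _ _ ha hb,
            one_mem' := by simp, inv_mem' := fun ha => by simpa using ha }, ?_, fun a ha => ha, ?_, fun a ha => ha⟩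
  · intro a (ha : Odd (orderOf a)) b (hb : Odd (orderOf b))
    have h1 := hflip a ha v hvI
    have h2 := hflip a ha (v * b) (hin b hb v hvI)
    have hb' := hI2 _ (hin b hb v hvI)
    have e : a * b = b * a := by
      have h3 : v * b * a * (v * b) = v * a * v := h2.trans h1.symm
      have h4 : b * a * (v * b) = a * v := mul_left_cancel (a := v) (by simpa only [mul_assoc] using h3)
      have h5 : v * b = b⁻¹ * v := by
        have := hflip b hb v hvI
        calc v * b = v * b * (v * v) := by rw [hv, mul_one]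
          _ = v * b * v * v := by group
          _ = b⁻¹ * v := by rw [this]
      rw [h5, ← mul_assoc] at h4
      have h6 : b * a * b⁻¹ = a := mul_right_cancel h4
      calc a * b = b * a * b⁻¹ * b := by rw [h6]
        _ = b * a := by group
    exact e
  · obtain ⟨y, hy⟩ := hne
    intro hbot
    have : y * v * y⁻¹ = v := by
      have h := hodd v hvI (y * v * y⁻¹) ⟨y, rfl⟩
      have h1 : v * (y * v * y⁻¹) = 1 := by
        rw [← mem_bot, ← hbot]; exact h
      rw [← inv_eq_of_mul_eq_one_right h1, inv_eq_of_mul_eq_one_right hv]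
    exact hy (mul_inv_eq_iff_eq_mul.1 this).symm

end CfsgU6Mod
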