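/-
The descent: if centralisers of the 3-elements of `H` lie in `H` then `H` is the whole group.
-/
import Cfsg.Agent.Lib.U6Mod.Meet
import Cfsg.Agent.Lib.U6Mod.TI

set_option autoImplicit false

namespace CfsgU6Mod

open Subgroup

variable {X : Type*} [Group X] [Finite X] {A H H₀ : Subgroup X}

omit [Finite X] in
theorem mem_H0_of_odd (F : Facts A H H₀) {h : X} (hh : h ∈ H) (hodd : Odd (orderOf h)) : h ∈ H₀ := by
  by_contra h0
  have h2 := F.idx h hh h hh h0 h0
  obtain ⟨j, hj⟩ := hodd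
  have : (h * h) ^ (j + 1) = h := by
    rw [← sq, ← pow_mul, show 2 * (j + 1) = orderOf h + 1 by omega, pow_succ, pow_orderOf_eq_one, one_mul]
  exact h0 (this ▸ pow_mem h2 _)

theorem big_prime {k : ℕ} (h5 : 5 ≤ k) (hk : k ≤ 20) (h6 : k ≠ 6) :
    ∃ q : ℕ, q.Prime ∧ 11 < q ∧ q ∣ 2 ^ k - 1 := by
  interval_cases k
  · exact ⟨31, by norm_num⟩
  · exact absurd rfl h6
  · exact ⟨127, by norm_num⟩
  · exact ⟨17, by norm_num⟩
  · exact ⟨73, by norm_num⟩
  · exact ⟨31, by norm_num⟩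
  · exact ⟨23, by norm_num⟩
  · exact ⟨13, by norm_num⟩
  · exact ⟨8191, by norm_num⟩
  · exact ⟨43, by norm_num⟩
  · exact ⟨31, by norm_num⟩
  · exact ⟨17, by norm_num⟩
  · exact ⟨131071, by norm_num⟩
  · exact ⟨19, by norm_num⟩
  · exact ⟨524287, by norm_num⟩
  · exact ⟨31, by norm_num⟩

section Escape

variable {B : Subgroup X} (F : Facts A H H₀) (K : Crit A H B)
  (hH : ∀ x ∈ H, orderOf x = 3 → centralizer ({x} : Set X) ≤ H)
include F K hH

theorem no_crit : False := by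
  set C := centralizer (B : Set X)
  have hAC : A ≤ C := A_le_cent F K
  have hBC : B ≤ C := K.le.trans hAC
  have hnormal : (B.subgroupOf C).Normal := ⟨fun b hb g => by
    rw [mem_subgroupOf] at hb ⊢
    push_cast
    rw [← g.2 _ hb, mul_inv_cancel_right]
    exact hb⟩
  set π : C →* C ⧸ B.subgroupOf C := QuotientGroup.mk' _
  have hπ : ∀ {x : C}, π x = 1 ↔ (x : X) ∈ B := fun {x} => by
    rw [show π x = 1 ↔ x ∈ B.subgroupOf C from QuotientGroup.eq_one_iff x, mem_subgroupOf]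
  set Hy := (H.subgroupOf C).map π
  set V := (A.subgroupOf C).map π
  have hBA : B ≤ A := K.le
  have memV : ∀ {x : C}, π x ∈ V ↔ (x : X) ∈ A := fun {x} => by
    refine ⟨fun ⟨y, hy, hyx⟩ => ?_, fun h => ⟨x, h, rfl⟩⟩
    have := hπ.1 (show π (y⁻¹ * x) = 1 by rw [map_mul, map_inv, hyx, inv_mul_cancel])
    simpa using mul_mem (show (y : X) ∈ A from hy) (hBA this)
  have memH : ∀ {x : C}, π x ∈ Hy ↔ (x : X) ∈ H := fun {x} => by
    refine ⟨fun ⟨y, hy, hyx⟩ => ?_, fun h => ⟨x, h, rfl⟩⟩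
    have := hπ.1 (show π (y⁻¹ * x) = 1 by rw [map_mul, map_inv, hyx, inv_mul_cancel])
    simpa using mul_mem (show (y : X) ∈ H from hy) (A_le F (hBA this))
  have hle : V ≤ Hy := map_mono fun x (hx : (x : X) ∈ A) => A_le F hx
  have hsq : ∀ v ∈ V, v * v = 1 := by
    rintro v ⟨x, (hx : (x : X) ∈ A), rfl⟩
    rw [← map_mul, hπ]
    push_cast
    rw [F.sq _ hx]
    exact one_mem B
  have hnorm : ∀ h ∈ Hy, ∀ v ∈ V, h * v * h⁻¹ ∈ V := by
    rintro h ⟨y, hy, rfl⟩ v ⟨x, hx, rfl⟩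
    rw [← map_inv, ← map_mul, ← map_mul, memV]
    push_cast
    exact conj_mem F hy hx
  have hcent : ∀ v ∈ V, v ≠ 1 → ∀ y, Commute v y → y ∈ Hy := by
    rintro v ⟨x, hx, rfl⟩ hv1 y hy
    obtain ⟨n, rfl⟩ := QuotientGroup.mk'_surjective _ y
    refine memH.2 (stay F K n.2 hx (fun h => hv1 (hπ.2 h)) ?_)
    have : π (n * x * n⁻¹ * x⁻¹) = 1 := by
      simp only [map_mul, map_inv]
      rw [show π n * π x = π x * π n from hy.symm, mul_inv_cancel_right, mul_inv_cancel]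
    simpa using hπ.1 this
  have hTI : ∀ y, y ∉ Hy → ∀ x ∈ Hy, y⁻¹ * x * y ∈ V → x = 1 := by
    intro y hy x hx hxy
    obtain ⟨n, rfl⟩ := QuotientGroup.mk'_surjective _ y
    obtain ⟨h, hh, rfl⟩ := hx
    rw [show (QuotientGroup.mk' _ n : C ⧸ B.subgroupOf C)⁻¹ * π h * QuotientGroup.mk' _ n = π (n⁻¹ * h * n) by
      simp only [π, map_mul, map_inv], memV] at hxy
    push_cast at hxy
    have hm : (h : X) ∈ cj A (n : X) ⊓ H := ⟨mem_cj.2 hxy, hh⟩
    rw [meet F K n.2 (fun e => hy (memH.2 e))] at hm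
    exact hπ.2 hm
  obtain ⟨n₀, hn₀C, hn₀⟩ := SetLike.not_le_iff_exists.1 K.esc
  have hne : Hy ≠ ⊤ := fun h => hn₀ ((memH (x := ⟨n₀, hn₀C⟩)).1 (h ▸ mem_top _))
  -- the dimension of A / B
  obtain ⟨b, hb20, hb⟩ := (Nat.dvd_prime_pow Nat.prime_two).1 (F.card ▸ card_dvd_of_le hBA)
  set k := 20 - b with hk
  have hVcard : Nat.card V * Nat.card B = 2 ^ 20 := by
    have h1 := card_eq_card_quotient_mul_card_subgroup ((π.subgroupMap (A.subgroupOf C)).ker)
    have h2 : Nat.card (↥(A.subgroupOf C) ⧸ (π.subgroupMap (A.subgroupOf C)).ker) = Nat.card V :=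
      Nat.card_congr (QuotientGroup.quotientKerEquivOfSurjective _ (π.subgroupMap_surjective _)).toEquiv
    have h3 : Nat.card (π.subgroupMap (A.subgroupOf C)).ker = Nat.card B := by
      refine Nat.card_congr
        { toFun := fun x => ⟨((x : A.subgroupOf C) : C), hπ.1 (congrArg Subtype.val x.2)⟩
          invFun := fun x => ⟨⟨⟨x, hBC x.2⟩, hBA x.2⟩, Subtype.ext (hπ.2 x.2)⟩
          left_inv := fun x => rfl
          right_inv := fun x => rfl }
    rw [h2, h3, Nat.card_congr (subgroupOfEquivOfLe hAC).toEquiv, F.card] at h1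
    exact h1.symm
  have hV : Nat.card V = 2 ^ k := by
    rw [hb, show 2 ^ 20 = 2 ^ k * 2 ^ b by rw [← pow_add]; congr 1; omega] at hVcard
    exact Nat.eq_of_mul_eq_mul_right (by positivity) hVcard
  have hfixle : ∀ h ∈ C, Nat.card B ≤ Nat.card ↥(A ⊓ centralizer ({h} : Set X)) := fun h hh =>
    have hl : B ≤ A ⊓ centralizer ({h} : Set X) := fun x hx => ⟨hBA hx, mem_cent.2 (hh x hx)⟩
    Finite.card_le_of_embedding ⟨inclusion hl, inclusion_injective hl⟩
  have hk0 : k ≠ 0 := fun h => hn₀ (by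
    have hBA' : B = A := eq_of_le_of_card_ge hBA (by rw [hb, F.card, show b = 20 by omega])
    exact A_le F (F.cent n₀ fun a ha => (hn₀C a (hBA' ▸ ha)).symm))
  by_cases hk1 : k = 1
  · have hB19 : Nat.card B = 2 ^ 19 := by rw [hb, show b = 19 by omega]
    have hHC : ∀ h ∈ H, h ∈ C → h ∈ A := fun h hh hhC => by
      by_contra hA
      have h1 := hfixle h hhC
      by_cases h0 : h ∈ H₀
      · have := F.fix h h0 hA; omega
      · have := sigma F hh h0; omega
    have hHV : Hy = V := le_antisymm (map_mono fun x hx => hHC _ hx x.2) hle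
    obtain ⟨v, hv, hv1⟩ : ∃ v ∈ V, v ≠ 1 := by
      by_contra h
      push Not at h
      rw [hk1, (Subgroup.card_eq_one).2 ((Subgroup.eq_bot_iff_forall _).2 h)] at hV
      norm_num at hV
    have hVv : ∀ w ∈ V, w = 1 ∨ w = v := by
      intro w hw
      by_contra h
      push Not at h
      classical
      have := Fintype.ofFinite V
      have h3 : ({1, ⟨v, hv⟩, ⟨w, hw⟩} : Finset V).card = 3 := by
        rw [Finset.card_eq_three]
        exact ⟨_, _, _, fun e => hv1 (congrArg Subtype.val e).symm, fun e => h.1 (congrArg Subtype.val e).symm,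
          fun e => h.2 (congrArg Subtype.val e).symm, rfl⟩
      have := Finset.card_le_univ ({1, ⟨v, hv⟩, ⟨w, hw⟩} : Finset V)
      rw [h3, ← Nat.card_eq_fintype_card, hV, hk1] at this
      omega
    obtain ⟨S, hScomm, hSodd, hSne, hSmem⟩ := self_cent (hsq v hv) hv1
      (fun y hy => hVv y (hHV ▸ hcent v hv hv1 y hy)) (by
        by_contra h
        push Not at h
        exact hne (eq_top_iff.2 fun y _ => hcent v hv hv1 y (h y)))
    obtain ⟨e₁, he₁, e₂, he₂, h1o, h2o, hcomm, hind, hB₁, hB₂⟩ := F.stab B hBA (by rw [hB19]; rfl)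
    let Nb : X → Prop := fun g => ∀ b, b ∈ B ↔ g * b * g⁻¹ ∈ B
    have hNmul : ∀ g g', Nb g → Nb g' → Nb (g * g') := fun g g' hg hg' b => by
      rw [hg' b, hg (g' * b * g'⁻¹), show g * (g' * b * g'⁻¹) * g⁻¹ = g * g' * b * (g * g')⁻¹ by group]
    have hconj : ∀ g, Nb g → ∀ x : C, g * x * g⁻¹ ∈ C := fun g hg x b hb => by
      have hb' : g⁻¹ * b * g ∈ B := by
        rw [hg (g⁻¹ * b * g), show g * (g⁻¹ * b * g) * g⁻¹ = b by group]
        exact hb
      have h := x.2 _ hb'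
      calc b * (g * x * g⁻¹) = g * (g⁻¹ * b * g * x) * g⁻¹ := by group
        _ = g * (x * (g⁻¹ * b * g)) * g⁻¹ := by rw [h]
        _ = _ := by group
    set θ : ∀ g, Nb g → C → C := fun g hg x => ⟨g * x * g⁻¹, hconj g hg x⟩
    have hθmul : ∀ g hg x y, θ g hg (x * y) = θ g hg x * θ g hg y := fun g hg x y => by
      apply Subtype.ext
      simp only [θ]
      push_cast
      group
    have hθ3 : ∀ g hg, orderOf g = 3 → ∀ x, θ g hg (θ g hg (θ g hg x)) = x := fun g hg hg3 x => by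
      apply Subtype.ext
      simp only [θ]
      have h3 : g * g * g = 1 := by
        rw [← pow_orderOf_eq_one g, hg3, pow_succ, pow_two]
      calc g * (g * (g * x * g⁻¹) * g⁻¹) * g⁻¹ = (g * g * g) * x * (g * g * g)⁻¹ := by group
        _ = _ := by rw [h3]; group
    have hθS : ∀ g hg, ∀ x : C, π x ∈ S → π (θ g hg x) ∈ S := fun g hg x hx => by
      refine hSmem _ (Odd.of_dvd_nat (hSodd _ hx) (orderOf_dvd_of_pow_eq_one ?_))
      have h1 : (x ^ orderOf (π x) : C).1 ∈ B := hπ.1 (by rw [map_pow, pow_orderOf_eq_one])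
      rw [← map_pow, hπ]
      push_cast at h1 ⊢
      simp only [θ]
      rw [conj_pow]
      exact (hg _).1 h1
    have hfixed : ∀ g hg, g ∈ H → orderOf g = 3 → ∀ x : C, π x ∈ S → π (θ g hg x) = π x → π x = 1 :=
        fun g hg hgH hg3 x hx hθ => by
      have hβ : ((x⁻¹ * θ g hg x : C) : X) ∈ B := hπ.1 (by rw [map_mul, map_inv, hθ, inv_mul_cancel])
      set β := ((x⁻¹ * θ g hg x : C) : X)
      have hxe : g * x * g⁻¹ = x * β := by simp only [β, θ]; push_cast; group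
      have hcomm' : β * x = x * β := x.2 β hβ
      have hsqB : β * β = 1 := F.sq β (hBA hβ)
      have h2 : g * ((x : X) * x) * g⁻¹ = x * x := by
        calc g * ((x : X) * x) * g⁻¹ = (g * x * g⁻¹) * (g * x * g⁻¹) := by group
          _ = x * (β * x) * β := by rw [hxe]; group
          _ = (x * x) * (β * β) := by rw [hcomm']; group
          _ = _ := by rw [hsqB, mul_one]
      have hxH : (x : X) * x ∈ H := hH g hgH hg3 (mem_cent.2 (mul_inv_eq_iff_eq_mul.1 h2).symm)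
      have hxV : π (x * x) ∈ V := memV.2 (hHC _ hxH (mul_mem x.2 x.2))
      rw [map_mul] at hxV
      obtain ⟨j, hj⟩ := hSodd _ hx
      have hw := hsq _ hxV
      have h4 : orderOf (π x) ∣ 4 := orderOf_dvd_of_pow_eq_one (by
        rw [pow_succ, pow_succ, pow_succ, pow_one, mul_assoc (π x * π x)]; exact hw)
      refine orderOf_eq_one_iff.1 ?_
      rcases (Nat.dvd_prime_pow Nat.prime_two (m := 2)).1 h4 with ⟨i, hi, e'⟩
      interval_cases i <;> omega
    have hN : ∀ g hg, g ∈ H → orderOf g = 3 → ∀ y : C, π y ∈ S →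
        π y * π (θ g hg y) * π (θ g hg (θ g hg y)) = 1 := fun g hg hgH hg3 y hy => by
      have h1 := hθS g hg y hy
      have h2 := hθS g hg _ h1
      rw [← map_mul, ← map_mul]
      refine hfixed g hg hgH hg3 _ (by rw [map_mul, map_mul]; exact mul_mem (mul_mem hy h1) h2) ?_
      rw [hθmul g hg, hθmul g hg, hθ3 g hg hg3, map_mul, map_mul, map_mul, map_mul, ← hScomm _ hy _ (mul_mem h1 h2),
        mul_assoc]
    obtain ⟨⟨s, hs⟩, hs1⟩ := Subgroup.ne_bot_iff_exists_ne_one.1 hSne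
    obtain ⟨x, rfl⟩ := QuotientGroup.mk'_surjective _ s
    refine hs1 (Subtype.ext ?_)
    show π x = 1
    have hx : π x ∈ S := hs
    have hord3 : ∀ g : X, g ^ 3 = 1 → g ≠ 1 → orderOf g = 3 := fun g h3 h1 => orderOf_eq_prime h3 h1
    have p1 : e₁ ^ 3 = 1 := h1o ▸ pow_orderOf_eq_one e₁
    have p2 : e₂ ^ 3 = 1 := h2o ▸ pow_orderOf_eq_one e₂
    have hc : Commute e₁ e₂ := hcomm
    have h3a : orderOf (e₁ * e₂) = 3 := hord3 _ (by rw [hc.mul_pow, p1, p2, mul_one]) fun h => hind (by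
      rw [eq_inv_of_mul_eq_one_right h]; exact inv_mem (mem_zpowers _))
    have h3b : orderOf (e₁ * e₁ * e₂) = 3 :=
      hord3 _ (by rw [(hc.mul_left hc).mul_pow, (Commute.refl e₁).mul_pow, p1, p2, mul_one, mul_one]) fun h => hind (by
        rw [eq_inv_of_mul_eq_one_right h]; exact inv_mem (mul_mem (mem_zpowers _) (mem_zpowers _)))
    set t1 := θ e₁ hB₁
    set t2 := θ e₂ hB₂
    have hc2 : ∀ y, t1 (t2 y) = t2 (t1 y) := fun y => Subtype.ext <| by
      simp only [t1, t2, θ]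
      calc e₁ * (e₂ * y * e₂⁻¹) * e₁⁻¹ = (e₁ * e₂) * y * (e₁ * e₂)⁻¹ := by group
        _ = (e₂ * e₁) * y * (e₂ * e₁)⁻¹ := by rw [hcomm]
        _ = _ := by group
    have hab : ∀ y, θ (e₁ * e₂) (hNmul _ _ hB₁ hB₂) y = t1 (t2 y) := fun y => Subtype.ext <| by
      simp only [t1, t2, θ]; group
    have haab : ∀ y, θ (e₁ * e₁ * e₂) (hNmul _ _ (hNmul _ _ hB₁ hB₁) hB₂) y = t1 (t1 (t2 y)) :=
      fun y => Subtype.ext <| by simp only [t1, t2, θ]; group
    have m1 : ∀ {y : C}, π y ∈ S → π (t1 y) ∈ S := fun {y} => hθS e₁ hB₁ y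
    have m2 : ∀ {y : C}, π y ∈ S → π (t2 y) ∈ S := fun {y} => hθS e₂ hB₂ y
    have q0 := hN e₁ hB₁ he₁ h1o x hx
    have q1 := hN e₁ hB₁ he₁ h1o (t2 x) (m2 hx)
    have q2 := hN e₁ hB₁ he₁ h1o (t2 (t2 x)) (m2 (m2 hx))
    have r0 := hN e₂ hB₂ he₂ h2o x hx
    have r1 := hN (e₁ * e₂) (hNmul _ _ hB₁ hB₂) (mul_mem he₁ he₂) h3a x hx
    have r2 := hN (e₁ * e₁ * e₂) (hNmul _ _ (hNmul _ _ hB₁ hB₁) hB₂) (mul_mem (mul_mem he₁ he₁) he₂) h3b x hx
    have e3 : t1 (t1 (t1 (t2 (t2 x)))) = t2 (t2 x) := hθ3 e₁ hB₁ h1o _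
    rw [hab, hab, ← hc2 (t2 x)] at r1
    rw [haab, haab, ← hc2 (t1 (t2 x)), ← hc2 (t2 x), e3] at r2
    have ab : ∀ {a b c : C ⧸ B.subgroupOf C}, a ∈ S → b ∈ S → c ∈ S →
        ∀ {a' b' c' : S}, (a' : C ⧸ B.subgroupOf C) = a → (b' : C ⧸ B.subgroupOf C) = b →
        (c' : C ⧸ B.subgroupOf C) = c → a * b * c = 1 → a' * b' * c' = 1 := fun _ _ _ _ _ _ e e' e'' h =>
      Subtype.ext (by push_cast; rw [e, e', e'', h])
    let _ : CommGroup S := { (inferInstance : Group S) with mul_comm := fun a b => Subtype.ext (hScomm _ a.2 _ b.2) }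
    set a00 : S := ⟨π x, hx⟩
    set a10 : S := ⟨π (t1 x), m1 hx⟩
    set a20 : S := ⟨π (t1 (t1 x)), m1 (m1 hx)⟩
    set a01 : S := ⟨π (t2 x), m2 hx⟩
    set a11 : S := ⟨π (t1 (t2 x)), m1 (m2 hx)⟩
    set a21 : S := ⟨π (t1 (t1 (t2 x))), m1 (m1 (m2 hx))⟩
    set a02 : S := ⟨π (t2 (t2 x)), m2 (m2 hx)⟩
    set a12 : S := ⟨π (t1 (t2 (t2 x))), m1 (m2 (m2 hx))⟩
    set a22 : S := ⟨π (t1 (t1 (t2 (t2 x)))), m1 (m1 (m2 (m2 hx)))⟩
    have Q0 : a00 * a10 * a20 = 1 := Subtype.ext q0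
    have Q1 : a01 * a11 * a21 = 1 := Subtype.ext q1
    have Q2 : a02 * a12 * a22 = 1 := Subtype.ext q2
    have R0 : a00 * a01 * a02 = 1 := Subtype.ext r0
    have R1 : a00 * a11 * a22 = 1 := Subtype.ext r1
    have R2 : a00 * a21 * a12 = 1 := Subtype.ext r2
    have cube : a00 * a00 * a00 = 1 := by
      calc a00 * a00 * a00 = a00 * a00 * a00 * ((a00 * a10 * a20) * (a01 * a11 * a21) * (a02 * a12 * a22)) := by
            rw [Q0, Q1, Q2, mul_one, mul_one, mul_one]
        _ = (a00 * a10 * a20) * (a00 * a01 * a02) * (a00 * a11 * a22) * (a00 * a21 * a12) := by ac_rfl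
        _ = 1 := by rw [Q0, R0, R1, R2, mul_one, mul_one, mul_one]
    have cube1 : π (t1 x) ^ 3 = 1 := by
      have hc3 : π x ^ 3 = 1 := by
        have := congrArg Subtype.val cube
        push_cast at this
        rw [pow_succ, pow_two]; exact this
      have h1 : ((x ^ 3 : C) : X) ∈ B := hπ.1 (by rw [map_pow]; exact hc3)
      rw [← map_pow, hπ]
      push_cast at h1 ⊢
      simp only [t1, θ]
      rw [conj_pow]
      exact (hB₁ _).1 h1
    have hstep : π (t1 (t1 x * x⁻¹)) = π (t1 x * x⁻¹) := by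
      have hinv : t1 x⁻¹ = (t1 x)⁻¹ := Subtype.ext (by simp only [t1, θ]; push_cast; group)
      have hd : t1 (t1 x * x⁻¹) = t1 (t1 x) * t1 x⁻¹ := hθmul e₁ hB₁ _ _
      rw [hd, hinv, map_mul, map_mul, map_inv, map_inv]
      have h3 : a10 * a10 * a10 = 1 := Subtype.ext (by
        push_cast; rw [show π (t1 x) * π (t1 x) * π (t1 x) = π (t1 x) ^ 3 by rw [pow_succ, pow_two]]; exact cube1)
      have : a20 * a10⁻¹ = a10 * a00⁻¹ := by
        rw [mul_inv_eq_iff_eq_mul, mul_right_comm, eq_mul_inv_iff_mul_eq]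
        refine mul_left_cancel (a := a10) ?_
        calc a10 * (a20 * a00) = a00 * a10 * a20 := by ac_rfl
          _ = a10 * a10 * a10 := by rw [Q0, h3]
          _ = _ := by ac_rfl
      exact congrArg Subtype.val this
    have hmem : π (t1 x * x⁻¹) ∈ S := by rw [map_mul, map_inv]; exact mul_mem (m1 hx) (inv_mem hx)
    have h0 := hfixed e₁ hB₁ he₁ h1o _ hmem hstep
    rw [map_mul, map_inv, mul_inv_eq_one] at h0
    exact hfixed e₁ hB₁ he₁ h1o x hx h0
  -- transitivity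
  have hkb : k + b = 20 := by omega
  have hk2 : 2 ≤ k := by omega
  have hdvd : Nat.card V - 1 ∣ Nat.card Hy := by
    obtain ⟨u, hu, hu1⟩ : ∃ u ∈ V, u ≠ 1 := by
      by_contra h
      push Not at h
      rw [(Subgroup.card_eq_one).2 ((Subgroup.eq_bot_iff_forall _).2 h)] at hV
      rcases (Nat.pow_eq_one).1 hV.symm with h | h <;> omega
    let uH : Hy := ⟨u, hle hu⟩
    have horb : Nat.card (MulAction.orbit (ConjAct Hy) uH) = Nat.card V - 1 := by
      have hfun : ∀ w : Hy, w ∈ MulAction.orbit (ConjAct Hy) uH ↔ ((w : C ⧸ B.subgroupOf C) ∈ V ∧ (w : C ⧸ B.subgroupOf C) ≠ 1) := by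
        intro w
        constructor
        · rintro ⟨g, rfl⟩
          simp only [ConjAct.smul_def, uH]
          push_cast
          exact ⟨hnorm _ (ConjAct.ofConjAct g).2 u hu, fun h => hu1 (conj_eq_one_iff.1 h)⟩
        · rintro ⟨hw, hw1⟩
          obtain ⟨h, hh, e⟩ := ti_transitive hle hsq hnorm hcent hTI hne hu hu1 hw hw1
          exact ⟨ConjAct.toConjAct ⟨h, hh⟩, Subtype.ext (by simpa [ConjAct.smul_def, uH] using e)⟩
      classical
      have := Fintype.ofFinite V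
      rw [Nat.card_eq_fintype_card (α := V),
        show Fintype.card V - 1 = Fintype.card {w : V // ¬ w = 1} by
          rw [Fintype.card_subtype_compl, Fintype.card_subtype_eq],
        ← Nat.card_eq_fintype_card]
      exact Nat.card_congr
        { toFun := fun w => ⟨⟨w.1.1, ((hfun w.1).1 w.2).1⟩, fun h => ((hfun w.1).1 w.2).2 (congrArg Subtype.val h)⟩
          invFun := fun w => ⟨⟨w.1.1, hle w.1.2⟩, (hfun _).2 ⟨w.1.2, fun h => w.2 (Subtype.ext h)⟩⟩
          left_inv := fun w => rfl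
          right_inv := fun w => rfl }
    have h := MulAction.index_stabilizer (ConjAct Hy) uH
    rw [← horb, Nat.card_coe_set_eq, ← h]
    exact Dvd.dvd.trans (Subgroup.index_dvd_card _) (by simp [ConjAct])
  have getq : ∀ q : ℕ, q.Prime → q ∣ 2 ^ k - 1 → ∃ h : X, h ∈ H ∧ h ∈ C ∧ orderOf h = q := by
    intro q hq hdiv
    have hd : q ∣ Nat.card (H.subgroupOf C) := (hV ▸ hdiv : q ∣ Nat.card V - 1).trans
      (hdvd.trans (Subgroup.card_map_dvd _ _))
    have := Fact.mk hq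
    obtain ⟨g, hg⟩ := exists_prime_orderOf_dvd_card' q hd
    exact ⟨((g : C) : X), g.2, (g : C).2, by rw [orderOf_coe, orderOf_coe, hg]⟩
  by_cases hsmall : k = 2 ∨ k = 4 ∨ k = 6
  · obtain ⟨h, hh, hhC, ho⟩ := getq 3 Nat.prime_three (by
      rcases hsmall with e | e | e <;> rw [e] <;> norm_num)
    have h1 := F.three h (mem_H0_of_odd F hh (ho ▸ by decide)) ho
    have h2 := hfixle h hhC
    rw [hb] at h2
    have := (Nat.pow_le_pow_iff_right (by norm_num : 1 < 2)).1 (le_trans h2 h1)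
    omega
  by_cases h3 : k = 3
  · obtain ⟨h, hh, hhC, ho⟩ := getq 7 (by norm_num) (by rw [h3]; norm_num)
    have h1 := F.seven h (mem_H0_of_odd F hh (ho ▸ by decide)) ho
    have h2 := hfixle h hhC
    rw [hb] at h2
    have := (Nat.pow_le_pow_iff_right (by norm_num : 1 < 2)).1 (le_trans h2 h1)
    omega
  obtain ⟨q, hq, h11, hdiv⟩ := big_prime (k := k) (by omega) (by omega) (by omega)
  obtain ⟨h, hh, -, ho⟩ := getq q hq hdiv
  have := F.prime q hq (ho ▸ (Subgroup.orderOf_dvd_natCard H hh))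
  omega

end Escape

/-- If all centralisers of 3-elements of `H` lie in `H`, then `H` is everything. -/
theorem top_of_facts (F : Facts A H H₀)
    (hH : ∀ x ∈ H, orderOf x = 3 → centralizer ({x} : Set X) ≤ H) : H = ⊤ := by
  by_contra hne
  have h0 : ¬ centralizer (((⊥ : Subgroup X)) : Set X) ≤ H := fun h => hne (eq_top_iff.2 fun x _ => h fun b hb => by
    rw [show b = 1 from mem_bot.1 hb, one_mul, mul_one])
  obtain ⟨B, -, hB⟩ := Finite.exists_le_maximal
    (p := fun B : Subgroup X => B ≤ A ∧ ¬ centralizer (B : Set X) ≤ H) (a := ⊥) ⟨bot_le, h0⟩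
  exact no_crit F ⟨hB.prop.1, hB.prop.2, fun D hDA hBD hDB => by_contra fun h =>
    hDB (le_antisymm (hB.le_of_ge ⟨hDA, h⟩ hBD) hBD)⟩ hH

end CfsgU6Mod
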