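/-
From the abstract hypotheses to the facts used by the descent.
-/
import Cfsg.Agent.Lib.U6Mod.Dual
import Cfsg.Agent.Lib.U6Mod.Top
import Cfsg.Agent.Lib.SUShort.Counts
import Cfsg.Agent.Lib.UnitarySimple
import Cfsg.Prelude.Def_CaseTheorems

set_option autoImplicit false
set_option maxHeartbeats 1600000

namespace CfsgU6Mod

open CfsgLib.G24 CfsgLib.SUSixSub Subgroup
open scoped Pointwise

/-- The setting: `H = A ⋊ K` with `K` of type U6(2) acting on `A` by conjugation. -/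
structure Setting (X : Type*) [Group X] where
  A : Subgroup X
  H : Subgroup X
  K : Subgroup X
  card : Nat.card A = 2 ^ 20
  hH : H = Subgroup.normalizer (A : Set X)
  hKH : K ≤ H
  hAK : A ⊓ K = ⊥
  hHAK : A ⊔ K = H
  hmin : ∀ B : Subgroup X, B ≤ A → (∀ h ∈ H, ∀ b ∈ B, h * b * h⁻¹ ∈ B) → B = ⊥ ∨ B = A
  K₀ : Subgroup K
  normal : K₀.Normal
  pair : ∀ x y : K, x ∉ K₀ → y ∉ K₀ → x * y ∈ K₀
  iso : K₀ ≃* PG
  cz : ∀ k : K, (∀ g ∈ K₀, k * g = g * k) → k = 1

theorem PG_simple : IsSimpleGroup PG :=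
  CfsgLib.UnitarySimple.simple (n := 6) (q := 2) (by rw [K.card_eq]; norm_num) (by norm_num) (by norm_num)

theorem center_trivial_of_iso {G : Type*} [Group G] (e : G ≃* PG) {g : G} (h : ∀ x, g * x = x * g) : g = 1 := by
  haveI := PG_simple
  rcases (inferInstance : (Subgroup.center PG).Normal).eq_bot_or_eq_top with hb | ht
  · have : e g ∈ Subgroup.center PG := Subgroup.mem_center_iff.2 fun y => by
      obtain ⟨x, rfl⟩ := e.surjective y
      rw [← map_mul, ← map_mul, h x]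
    rw [hb, mem_bot] at this
    exact (map_eq_one_iff e e.injective).1 this
  · exfalso
    letI : CommGroup PG := { (inferInstance : Group PG) with
      mul_comm := fun a b => (Subgroup.mem_center_iff.1 (ht ▸ Subgroup.mem_top b : b ∈ Subgroup.center PG)) a }
    have hp : (Nat.card PG).Prime := IsSimpleGroup.prime_card
    rw [card_PG] at hp
    exact absurd hp (by norm_num)

namespace Setting

variable {X : Type*} [Group X] [Finite X] (S : Setting X)

theorem A_le : S.A ≤ S.H := le_sup_left.trans_eq S.hHAK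

theorem conj_A {h a : X} (hh : h ∈ S.H) (ha : a ∈ S.A) : h * a * h⁻¹ ∈ S.A := by
  rw [S.hH] at hh
  exact (Subgroup.mem_normalizer_iff.1 hh a).1 ha

theorem K_conj (k : S.K) {a : X} (ha : a ∈ S.A) : (k : X) * a * (k : X)⁻¹ ∈ S.A := S.conj_A (S.hKH k.2) ha

theorem decomp {h : X} (hh : h ∈ S.H) : ∃ a ∈ S.A, ∃ k : S.K, h = a * k := by
  have e : ((S.A ⊔ S.K : Subgroup X) : Set X) = (S.A : Set X) * (S.K : Set X) :=
    Subgroup.coe_mul_of_right_le_normalizer_left S.A S.K (S.hKH.trans_eq S.hH)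
  rw [← S.hHAK] at hh
  have hh' : h ∈ (S.A : Set X) * (S.K : Set X) := e ▸ hh
  obtain ⟨a, ha, k, hk, rfl⟩ := Set.mem_mul.1 hh'
  exact ⟨a, ha, ⟨k, hk⟩, rfl⟩

theorem decomp_unique {a b : X} (ha : a ∈ S.A) (hb : b ∈ S.A) {k l : S.K} (e : a * (k : X) = b * (l : X)) :
    a = b ∧ k = l := by
  have h : b⁻¹ * a = (l : X) * (k : X)⁻¹ := by
    rw [eq_mul_inv_iff_mul_eq, mul_assoc, e, inv_mul_cancel_left]
  have hm : b⁻¹ * a ∈ S.A ⊓ S.K :=
    Subgroup.mem_inf.2 ⟨mul_mem (inv_mem hb) ha, h ▸ mul_mem l.2 (inv_mem k.2)⟩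
  rw [S.hAK, mem_bot] at hm
  have hab : a = b := (inv_mul_eq_one.1 hm).symm
  subst hab
  exact ⟨rfl, Subtype.ext (mul_left_cancel e)⟩

theorem A_ne : S.A ≠ ⊥ := fun e => by
  have := S.card
  rw [e, Subgroup.card_bot] at this
  norm_num at this

theorem isPGroup : IsPGroup 2 S.A :=
  haveI : Fact (Nat.Prime 2) := ⟨Nat.prime_two⟩
  IsPGroup.of_card S.card

theorem comm : ∀ a ∈ S.A, ∀ b ∈ S.A, a * b = b * a := by
  haveI : Fact (Nat.Prime 2) := ⟨Nat.prime_two⟩
  haveI : Nontrivial S.A := (Subgroup.nontrivial_iff_ne_bot _).2 S.A_ne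
  have hnt : Nontrivial (Subgroup.center S.A) := S.isPGroup.center_nontrivial
  have hinv : ∀ h ∈ S.H, ∀ b ∈ (Subgroup.center S.A).map S.A.subtype,
      h * b * h⁻¹ ∈ (Subgroup.center S.A).map S.A.subtype := by
    intro h hh b hb
    obtain ⟨z, hz, rfl⟩ := hb
    refine ⟨⟨h * z * h⁻¹, S.conj_A hh z.2⟩, mem_center_iff.2 fun y => Subtype.ext ?_, rfl⟩
    have hy : h⁻¹ * (y : X) * h ∈ S.A := by
      have := S.conj_A (inv_mem hh) y.2
      rwa [inv_inv] at this
    have e := congrArg Subtype.val (mem_center_iff.1 hz ⟨_, hy⟩)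
    show (y : X) * (h * z * h⁻¹) = h * z * h⁻¹ * y
    calc (y : X) * (h * z * h⁻¹) = h * (h⁻¹ * y * h * z) * h⁻¹ := by group
      _ = h * ((z : X) * (h⁻¹ * y * h)) * h⁻¹ := by rw [show h⁻¹ * (y : X) * h * z = z * (h⁻¹ * y * h) from e]
      _ = _ := by group
  rcases S.hmin ((Subgroup.center S.A).map S.A.subtype) (map_subtype_le _) hinv with hb | hb
  · exact absurd ((map_eq_bot_iff_of_injective _ S.A.subtype_injective).1 hb)
      ((Subgroup.nontrivial_iff_ne_bot _).1 hnt)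
  · intro a ha b hb'
    rw [← hb] at hb'
    obtain ⟨z, hz, rfl⟩ := hb'
    exact congrArg Subtype.val (mem_center_iff.1 hz ⟨a, ha⟩)

theorem sq : ∀ a ∈ S.A, a * a = 1 := by
  haveI : Fact (Nat.Prime 2) := ⟨Nat.prime_two⟩
  let B : Subgroup X :=
    { carrier := {a | a ∈ S.A ∧ a * a = 1}
      one_mem' := ⟨one_mem _, one_mul 1⟩
      mul_mem' := fun {a b} ha hb => ⟨mul_mem ha.1 hb.1, by
        have e : b * a = a * b := S.comm b hb.1 a ha.1
        calc a * b * (a * b) = a * (b * a) * b := by group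
          _ = a * (a * b) * b := by rw [e]
          _ = (a * a) * (b * b) := by group
          _ = 1 := by rw [ha.2, hb.2, one_mul]⟩
      inv_mem' := fun {a} ha => ⟨inv_mem ha.1, by rw [← mul_inv_rev, ha.2, inv_one]⟩ }
  rcases S.hmin B (fun a ha => ha.1) (fun h hh b hb => ⟨S.conj_A hh hb.1, by
    rw [show h * b * h⁻¹ * (h * b * h⁻¹) = h * (b * b) * h⁻¹ by group, hb.2, mul_one, mul_inv_cancel]⟩) with hb | hb
  · obtain ⟨a, ha⟩ := exists_prime_orderOf_dvd_card' (G := S.A) 2 (by rw [S.card]; exact dvd_pow_self 2 (by norm_num))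
    have hmem : (a : X) ∈ B := ⟨a.2, by
      rw [← pow_two]; exact congrArg Subtype.val (show a ^ 2 = 1 from ha ▸ pow_orderOf_eq_one a)⟩
    rw [hb, mem_bot] at hmem
    rw [show a = 1 from Subtype.ext hmem, orderOf_one] at ha
    norm_num at ha
  · intro a ha
    exact (hb ▸ ha : a ∈ B).2

theorem inv_eq {a : X} (ha : a ∈ S.A) : a⁻¹ = a := inv_eq_of_mul_eq_one_right (S.sq a ha)

theorem central_small (h : ∀ k : S.K, ∀ a ∈ S.A, (k : X) * a * (k : X)⁻¹ = a) : False := by
  obtain ⟨a, ha, ha1⟩ : ∃ a ∈ S.A, a ≠ 1 := by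
    by_contra hc
    push Not at hc
    exact S.A_ne ((Subgroup.eq_bot_iff_forall _).2 hc)
  have hinv : ∀ x ∈ S.H, ∀ b ∈ zpowers a, x * b * x⁻¹ ∈ zpowers a := by
    intro x hx b hb
    obtain ⟨c, hc, k, rfl⟩ := S.decomp hx
    have hbA : b ∈ S.A := zpowers_le.2 ha hb
    rw [show c * (k : X) * b * (c * k)⁻¹ = c * ((k : X) * b * (k : X)⁻¹) * c⁻¹ by group, h k b hbA,
      S.comm c hc b hbA, mul_inv_cancel_right]
    exact hb
  rcases S.hmin (zpowers a) (zpowers_le.2 ha) hinv with hb | hb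
  · exact ha1 (zpowers_eq_bot.1 hb)
  · have := S.card
    rw [← hb, Nat.card_zpowers] at this
    have h2 : orderOf a ≤ 2 := orderOf_le_of_pow_eq_one (by norm_num) (by rw [pow_two]; exact S.sq a ha)
    omega

theorem faithful {k : S.K} (hk : ∀ a ∈ S.A, (k : X) * a * (k : X)⁻¹ = a) : k = 1 := by
  haveI := PG_simple
  haveI := S.normal
  let N : Subgroup S.K :=
    { carrier := {k | ∀ a ∈ S.A, (k : X) * a * (k : X)⁻¹ = a}
      one_mem' := fun a _ => by simp
      mul_mem' := fun {x y} hx hy a ha => by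
        calc ((x * y : S.K) : X) * a * ((x * y : S.K) : X)⁻¹ = (x : X) * ((y : X) * a * (y : X)⁻¹) * (x : X)⁻¹ := by
              push_cast; group
          _ = a := by rw [hy a ha, hx a ha]
      inv_mem' := fun {x} hx a ha => by
        conv_lhs => rw [← hx a ha]
        push_cast; group }
  haveI hN : N.Normal := ⟨fun n hn g a ha => by
    have ha' : (g : X)⁻¹ * a * g ∈ S.A := by
      have := S.K_conj g⁻¹ ha
      simpa using this
    calc ((g * n * g⁻¹ : S.K) : X) * a * ((g * n * g⁻¹ : S.K) : X)⁻¹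
        = (g : X) * ((n : X) * ((g : X)⁻¹ * a * g) * (n : X)⁻¹) * (g : X)⁻¹ := by push_cast; group
      _ = a := by rw [hn _ ha']; group⟩
  haveI : Nontrivial S.K₀ := S.iso.toEquiv.nontrivial
  haveI : IsSimpleGroup S.K₀ := IsSimpleGroup.isSimpleGroup_of_surjective S.iso.symm.toMonoidHom S.iso.symm.surjective
  rcases (inferInstance : (N.subgroupOf S.K₀).Normal).eq_bot_or_eq_top with hb | ht
  · refine S.cz k fun g hg => ?_
    have hc : k * g * k⁻¹ * g⁻¹ ∈ N ⊓ S.K₀ := by
      refine Subgroup.mem_inf.2 ⟨?_, mul_mem (S.normal.conj_mem g hg k) (inv_mem hg)⟩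
      rw [show k * g * k⁻¹ * g⁻¹ = k * (g * k⁻¹ * g⁻¹) by group]
      exact mul_mem (show k ∈ N from hk) (hN.conj_mem _ (inv_mem (show k ∈ N from hk)) g)
    have h1 : (⟨k * g * k⁻¹ * g⁻¹, (Subgroup.mem_inf.1 hc).2⟩ : S.K₀) ∈ N.subgroupOf S.K₀ := (Subgroup.mem_inf.1 hc).1
    rw [hb, mem_bot] at h1
    have h2 : k * g * k⁻¹ * g⁻¹ = 1 := congrArg Subtype.val h1
    exact mul_inv_eq_iff_eq_mul.1 (mul_inv_eq_one.1 h2)
  · exfalso
    have h0 : ∀ g ∈ S.K₀, ∀ a ∈ S.A, (g : X) * a * (g : X)⁻¹ = a := fun g hg =>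
      (show (⟨g, hg⟩ : S.K₀) ∈ N.subgroupOf S.K₀ by rw [ht]; trivial : g ∈ N)
    by_cases hall : ∀ x : S.K, x ∈ S.K₀
    · exact S.central_small fun g => h0 g (hall g)
    push Not at hall
    obtain ⟨t, ht'⟩ := hall
    have htt : t * t ∈ S.K₀ := S.pair t t ht' ht'
    have hout : ∀ x : S.K, x ∉ S.K₀ → ∀ a ∈ S.A, (x : X) * a * (x : X)⁻¹ = (t : X) * a * (t : X)⁻¹ := fun x hx a ha => by
      have h1 : t⁻¹ * x ∈ S.K₀ := by
        have := S.pair t⁻¹ x (fun h => ht' (by simpa using inv_mem h)) hx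
        exact this
      have := h0 _ h1 a ha
      calc (x : X) * a * (x : X)⁻¹ = (t : X) * (((t⁻¹ * x : S.K) : X) * a * ((t⁻¹ * x : S.K) : X)⁻¹) * (t : X)⁻¹ := by
            push_cast; group
        _ = _ := by rw [this]
    let B : Subgroup X :=
      { carrier := {a | a ∈ S.A ∧ (t : X) * a * (t : X)⁻¹ = a}
        one_mem' := ⟨one_mem _, by simp⟩
        mul_mem' := fun {a b} ha hb => ⟨mul_mem ha.1 hb.1, by
          calc (t : X) * (a * b) * (t : X)⁻¹ = ((t : X) * a * (t : X)⁻¹) * ((t : X) * b * (t : X)⁻¹) := by group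
            _ = a * b := by rw [ha.2, hb.2]⟩
        inv_mem' := fun {a} ha => ⟨inv_mem ha.1, by rw [S.inv_eq ha.1]; exact ha.2⟩ }
    have hBne : B ≠ ⊥ := by
      intro hB
      obtain ⟨a, ha, ha1⟩ : ∃ a ∈ S.A, a ≠ 1 := by
        by_contra hc
        push Not at hc
        exact S.A_ne ((Subgroup.eq_bot_iff_forall _).2 hc)
      have hta := S.K_conj t ha
      have hfix : a * ((t : X) * a * (t : X)⁻¹) ∈ B := ⟨mul_mem ha hta, by
        have h2 := h0 _ htt a ha
        calc (t : X) * (a * ((t : X) * a * (t : X)⁻¹)) * (t : X)⁻¹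
            = ((t : X) * a * (t : X)⁻¹) * (((t * t : S.K) : X) * a * ((t * t : S.K) : X)⁻¹) := by push_cast; group
          _ = _ := by rw [h2, S.comm _ hta a ha]⟩
      rw [hB, mem_bot] at hfix
      have : (t : X) * a * (t : X)⁻¹ = a := by
        rw [eq_inv_of_mul_eq_one_right hfix, S.inv_eq ha]
      have haB : a ∈ B := ⟨ha, this⟩
      rw [hB, mem_bot] at haB
      exact ha1 haB
    have hinv : ∀ x ∈ S.H, ∀ b ∈ B, x * b * x⁻¹ ∈ B := by
      intro x hx b hb
      obtain ⟨c, hc, g, rfl⟩ := S.decomp hx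
      have hgb : (g : X) * b * (g : X)⁻¹ = b := by
        by_cases hg : g ∈ S.K₀
        · exact h0 g hg b hb.1
        · rw [hout g hg b hb.1]; exact hb.2
      rw [show c * (g : X) * b * (c * g)⁻¹ = c * ((g : X) * b * (g : X)⁻¹) * c⁻¹ by group, hgb,
        S.comm c hc b hb.1, mul_inv_cancel_right]
      exact hb
    rcases S.hmin B (fun a ha => ha.1) hinv with hb | hb
    · exact hBne hb
    · refine S.central_small fun g a ha => ?_
      by_cases hg : g ∈ S.K₀
      · exact h0 g hg a ha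
      · rw [hout g hg a ha]; exact (hb ▸ ha : a ∈ B).2

theorem cent_le {h : X} (hc : ∀ a ∈ S.A, h * a = a * h) : h ∈ S.A := by
  have hH : h ∈ S.H := by
    rw [S.hH, Subgroup.mem_normalizer_iff]
    intro a
    constructor
    · intro ha; rw [hc a ha, mul_inv_cancel_right]; exact ha
    · intro ha
      have e := hc _ ha
      have : h * a * h⁻¹ = a := by
        calc h * a * h⁻¹ = h⁻¹ * (h * (h * a * h⁻¹)) := by group
          _ = h⁻¹ * ((h * a * h⁻¹) * h) := by rw [e]
          _ = a := by group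
      rwa [this] at ha
  obtain ⟨b, hb, k, rfl⟩ := S.decomp hH
  have hk : k = 1 := S.faithful fun a ha => by
    have e := hc a ha
    calc (k : X) * a * (k : X)⁻¹ = b⁻¹ * (b * k * a) * (k : X)⁻¹ := by group
      _ = b⁻¹ * (a * (b * k)) * (k : X)⁻¹ := by rw [e]
      _ = b⁻¹ * (a * b) := by group
      _ = a := by rw [S.comm a ha b hb, inv_mul_cancel_left]
  simpa [hk] using hb

/-- The element of the simple group. -/
noncomputable def kx (g : PG) : X := (((S.iso.symm g : S.K₀) : S.K) : X)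

theorem kx_mul (g h : PG) : S.kx (g * h) = S.kx g * S.kx h := by simp [kx]

theorem kx_conj (g : PG) {a : X} (ha : a ∈ S.A) : S.kx g * a * (S.kx g)⁻¹ ∈ S.A := S.K_conj _ ha

/-- Conjugation on `A`. -/
noncomputable def conjA (g : Γ) : Additive S.A ≃+ Additive S.A :=
  MulEquiv.toAdditive
    { toFun := fun a => ⟨S.kx (QuotientGroup.mk g) * a * (S.kx (QuotientGroup.mk g))⁻¹, S.kx_conj _ a.2⟩
      invFun := fun a => ⟨(S.kx (QuotientGroup.mk g))⁻¹ * a * S.kx (QuotientGroup.mk g), by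
        have := S.conj_A (inv_mem (S.hKH (((S.iso.symm (QuotientGroup.mk g) : S.K₀) : S.K)).2)) a.2
        rw [inv_inv] at this
        exact this⟩
      left_inv := fun a => Subtype.ext (by simp [mul_assoc])
      right_inv := fun a => Subtype.ext (by simp [mul_assoc])
      map_mul' := fun a b => Subtype.ext (by simp only [Subgroup.coe_mul]; group) }

theorem conjA_val (g : Γ) (m : Additive S.A) :
    ((Additive.toMul (S.conjA g m) : S.A) : X) =
      S.kx (QuotientGroup.mk g) * (Additive.toMul m : S.A) * (S.kx (QuotientGroup.mk g))⁻¹ := rfl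

theorem ext_val {m n : Additive S.A} (h : ((Additive.toMul m : S.A) : X) = (Additive.toMul n : S.A)) : m = n :=
  Additive.toMul.injective (Subtype.ext h)

/-- `A` is commutative. -/
noncomputable instance addA : AddCommGroup (Additive S.A) :=
  { (inferInstance : AddGroup (Additive S.A)) with
    add_comm := fun a b => S.ext_val (S.comm _ (Additive.toMul a).2 _ (Additive.toMul b).2) }

/-- `A` as a module. -/
noncomputable def uact : UAct (Additive S.A) where
  act g := S.conjA g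
  act_mul g h m := S.ext_val (by
    rw [conjA_val, conjA_val, conjA_val, QuotientGroup.mk_mul, S.kx_mul]; group)
  two m := S.ext_val (S.sq _ (Additive.toMul m).2)
  card := by rw [Nat.card_congr Additive.toMul]; exact S.card
  ker g := by
    rw [← QuotientGroup.eq_one_iff (N := center Γ)]
    constructor
    · intro h
      have h1 : ((S.iso.symm (QuotientGroup.mk g) : S.K₀) : S.K) = 1 := S.faithful fun a ha => by
        have := congrArg (fun m => ((Additive.toMul m : S.A) : X)) (h (Additive.ofMul ⟨a, ha⟩))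
        simpa [conjA_val, kx] using this
      have h2 : S.iso.symm (QuotientGroup.mk g) = 1 := Subtype.ext h1
      exact (map_eq_one_iff _ S.iso.symm.injective).1 h2
    · intro h m
      refine S.ext_val ?_
      rw [conjA_val, h]
      simp [kx]

theorem K_mem (k : S.K) : (k : X) ∈ S.H := S.hKH k.2

theorem card_H : Nat.card S.H = 2 ^ 20 * Nat.card S.K := by
  rw [← S.card, ← Nat.card_prod]
  refine (Nat.card_congr (Equiv.ofBijective (fun p : S.A × S.K => (⟨(p.1 : X) * p.2, mul_mem (S.A_le p.1.2) (S.K_mem p.2)⟩ : S.H))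
    ⟨fun a b e => ?_, fun h => ?_⟩)).symm
  · obtain ⟨e1, e2⟩ := S.decomp_unique a.1.2 b.1.2 (congrArg Subtype.val e)
    exact Prod.ext (Subtype.ext e1) e2
  · obtain ⟨a, ha, k, e⟩ := S.decomp h.2
    exact ⟨(⟨a, ha⟩, k), Subtype.ext e.symm⟩

/-- The subgroup of index at most two. -/
def H₀ : Subgroup X where
  carrier := {x | ∃ a ∈ S.A, ∃ k : S.K₀, x = a * ((k : S.K) : X)}
  one_mem' := ⟨1, one_mem _, 1, by simp⟩
  mul_mem' := by
    rintro _ _ ⟨a, ha, k, rfl⟩ ⟨b, hb, l, rfl⟩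
    refine ⟨a * (((k : S.K) : X) * b * ((k : S.K) : X)⁻¹), mul_mem ha (S.K_conj k hb), k * l, ?_⟩
    push_cast; group
  inv_mem' := by
    rintro _ ⟨a, ha, k, rfl⟩
    refine ⟨(((k⁻¹ : S.K₀) : S.K) : X) * a⁻¹ * ((((k⁻¹ : S.K₀) : S.K) : X))⁻¹, S.K_conj _ (inv_mem ha), k⁻¹, ?_⟩
    push_cast; group

theorem A_le₀ : S.A ≤ S.H₀ := fun a ha => ⟨a, ha, 1, by simp⟩

theorem H₀_le : S.H₀ ≤ S.H := fun x hx => by
  obtain ⟨a, ha, k, rfl⟩ := hx
  exact mul_mem (S.A_le ha) (S.K_mem _)

theorem mem_H₀ {a : X} (ha : a ∈ S.A) (k : S.K) : a * (k : X) ∈ S.H₀ ↔ k ∈ S.K₀ := by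
  constructor
  · rintro ⟨b, hb, l, e⟩
    rw [(S.decomp_unique ha hb e).2]
    exact l.2
  · intro hk; exact ⟨a, ha, ⟨k, hk⟩, rfl⟩

/-- The projection to the simple group. -/
noncomputable def proj : S.H₀ →* PG where
  toFun x := S.iso x.2.choose_spec.2.choose
  map_one' := by
    obtain ⟨a, k, ha, e⟩ : ∃ a, ∃ k : S.K₀, a ∈ S.A ∧ (1 : X) = a * ((k : S.K) : X) :=
      ⟨_, _, (1 : S.H₀).2.choose_spec.1, (1 : S.H₀).2.choose_spec.2.choose_spec⟩
    have h := (S.decomp_unique (one_mem _) (1 : S.H₀).2.choose_spec.1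
      (k := (1 : S.K)) (l := ((1 : S.H₀).2.choose_spec.2.choose : S.K))
      ((by simp : (1 : X) * ((1 : S.K) : X) = ((1 : S.H₀) : X)).trans (1 : S.H₀).2.choose_spec.2.choose_spec)).2
    rw [show (1 : S.H₀).2.choose_spec.2.choose = 1 from Subtype.ext h.symm, map_one]
  map_mul' x y := by
    rw [← map_mul]
    congr 1
    refine Subtype.ext ?_
    have hb : ((x.2.choose_spec.2.choose : S.K) : X) * y.2.choose * ((x.2.choose_spec.2.choose : S.K) : X)⁻¹ ∈ S.A :=
      S.K_conj _ y.2.choose_spec.1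
    refine (S.decomp_unique (x * y).2.choose_spec.1 (mul_mem x.2.choose_spec.1 hb)
      (k := ((x * y).2.choose_spec.2.choose : S.K))
      (l := ((x.2.choose_spec.2.choose * y.2.choose_spec.2.choose : S.K₀) : S.K)) ?_).2
    rw [← (x * y).2.choose_spec.2.choose_spec, Subgroup.coe_mul]
    conv_lhs => rw [x.2.choose_spec.2.choose_spec, y.2.choose_spec.2.choose_spec]
    push_cast; group

theorem proj_eq {a : X} (ha : a ∈ S.A) (k : S.K₀) (h : a * ((k : S.K) : X) ∈ S.H₀) :
    S.proj ⟨a * ((k : S.K) : X), h⟩ = S.iso k := by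
  show S.iso _ = S.iso k
  congr 1
  exact Subtype.ext (S.decomp_unique h.choose_spec.1 ha h.choose_spec.2.choose_spec.symm).2

theorem proj_one_iff (x : S.H₀) : S.proj x = 1 ↔ (x : X) ∈ S.A := by
  obtain ⟨x, hx⟩ := x
  obtain ⟨a, ha, k, rfl⟩ := id hx
  rw [S.proj_eq ha k hx, map_eq_one_iff _ S.iso.injective]
  constructor
  · rintro rfl; simpa using ha
  · intro hA
    exact Subtype.ext (S.decomp_unique ha hA (k := (k : S.K)) (l := 1) (by simp)).2

theorem actQ_val (q : PG) (m : Additive S.A) :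
    ((Additive.toMul (S.uact.actQ q m) : S.A) : X) = S.kx q * (Additive.toMul m : S.A) * (S.kx q)⁻¹ := by
  induction q using QuotientGroup.induction_on with | _ g =>
  rw [S.uact.actQ_mk]
  exact S.conjA_val g m

theorem conj_proj (x : S.H₀) {b : X} (hb : b ∈ S.A) :
    (x : X) * b * (x : X)⁻¹ = S.kx (S.proj x) * b * (S.kx (S.proj x))⁻¹ := by
  obtain ⟨x, hx⟩ := x
  obtain ⟨a, ha, k, rfl⟩ := id hx
  rw [S.proj_eq ha k hx, kx, MulEquiv.symm_apply_apply]
  have hc := S.K_conj (k : S.K) hb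
  show a * ((k : S.K) : X) * b * (a * ((k : S.K) : X))⁻¹ = _
  rw [show a * ((k : S.K) : X) * b * (a * ((k : S.K) : X))⁻¹ = a * (((k : S.K) : X) * b * ((k : S.K) : X)⁻¹) * a⁻¹ by group,
    S.comm a ha _ hc, mul_inv_cancel_right]

theorem fixV_card (T : Set X) (P : Set PG) (hP : ∀ q, q ∈ P ↔ ∃ h : S.H₀, (h : X) ∈ T ∧ S.proj h = q) (hT : ∀ t ∈ T, t ∈ S.H₀) :
    Nat.card ↥(S.A ⊓ centralizer T) = Nat.card (fixV S.uact P) := by
  have key : ∀ (b : X) (hb : b ∈ S.A), Additive.ofMul (⟨b, hb⟩ : S.A) ∈ fixV S.uact P ↔ b ∈ centralizer T := by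
    intro b hb
    constructor
    · intro h t ht
      have e := congrArg (fun m => ((Additive.toMul m : S.A) : X)) (h _ ((hP _).2 ⟨⟨t, hT t ht⟩, ht, rfl⟩))
      simp only [actQ_val] at e
      have e' : t * b * t⁻¹ = b := (S.conj_proj ⟨t, hT t ht⟩ hb).trans e
      exact mul_inv_eq_iff_eq_mul.1 e'
    · intro h q hq
      obtain ⟨x, hx, rfl⟩ := (hP q).1 hq
      refine S.ext_val ?_
      rw [actQ_val]
      show S.kx (S.proj x) * b * (S.kx (S.proj x))⁻¹ = b
      rw [← S.conj_proj x hb, show (x : X) * b = b * x from h x hx, mul_inv_cancel_right]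
  refine Nat.card_congr
    { toFun := fun b => ⟨Additive.ofMul ⟨b, (Subgroup.mem_inf.1 b.2).1⟩, (key _ _).2 (Subgroup.mem_inf.1 b.2).2⟩
      invFun := fun m => ⟨((Additive.toMul m.1 : S.A) : X),
        Subgroup.mem_inf.2 ⟨(Additive.toMul m.1).2, (key _ (Additive.toMul m.1).2).1 m.2⟩⟩
      left_inv := fun b => rfl
      right_inv := fun m => rfl }

theorem fix_one (x : S.H₀) :
    Nat.card ↥(S.A ⊓ centralizer ({(x : X)} : Set X)) = Nat.card (fixV S.uact {S.proj x}) := by
  refine S.fixV_card _ _ (fun q => ⟨?_, ?_⟩) (fun t ht => by rw [Set.mem_singleton_iff.1 ht]; exact x.2)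
  · intro hq; exact ⟨x, rfl, (Set.mem_singleton_iff.1 hq).symm⟩
  · rintro ⟨h, hh, rfl⟩
    rw [Set.mem_singleton_iff, Subtype.ext (Set.mem_singleton_iff.1 hh)]

theorem proj_order {p : ℕ} (hp : p.Prime) (hp2 : p ≠ 2) {x : S.H₀} (hx : orderOf (x : X) = p) :
    orderOf (S.proj x) = p := by
  haveI : Fact p.Prime := ⟨hp⟩
  have hx' : x ^ p = 1 := Subtype.ext (by
    show ((x : X)) ^ p = 1
    rw [← hx]; exact pow_orderOf_eq_one _)
  refine orderOf_eq_prime (by rw [← map_pow, hx', map_one]) fun e => ?_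
  have hA := (S.proj_one_iff x).1 e
  have := orderOf_dvd_of_pow_eq_one (show (x : X) ^ 2 = 1 by rw [pow_two]; exact S.sq _ hA)
  rw [hx] at this
  exact hp2 ((Nat.prime_dvd_prime_iff_eq hp Nat.prime_two).1 this)

theorem K_card : Nat.card S.K ∣ 2 * 9196830720 := by
  have hidx : S.K₀.index ∣ 2 := by
    have hle : S.K₀.index ≤ 2 := by
      by_contra h
      haveI := S.normal
      have h3 : 2 < Nat.card (S.K ⧸ S.K₀) := by rw [← Subgroup.index_eq_card]; omega
      haveI := Fintype.ofFinite (S.K ⧸ S.K₀)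
      rw [Nat.card_eq_fintype_card] at h3
      classical
      obtain ⟨a, b, c, hab, hac, hbc⟩ := Fintype.two_lt_card_iff.1 h3
      have hone : ∀ u v : S.K ⧸ S.K₀, u ≠ 1 → v ≠ 1 → u * v = 1 := by
        intro u v
        induction u using QuotientGroup.induction_on with | _ x =>
        induction v using QuotientGroup.induction_on with | _ y =>
        intro hu hv
        rw [← QuotientGroup.mk_mul, QuotientGroup.eq_one_iff]
        exact S.pair x y (fun h => hu ((QuotientGroup.eq_one_iff x).2 h)) (fun h => hv ((QuotientGroup.eq_one_iff y).2 h))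
      have huniq : ∀ u v : S.K ⧸ S.K₀, u ≠ 1 → v ≠ 1 → u = v := fun u v hu hv =>
        mul_left_cancel ((hone u u hu hu).trans (hone u v hu hv).symm)
      rcases eq_or_ne a 1 with rfl | ha
      · exact hbc (huniq b c hab.symm hac.symm)
      rcases eq_or_ne b 1 with rfl | hb
      · exact hac (huniq a c ha hbc.symm)
      · exact hab (huniq a b ha hb)
    have hne : S.K₀.index ≠ 0 := Subgroup.index_ne_zero_of_finite
    rcases (show S.K₀.index = 1 ∨ S.K₀.index = 2 by omega) with e | e <;> rw [e]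
    exact one_dvd 2
  rw [← S.K₀.card_mul_index, Nat.card_congr S.iso.toEquiv, card_PG, mul_comm 2]
  exact mul_dvd_mul_left _ hidx

theorem facts : Facts S.A S.H S.H₀ where
  card := S.card
  sq := S.sq
  comm := S.comm
  norm h := by rw [S.hH, Subgroup.mem_normalizer_iff]
  cent h := S.cent_le
  leA := S.A_le₀
  le := S.H₀_le
  normal := by
    intro h hh g hg
    obtain ⟨a, ha, k, rfl⟩ := S.decomp hh
    obtain ⟨b, hb, l, rfl⟩ := hg
    have haA : a ∈ S.H₀ := S.A_le₀ ha
    have hk : (k * l * k⁻¹ : S.K) ∈ S.K₀ := S.normal.conj_mem _ l.2 k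
    rw [show a * (k : X) * (b * ((l : S.K) : X)) * (a * (k : X))⁻¹ =
      a * (((k : X) * b * (k : X)⁻¹) * ((k * l * k⁻¹ : S.K) : X)) * a⁻¹ by push_cast; group]
    exact mul_mem (mul_mem haA ((S.mem_H₀ (S.K_conj k hb) _).2 hk)) (inv_mem haA)
  idx := by
    intro x hx y hy hx0 hy0
    obtain ⟨a, ha, k, rfl⟩ := S.decomp hx
    obtain ⟨b, hb, l, rfl⟩ := S.decomp hy
    rw [S.mem_H₀ ha] at hx0
    rw [S.mem_H₀ hb] at hy0
    rw [show a * (k : X) * (b * (l : X)) = a * ((k : X) * b * (k : X)⁻¹) * ((k * l : S.K) : X) by push_cast; group,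
      S.mem_H₀ (mul_mem ha (S.K_conj k hb))]
    exact S.pair k l hx0 hy0
  central := by
    intro s hs hc
    obtain ⟨a, ha, k, rfl⟩ := S.decomp hs
    rw [S.mem_H₀ ha]
    suffices k = 1 by rw [this]; exact one_mem _
    refine S.cz k fun g hg => ?_
    have h1 := hc (g : X) (by simpa using (S.mem_H₀ (one_mem _) g).2 hg)
    have hc' := S.K_conj (k * g * k⁻¹) (inv_mem ha)
    have h2 : ((k * g * k⁻¹ * g⁻¹ : S.K) : X) ∈ S.A ⊓ S.K := Subgroup.mem_inf.2 ⟨by
      rw [show ((k * g * k⁻¹ * g⁻¹ : S.K) : X) =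
        (((k * g * k⁻¹ : S.K) : X) * a⁻¹ * ((k * g * k⁻¹ : S.K) : X)⁻¹)⁻¹ * a⁻¹ *
          (a * (k : X) * (g : X) * (a * (k : X))⁻¹ * (g : X)⁻¹) by push_cast; group]
      exact mul_mem (mul_mem (inv_mem hc') (inv_mem ha)) h1, SetLike.coe_mem _⟩
    rw [S.hAK, mem_bot] at h2
    exact mul_inv_eq_iff_eq_mul.1 (mul_inv_eq_one.1 (Subtype.ext h2 : k * g * k⁻¹ * g⁻¹ = 1))
  prime := by
    intro p hp hd
    rw [S.card_H] at hd
    have hd := hd.trans (mul_dvd_mul_left (2 ^ 20) S.K_card)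
    rw [show (2 : ℕ) ^ 20 * (2 * 9196830720) = 2 ^ 36 * (3 ^ 6 * (5 * (7 * 11))) by norm_num] at hd
    have small : ∀ {q}, Nat.Prime q → p ∣ q → p = q := fun hq h => (Nat.prime_dvd_prime_iff_eq hp hq).1 h
    rcases (Nat.Prime.dvd_mul hp).1 hd with h | h
    · have := small Nat.prime_two (hp.dvd_of_dvd_pow h); omega
    rcases (Nat.Prime.dvd_mul hp).1 h with h | h
    · have := small Nat.prime_three (hp.dvd_of_dvd_pow h); omega
    rcases (Nat.Prime.dvd_mul hp).1 h with h | h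
    · have := small Nat.prime_five h; omega
    rcases (Nat.Prime.dvd_mul hp).1 h with h | h
    · have := small (by norm_num : Nat.Prime 7) h; omega
    · have := small (by norm_num : Nat.Prime 11) h; omega
  elem := by
    intro U hU hc hsq hne p hp
    set V := (U.subgroupOf S.H₀).map S.proj with hV
    have hfix : Nat.card ↥(S.A ⊓ centralizer (U : Set X)) = Nat.card (fixV S.uact (V : Set PG)) :=
      S.fixV_card _ _ (fun q => ⟨by rintro ⟨h, hh, e⟩; exact ⟨h, hh, e⟩, by rintro ⟨h, hh, e⟩; exact ⟨h, hh, e⟩⟩)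
        (fun t ht => hU ht)
    have hcard : Nat.card V * Nat.card ↥(U ⊓ S.A) = Nat.card U := by
      let f : U →* PG := S.proj.comp (Subgroup.inclusion hU)
      have hr : f.range = V := by
        ext q
        constructor
        · rintro ⟨u, rfl⟩; exact ⟨_, u.2, rfl⟩
        · rintro ⟨h, hh, rfl⟩; exact ⟨⟨h, hh⟩, rfl⟩
      have hk : Nat.card f.ker = Nat.card ↥(U ⊓ S.A) := by
        have : f.ker = (U ⊓ S.A).subgroupOf U := by
          ext u
          rw [MonoidHom.mem_ker, Subgroup.mem_subgroupOf, Subgroup.mem_inf]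
          exact ((S.proj_one_iff _).trans ⟨fun h => ⟨u.2, h⟩, fun h => h.2⟩)
        rw [this]
        exact Nat.card_congr (Subgroup.subgroupOfEquivOfLe inf_le_left).toEquiv
      rw [← hr, ← hk, ← Subgroup.index_ker, mul_comm]
      exact Subgroup.card_mul_index _
    have hpV : p = Nat.card V := Nat.eq_of_mul_eq_mul_right Nat.card_pos (hp.trans hcard.symm)
    rw [hfix, hpV]
    have h := S.uact.elem_conj V
      (by rintro _ ⟨a, ha, rfl⟩ _ ⟨b, hb, rfl⟩; rw [← map_mul, ← map_mul, show a * b = b * a from Subtype.ext (hc _ ha _ hb)])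
      (by rintro _ ⟨a, ha, rfl⟩; rw [← map_mul, show a * a = 1 from Subtype.ext (hsq _ ha), map_one])
      (fun e => hne fun u hu => (S.proj_one_iff ⟨u, hU hu⟩).1 (by
        have : S.proj ⟨u, hU hu⟩ ∈ V := ⟨_, hu, rfl⟩
        rw [e, mem_bot] at this
        exact this))
    refine h.imp id ?_
    rintro ⟨_, ⟨v, hv, rfl⟩, h1, h2⟩
    exact ⟨v, hv, (S.fix_one v).trans h1, h2⟩
  fix := by
    intro h hh hA
    rw [S.fix_one ⟨h, hh⟩]
    exact S.uact.fix_le fun e => hA ((S.proj_one_iff _).1 e)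
  three := by
    intro h hh ho
    rw [S.fix_one ⟨h, hh⟩]
    exact S.uact.fix3 (S.proj_order Nat.prime_three (by norm_num) ho)
  seven := by
    intro h hh ho
    rw [S.fix_one ⟨h, hh⟩]
    exact S.uact.fix7 (S.proj_order (by norm_num) (by norm_num) ho)
  stab := by
    intro B hB hcard
    classical
    let χ : Additive S.A → ℕ := fun m => if ((Additive.toMul m : S.A) : X) ∈ B then 0 else 1
    have hidx : (B.subgroupOf S.A).index = 2 := by
      have h := (B.subgroupOf S.A).card_mul_index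
      rw [Nat.card_congr (Subgroup.subgroupOfEquivOfLe hB).toEquiv, S.card, ← hcard, mul_comm 2] at h
      exact Nat.eq_of_mul_eq_mul_left Nat.card_pos h
    have hadd : ∀ a b, χ (a + b) = χ a ^^^ χ b := fun a b => by
      have h := Subgroup.mul_mem_iff_of_index_two hidx (a := Additive.toMul a) (b := Additive.toMul b)
      rw [Subgroup.mem_subgroupOf, Subgroup.mem_subgroupOf, Subgroup.mem_subgroupOf, Subgroup.coe_mul] at h
      show (if _ then _ else _) = _
      rw [show ((Additive.toMul (a + b) : S.A) : X) = (Additive.toMul a : S.A) * (Additive.toMul b : S.A) from rfl]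
      by_cases ha : ((Additive.toMul a : S.A) : X) ∈ B <;> by_cases hb : ((Additive.toMul b : S.A) : X) ∈ B <;>
        simp [χ, h, ha, hb]
    obtain ⟨a, ha, haB⟩ : ∃ a ∈ S.A, a ∉ B := by
      by_contra h
      push Not at h
      rw [le_antisymm hB h, S.card] at hcard
      norm_num at hcard
    obtain ⟨e, f, he, hf, hcm, hne, hχe, hχf⟩ := S.uact.hyper_pair χ hadd (fun m => by simp only [χ]; split <;> omega)
      ⟨Additive.ofMul ⟨a, ha⟩, by simp [χ, haB]⟩
    let κ : PG →* X := MonoidHom.mk' S.kx S.kx_mul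
    have hinj : Function.Injective κ := fun g g' h => S.iso.symm.injective (Subtype.ext (Subtype.ext h))
    have hB' : ∀ g : PG, (∀ m, χ (S.uact.actQ g m) = χ m) → ∀ b, b ∈ B ↔ S.kx g * b * (S.kx g)⁻¹ ∈ B := by
      intro g hg b
      have hgH : S.kx g ∈ S.H := S.K_mem _
      by_cases hbA : b ∈ S.A
      · have e := hg (Additive.ofMul ⟨b, hbA⟩)
        simp only [χ, actQ_val] at e
        change (if S.kx g * b * (S.kx g)⁻¹ ∈ B then 0 else 1) = (if b ∈ B then 0 else 1) at e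
        split_ifs at e <;> tauto
      · refine iff_of_false (fun h => hbA (hB h)) fun h => hbA ?_
        have := S.conj_A (inv_mem hgH) (hB h)
        rwa [show (S.kx g)⁻¹ * (S.kx g * b * (S.kx g)⁻¹) * (S.kx g)⁻¹⁻¹ = b by group] at this
    refine ⟨κ e, S.K_mem _, κ f, S.K_mem _, by rw [orderOf_injective κ hinj, he], by rw [orderOf_injective κ hinj, hf],
      by rw [← map_mul, ← map_mul, hcm], fun h => hne ?_, hB' e hχe, hB' f hχf⟩
    obtain ⟨i, hi⟩ := h
    exact ⟨i, hinj (by rw [map_zpow]; exact hi)⟩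

theorem conclusion :
    S.H = ⊤ ∨ ∃ g : X, g ∉ S.H ∧ 3 ∣ Nat.card ↥(S.H ⊓ S.H.map (MulAut.conj g).toMonoidHom) := by
  by_cases h : ∃ g : X, g ∉ S.H ∧ 3 ∣ Nat.card ↥(S.H ⊓ S.H.map (MulAut.conj g).toMonoidHom)
  · exact Or.inr h
  · refine Or.inl (top_of_facts S.facts fun x hx ho g hg => by_contra fun hgH => h ⟨g, hgH, ?_⟩)
    have hmem : x ∈ S.H ⊓ S.H.map (MulAut.conj g).toMonoidHom := by
      refine Subgroup.mem_inf.2 ⟨hx, x, hx, ?_⟩
      show g * x * g⁻¹ = x
      rw [show g * x = x * g from (hg x rfl).symm, mul_inv_cancel_right]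
    rw [← ho, ← Subgroup.orderOf_mk x hmem]
    exact orderOf_dvd_natCard _

end Setting

end CfsgU6Mod
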